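import Cfsg.Agent.Helper27.OutM24
import Cfsg.Agent.Helper7.M24Stab

/-!
`M22` as the pointwise stabiliser of `∞` and `0`: order, four-point stabilisers, Sylow conjugacy.
-/

set_option autoImplicit false

namespace Cfsg.Agent.Helper27

open Cfsg Cfsg.Agent.Helper7

/-- `M22` as a group of permutations: the stabiliser of `∞` and `0` -/
def M22p : Subgroup (Equiv.Perm GolayPt) := fixG M24 [0, 23]

theorem pt_zero : pt 0 = some 0 := rfl

theorem pt_last : pt 23 = none := rfl

theorem mem_M22p {g : Equiv.Perm GolayPt} :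
    g ∈ M22p ↔ g ∈ M24 ∧ g (some 0) = some 0 ∧ g none = none := by
  unfold M22p
  rw [mem_fixG]
  constructor
  · rintro ⟨h1, h2⟩
    exact ⟨h1, h2 0 (by simp), h2 23 (by simp)⟩
  · rintro ⟨h1, h2, h3⟩
    refine ⟨h1, fun i hi => ?_⟩
    rw [List.mem_cons, List.mem_singleton] at hi
    rcases hi with rfl | rfl
    · exact h2
    · exact h3

theorem M22p_le_M24 : M22p ≤ M24 := fun _ hg => (mem_M22p.mp hg).1

theorem M22p_le_M23p : M22p ≤ M23p := fun _ hg => ⟨(mem_M22p.mp hg).1, (mem_M22p.mp hg).2.2⟩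

theorem card_M22p : Nat.card M22p = 443520 := by
  obtain ⟨g, hg, h⟩ := m24_exists_map 2 (by norm_num) ⟨![pt 23, pt 0], by
    intro i j hij
    fin_cases i <;> fin_cases j <;> first | rfl | (exfalso; revert hij; decide)⟩
  have h0 : g (pt 0) = pt 23 := h 0
  have h1 : g (pt 1) = pt 0 := h 1
  have e := fixGConj hg [1, 0] [0, 23] (by
    simp only [List.map_cons, List.map_nil, h0, h1]
    rfl)
  unfold M22p
  rw [← Nat.card_congr e.toEquiv, card_fixG_m24_2]

theorem card_fixG_m24_4 : Nat.card (fixG M24 [3, 2, 1, 0]) = 960 := by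
  have := card_fixG_m24 4
  have h1 : baseRev m24Levels 4 ++ [] = [3, 2, 1, 0] := by decide +kernel
  rw [h1] at this
  rw [this]
  decide +kernel

/-- the stabiliser of four points has order `960` -/
theorem card_fixG4 {i j : ℕ} (hi : i < 23) (hj : j < 23) (hi0 : i ≠ 0) (hj0 : j ≠ 0)
    (hij : i ≠ j) : Nat.card (fixG M24 [j, i, 0, 23]) = 960 := by
  have hinj : Function.Injective ![pt 23, pt 0, pt i, pt j] := by
    intro u v huv
    have hidx : ∀ w : Fin 4, idx (![pt 23, pt 0, pt i, pt j] w) = ![23, 0, i, j] w := by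
      intro w
      fin_cases w
      · rfl
      · rfl
      · exact idx_pt (by omega)
      · exact idx_pt (by omega)
    have h2 := congrArg idx huv
    rw [hidx, hidx] at h2
    fin_cases u <;> fin_cases v <;> first | rfl | (exfalso; simp at h2 <;> omega)
  obtain ⟨g, hg, h⟩ := m24_exists_map 4 (by norm_num) ⟨![pt 23, pt 0, pt i, pt j], hinj⟩
  have h0 : g (pt 0) = pt 23 := h 0
  have h1 : g (pt 1) = pt 0 := h 1
  have h2 : g (pt 2) = pt i := h 2
  have h3 : g (pt 3) = pt j := h 3
  have e := fixGConj hg [3, 2, 1, 0] [j, i, 0, 23] (by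
    simp only [List.map_cons, List.map_nil, h0, h1, h2, h3]
    rw [idx_pt (by omega : j < 24), idx_pt (by omega : i < 24)]
    rfl)
  rw [← Nat.card_congr e.toEquiv, card_fixG_m24_4]

/-- two elements of prime order `p` generate conjugate subgroups when `p ^ 2` does not divide the
group order -/
theorem exists_conj_mem_zpowers' {G : Type*} [Group G] [Finite G] (p : ℕ) [Fact p.Prime] (a x : G)
    (ha : orderOf a = p) (hx : orderOf x = p) (hp2 : ¬ p ^ 2 ∣ Nat.card G) :
    ∃ g : G, g * x * g⁻¹ ∈ Subgroup.zpowers a := by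
  have hpp : p.Prime := Fact.out
  have hcard : Nat.card (Subgroup.zpowers a) = p := by rw [Nat.card_zpowers, ha]
  have hcard' : Nat.card (Subgroup.zpowers x) = p := by rw [Nat.card_zpowers, hx]
  have hdvd : p ∣ Nat.card G := hcard ▸ Subgroup.card_subgroup_dvd_card _
  have hpos : Nat.card G ≠ 0 := Nat.card_pos.ne'
  have hfac : (Nat.card G).factorization p = 1 := by
    have h1 : 0 < (Nat.card G).factorization p := hpp.factorization_pos_of_dvd hpos hdvd
    have h2 : (Nat.card G).factorization p < 2 := by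
      by_contra h
      rw [not_lt] at h
      exact hp2 ((pow_dvd_pow p h).trans (Nat.ordProj_dvd _ _))
    omega
  let S1 : Sylow p G := Sylow.ofCard (Subgroup.zpowers a) (by rw [hcard, hfac, pow_one])
  let S2 : Sylow p G := Sylow.ofCard (Subgroup.zpowers x) (by rw [hcard', hfac, pow_one])
  obtain ⟨g, hg⟩ := MulAction.exists_smul_eq G S2 S1
  refine ⟨g, ?_⟩
  have h1 : x ∈ (S2 : Subgroup G) := Subgroup.mem_zpowers _
  have h2 : g * x * g⁻¹ ∈ ((g • S2 : Sylow p G) : Subgroup G) := by
    rw [Sylow.coe_subgroup_smul]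
    exact Subgroup.smul_mem_pointwise_smul _ _ _ h1
  rw [hg] at h2
  exact h2

end Cfsg.Agent.Helper27
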