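import Mathlib
import Cfsg.Prelude.Def_Sporadic_a

/-!
Counting in Steiner systems `Cfsg.IsSteinerSystem t k B`: the number of blocks through an
`i`-subset (`i ≤ t`).
-/

set_option autoImplicit false

namespace Cfsg.Agent.Helper27

open Cfsg

variable {α : Type*} [Fintype α] [DecidableEq α]

/-- In a Steiner system `S(t, k, v)`, the number `λ` of blocks containing a given set `s` with
`|s| ≤ t` satisfies `λ * C(k - |s|, t - |s|) = C(v - |s|, t - |s|)`. -/
theorem steiner_ncard_blocks_mul {t k : ℕ} {B : Set (Finset α)} (hB : IsSteinerSystem t k B)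
    (s : Finset α) (hs : s.card ≤ t) :
    {b | b ∈ B ∧ s ⊆ b}.ncard * (k - s.card).choose (t - s.card) =
      (Fintype.card α - s.card).choose (t - s.card) := by
  classical
  obtain ⟨hk, hex⟩ := hB
  -- the t-subsets containing s
  set U : Finset (Finset α) := (Finset.powersetCard t Finset.univ).filter (s ⊆ ·) with hU
  have hUcard : U.card = (Fintype.card α - s.card).choose (t - s.card) := by
    rw [hU, Finset.card_filter_powersetCard_subset s Finset.univ t (Finset.subset_univ _) hs,
      Finset.card_univ]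
  -- the blocks containing s
  set Bs : Finset (Finset α) := Finset.univ.filter (fun b => b ∈ B ∧ s ⊆ b) with hBs
  have hBs_ncard : {b | b ∈ B ∧ s ⊆ b}.ncard = Bs.card := by
    rw [← Set.ncard_coe_finset]
    congr 1
    ext b
    simp [hBs]
  -- the block through a t-set
  have hblock : ∀ u ∈ U, ∃ b, b ∈ Bs ∧ u ⊆ b ∧ ∀ b', b' ∈ B → u ⊆ b' → b' = b := by
    intro u hu
    rw [hU, Finset.mem_filter, Finset.mem_powersetCard] at hu
    obtain ⟨b, ⟨hbB, hub⟩, huniq⟩ := hex u hu.1.2
    refine ⟨b, ?_, hub, fun b' hb' hub' => huniq b' ⟨hb', hub'⟩⟩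
    rw [hBs, Finset.mem_filter]
    exact ⟨Finset.mem_univ _, hbB, hu.2.trans hub⟩
  choose! β hβ using hblock
  have hcount : U.card = ∑ b ∈ Bs, (U.filter fun u => β u = b).card :=
    Finset.card_eq_sum_card_fiberwise (fun u hu => (hβ u hu).1)
  have hfiber : ∀ b ∈ Bs, (U.filter fun u => β u = b).card = (k - s.card).choose (t - s.card) := by
    intro b hb
    rw [hBs, Finset.mem_filter] at hb
    have hbk : b.card = k := hk b hb.2.1
    rw [← hbk, ← Finset.card_filter_powersetCard_subset s b t hb.2.2 hs]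
    congr 1
    ext u
    simp only [hU, Finset.mem_filter, Finset.mem_powersetCard, Finset.subset_univ, true_and]
    constructor
    · rintro ⟨⟨hut, hsu⟩, hβu⟩
      have := hβ u (by rw [hU, Finset.mem_filter, Finset.mem_powersetCard]; exact ⟨⟨Finset.subset_univ _, hut⟩, hsu⟩)
      rw [hβu] at this
      exact ⟨⟨this.2.1, hut⟩, hsu⟩
    · rintro ⟨⟨hub, hut⟩, hsu⟩
      refine ⟨⟨hut, hsu⟩, ?_⟩
      have := hβ u (by rw [hU, Finset.mem_filter, Finset.mem_powersetCard]; exact ⟨⟨Finset.subset_univ _, hut⟩, hsu⟩)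
      exact (this.2.2 b hb.2.1 hub).symm
  rw [hBs_ncard, ← hUcard, hcount, Finset.sum_congr rfl hfiber, Finset.sum_const, smul_eq_mul]

/-- the number of blocks of a Steiner system through a set `s` with `|s| ≤ t`, as a quotient -/
theorem steiner_ncard_blocks {t k : ℕ} {B : Set (Finset α)} (hB : IsSteinerSystem t k B)
    (s : Finset α) (hs : s.card ≤ t) (hpos : 0 < (k - s.card).choose (t - s.card)) :
    {b | b ∈ B ∧ s ⊆ b}.ncard =
      (Fintype.card α - s.card).choose (t - s.card) / (k - s.card).choose (t - s.card) := by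
  rw [← steiner_ncard_blocks_mul hB s hs, Nat.mul_div_cancel _ hpos]

/-- A family of `k`-sets, pairwise meeting in fewer than `t` points, with exactly
`C(v, t) / C(k, t)` members, is a Steiner system `S(t, k, v)`. -/
theorem steiner_of_card {t k : ℕ} (𝔅 : Finset (Finset α)) (hk : ∀ b ∈ 𝔅, b.card = k)
    (hinter : ∀ b ∈ 𝔅, ∀ b' ∈ 𝔅, b ≠ b' → (b ∩ b').card < t)
    (hcard : 𝔅.card * k.choose t = (Fintype.card α).choose t) :
    IsSteinerSystem t k (𝔅 : Set (Finset α)) := by
  classical
  refine ⟨fun b hb => hk b hb, ?_⟩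
  have huniq : ∀ s : Finset α, s.card = t → ∀ o ∈ 𝔅, ∀ o' ∈ 𝔅, s ⊆ o → s ⊆ o' → o = o' := by
    intro s hs o ho o' ho' hso hso'
    by_contra hne
    have h1 := hinter o ho o' ho' hne
    have h2 := Finset.card_le_card (Finset.subset_inter hso hso')
    omega
  have hdisj : (𝔅 : Set (Finset α)).PairwiseDisjoint (fun o => Finset.powersetCard t o) := by
    intro o ho o' ho' hne
    rw [Function.onFun, Finset.disjoint_left]
    intro s hs hs'
    rw [Finset.mem_powersetCard] at hs hs'
    exact hne (huniq s hs.2 o ho o' ho' hs.1 hs'.1)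
  have hunion : (𝔅.biUnion fun o => Finset.powersetCard t o) = Finset.powersetCard t Finset.univ := by
    apply Finset.eq_of_subset_of_card_le
    · intro s hs
      rw [Finset.mem_biUnion] at hs
      obtain ⟨o, _, hs⟩ := hs
      rw [Finset.mem_powersetCard] at hs ⊢
      exact ⟨Finset.subset_univ _, hs.2⟩
    · rw [Finset.card_biUnion hdisj, Finset.card_powersetCard, Finset.card_univ, ← hcard]
      have : ∀ o ∈ 𝔅, (Finset.powersetCard t o).card = k.choose t := by
        intro o ho
        rw [Finset.card_powersetCard, hk o ho]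
      rw [Finset.sum_congr rfl this, Finset.sum_const, smul_eq_mul]
  intro s hs
  have : s ∈ Finset.powersetCard t (Finset.univ : Finset α) := by
    rw [Finset.mem_powersetCard]; exact ⟨Finset.subset_univ _, hs⟩
  rw [← hunion, Finset.mem_biUnion] at this
  obtain ⟨o, ho, hso⟩ := this
  rw [Finset.mem_powersetCard] at hso
  refine ⟨o, ⟨ho, hso.1⟩, ?_⟩
  rintro o' ⟨ho', hso'⟩
  exact huniq s hs o' ho' o ho hso' hso.1


end Cfsg.Agent.Helper27
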