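import Cfsg.Agent.Helper27.GolayWeights
import Cfsg.Agent.Helper27.Steiner

/-!
Sets versus words; the octads of `Cfsg.golayCode` form a Steiner system S(5, 8, 24).
-/

set_option autoImplicit false

namespace Cfsg.Agent.Helper27

open Cfsg

section generic
variable {α : Type*} [Fintype α] [DecidableEq α]

/-- indicator word of a set -/
def indWord (s : Finset α) : α → ZMod 2 := fun p => if p ∈ s then 1 else 0

theorem zmod2_eq_one_of_ne_zero {a : ZMod 2} (h : a ≠ 0) : a = 1 := by
  revert a; decide

theorem support₂_indWord (s : Finset α) : support₂ (indWord s) = s := by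
  ext p
  simp only [support₂, indWord, Finset.mem_filter, Finset.mem_univ, true_and]
  by_cases h : p ∈ s <;> simp [h]

theorem indWord_support₂ (w : α → ZMod 2) : indWord (support₂ w) = w := by
  funext p
  simp only [support₂, indWord, Finset.mem_filter, Finset.mem_univ, true_and]
  by_cases h : w p = 0
  · simp [h]
  · simp [h, zmod2_eq_one_of_ne_zero h]

theorem support₂_injective : Function.Injective (support₂ : (α → ZMod 2) → Finset α) := by
  intro v w h
  rw [← indWord_support₂ v, ← indWord_support₂ w, h]

theorem hammingNorm_eq_card_support₂ (w : α → ZMod 2) : hammingNorm w = (support₂ w).card := rfl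

theorem hammingNorm_indWord (s : Finset α) : hammingNorm (indWord s) = s.card := by
  rw [hammingNorm_eq_card_support₂, support₂_indWord]

theorem support₂_add (v w : α → ZMod 2) : support₂ (v + w) = symmDiff (support₂ v) (support₂ w) := by
  ext p
  simp only [support₂, Finset.mem_symmDiff, Finset.mem_filter, Finset.mem_univ, true_and, Pi.add_apply]
  generalize v p = a
  generalize w p = b
  revert a b
  decide

theorem indWord_symmDiff (s t : Finset α) : indWord (symmDiff s t) = indWord s + indWord t := by
  apply support₂_injective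
  rw [support₂_add, support₂_indWord, support₂_indWord, support₂_indWord]

theorem card_symmDiff_add (s t : Finset α) : (symmDiff s t).card + 2 * (s ∩ t).card = s.card + t.card := by
  have h1 : (symmDiff s t).card = (s \ t).card + (t \ s).card := by
    rw [symmDiff_def, Finset.sup_eq_union, Finset.card_union_of_disjoint]
    rw [Finset.disjoint_left]
    intro a ha hb
    rw [Finset.mem_sdiff] at ha hb
    exact ha.2 hb.1
  have h2 := Finset.card_sdiff_add_card_inter s t
  have h3 := Finset.card_sdiff_add_card_inter t s
  rw [Finset.inter_comm t s] at h3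
  omega

theorem support₂_zero : support₂ (0 : α → ZMod 2) = ∅ := by
  ext p; simp [support₂]

theorem indWord_empty : indWord (∅ : Finset α) = 0 := by
  funext p; simp [indWord]

theorem mem_supports_iff (C : Set (α → ZMod 2)) (s : Finset α) : s ∈ supports C ↔ indWord s ∈ C := by
  constructor
  · rintro ⟨w, hw, rfl⟩
    rwa [indWord_support₂]
  · intro h
    exact ⟨indWord s, h, support₂_indWord s⟩

end generic

theorem mem_octads_iff (o : Finset GolayPt) : o ∈ octads ↔ indWord o ∈ golayCode ∧ o.card = 8 := by
  unfold octads wordsOfWeight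
  rw [Set.mem_ofPred_eq, mem_supports_iff]
  rfl

theorem mem_dodecads_iff (d : Finset GolayPt) : d ∈ dodecads ↔ indWord d ∈ golayCode ∧ d.card = 12 := by
  unfold dodecads wordsOfWeight
  rw [Set.mem_ofPred_eq, mem_supports_iff]
  rfl

theorem octads_eq_image : octads = support₂ '' {w | w ∈ golayCode ∧ hammingNorm w = 8} := by
  ext o
  rw [mem_octads_iff]
  constructor
  · rintro ⟨h1, h2⟩
    exact ⟨indWord o, ⟨h1, by rw [hammingNorm_indWord, h2]⟩, support₂_indWord o⟩
  · rintro ⟨w, ⟨h1, h2⟩, rfl⟩
    rw [indWord_support₂]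
    exact ⟨h1, h2⟩

theorem octads_ncard : octads.ncard = 759 := by
  rw [octads_eq_image, Set.InjOn.ncard_image (support₂_injective.injOn), ncard_weight8]

theorem octads_finite : octads.Finite := Set.toFinite _

/-- two distinct octads meet in at most four points -/
theorem octad_inter_le {o o' : Finset GolayPt} (ho : o ∈ octads) (ho' : o' ∈ octads) (h : o ≠ o') :
    (o ∩ o').card ≤ 4 := by
  rw [mem_octads_iff] at ho ho'
  have h1 : indWord (symmDiff o o') ∈ golayCode := by
    rw [indWord_symmDiff]; exact golayCode.add_mem ho.1 ho'.1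
  have h2 : indWord (symmDiff o o') ≠ 0 := by
    intro h0
    have := congrArg support₂ h0
    rw [support₂_indWord, support₂_zero] at this
    have : symmDiff o o' = ⊥ := this
    rw [symmDiff_eq_bot] at this
    exact h this
  have h3 := eight_le_weight _ h1 h2
  rw [hammingNorm_indWord] at h3
  have h4 := card_symmDiff_add o o'
  omega

theorem octads_steiner : IsSteinerSystem 5 8 octads := by
  classical
  refine ⟨fun b hb => ((mem_octads_iff b).mp hb).2, ?_⟩
  -- the finset of octads
  set 𝒪 : Finset (Finset GolayPt) := octads_finite.toFinset with h𝒪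
  have hmem : ∀ o, o ∈ 𝒪 ↔ o ∈ octads := fun o => by rw [h𝒪, Set.Finite.mem_toFinset]
  have hcard : 𝒪.card = 759 := by
    rw [h𝒪, ← Set.ncard_eq_toFinset_card _ octads_finite, octads_ncard]
  -- uniqueness
  have huniq : ∀ s : Finset GolayPt, s.card = 5 → ∀ o ∈ octads, ∀ o' ∈ octads, s ⊆ o → s ⊆ o' → o = o' := by
    intro s hs o ho o' ho' hso hso'
    by_contra hne
    have h1 := octad_inter_le ho ho' hne
    have h2 := Finset.card_le_card (Finset.subset_inter hso hso')
    omega
  -- counting
  have hdisj : (𝒪 : Set (Finset GolayPt)).PairwiseDisjoint (fun o => Finset.powersetCard 5 o) := by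
    intro o ho o' ho' hne
    rw [Function.onFun, Finset.disjoint_left]
    intro s hs hs'
    rw [Finset.mem_powersetCard] at hs hs'
    exact hne (huniq s hs.2 o ((hmem o).mp ho) o' ((hmem o').mp ho') hs.1 hs'.1)
  have hunion : (𝒪.biUnion fun o => Finset.powersetCard 5 o) = Finset.powersetCard 5 Finset.univ := by
    apply Finset.eq_of_subset_of_card_le
    · intro s hs
      rw [Finset.mem_biUnion] at hs
      obtain ⟨o, _, hs⟩ := hs
      rw [Finset.mem_powersetCard] at hs ⊢
      exact ⟨Finset.subset_univ _, hs.2⟩
    · rw [Finset.card_biUnion hdisj, Finset.card_powersetCard]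
      have : ∀ o ∈ 𝒪, (Finset.powersetCard 5 o).card = 56 := by
        intro o ho
        rw [Finset.card_powersetCard, ((mem_octads_iff o).mp ((hmem o).mp ho)).2]
        rfl
      rw [Finset.sum_congr rfl this, Finset.sum_const, hcard]
      have : (Finset.univ : Finset GolayPt).card = 24 := by rfl
      rw [this]
      decide
  intro s hs
  have : s ∈ Finset.powersetCard 5 (Finset.univ : Finset GolayPt) := by
    rw [Finset.mem_powersetCard]; exact ⟨Finset.subset_univ _, hs⟩
  rw [← hunion, Finset.mem_biUnion] at this
  obtain ⟨o, ho, hso⟩ := this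
  rw [Finset.mem_powersetCard] at hso
  refine ⟨o, ⟨(hmem o).mp ho, hso.1⟩, ?_⟩
  rintro o' ⟨ho', hso'⟩
  exact huniq s hs o' ho' o ((hmem o).mp ho) hso' hso.1

/-- exactly five octads contain a given four-point set -/
theorem ncard_octads_through_four (T : Finset GolayPt) (hT : T.card = 4) :
    {o | o ∈ octads ∧ T ⊆ o}.ncard = 5 := by
  have h := steiner_ncard_blocks_mul octads_steiner T (by omega)
  rw [hT] at h
  have h24 : Fintype.card GolayPt = 24 := by rfl
  rw [h24] at h
  norm_num [Nat.choose] at h
  omega

theorem indWord_setOf (m : ℕ) : indWord (setOf m) = wordOf m := by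
  apply support₂_injective
  rw [support₂_indWord, support₂_wordOf]

/-- decidable membership in the octads, on masks -/
theorem setOf_mem_octads_iff {m : ℕ} (hm : m < 2 ^ 24) :
    setOf m ∈ octads ↔ isCode m = true ∧ popc 24 m = 8 := by
  rw [mem_octads_iff, indWord_setOf, wordOf_mem_golayCode_iff hm, card_setOf]

/-- decidable membership in the dodecads, on masks -/
theorem setOf_mem_dodecads_iff {m : ℕ} (hm : m < 2 ^ 24) :
    setOf m ∈ dodecads ↔ isCode m = true ∧ popc 24 m = 12 := by
  rw [mem_dodecads_iff, indWord_setOf, wordOf_mem_golayCode_iff hm, card_setOf]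

theorem mem_octads_iff_mask (o : Finset GolayPt) :
    o ∈ octads ↔ isCode (maskOfSet o) = true ∧ popc 24 (maskOfSet o) = 8 := by
  rw [← setOf_mem_octads_iff (maskOfSet_lt o), setOf_maskOfSet]

theorem mem_dodecads_iff_mask (d : Finset GolayPt) :
    d ∈ dodecads ↔ isCode (maskOfSet d) = true ∧ popc 24 (maskOfSet d) = 12 := by
  rw [← setOf_mem_dodecads_iff (maskOfSet_lt d), setOf_maskOfSet]

/-- every octad is `setOf (encode c)` for some information word `c` -/
theorem exists_encode_of_mem_octads {o : Finset GolayPt} (ho : o ∈ octads) :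
    ∃ c < 4096, o = setOf (encode c) ∧ popc 24 (encode c) = 8 := by
  rw [mem_octads_iff] at ho
  obtain ⟨c, hc, h⟩ := exists_encode_of_mem ho.1
  refine ⟨c, hc, ?_, ?_⟩
  · rw [← support₂_wordOf, ← h, support₂_indWord]
  · rw [← hammingNorm_wordOf, ← h, hammingNorm_indWord, ho.2]

/-- every dodecad is `setOf (encode c)` for some information word `c` -/
theorem exists_encode_of_mem_dodecads {d : Finset GolayPt} (hd : d ∈ dodecads) :
    ∃ c < 4096, d = setOf (encode c) ∧ popc 24 (encode c) = 12 := by
  rw [mem_dodecads_iff] at hd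
  obtain ⟨c, hc, h⟩ := exists_encode_of_mem hd.1
  refine ⟨c, hc, ?_, ?_⟩
  · rw [← support₂_wordOf, ← h, support₂_indWord]
  · rw [← hammingNorm_wordOf, ← h, hammingNorm_indWord, hd.2]

theorem dodecads_eq_image : dodecads = support₂ '' {w | w ∈ golayCode ∧ hammingNorm w = 12} := by
  ext o
  rw [mem_dodecads_iff]
  constructor
  · rintro ⟨h1, h2⟩
    exact ⟨indWord o, ⟨h1, by rw [hammingNorm_indWord, h2]⟩, support₂_indWord o⟩
  · rintro ⟨w, ⟨h1, h2⟩, rfl⟩
    rw [indWord_support₂]
    exact ⟨h1, h2⟩

theorem dodecads_ncard : dodecads.ncard = 2576 := by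
  rw [dodecads_eq_image, Set.InjOn.ncard_image (support₂_injective.injOn), ncard_weight12]


end Cfsg.Agent.Helper27
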