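import Cfsg.Agent.Helper27.Golay

/-!
Counting codewords of `Cfsg.golayCode` with a computable property; the weight enumerator.
-/

set_option autoImplicit false

namespace Cfsg.Agent.Helper27

open Cfsg

/-- the finite set of codewords -/
noncomputable def golayFinset : Finset (GolayPt → ZMod 2) :=
  (Finset.range 4096).image fun c => wordOf (encode c)

theorem mem_golayFinset (w : GolayPt → ZMod 2) : w ∈ golayFinset ↔ w ∈ golayCode := by
  rw [mem_golayCode_iff_exists]
  simp only [golayFinset, Finset.mem_image, Finset.mem_range]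
  constructor
  · rintro ⟨c, hc, rfl⟩; exact ⟨c, hc, rfl⟩
  · rintro ⟨c, hc, rfl⟩; exact ⟨c, hc, rfl⟩

theorem coe_golayFinset : (golayFinset : Set (GolayPt → ZMod 2)) = golayCode := by
  ext w; exact mem_golayFinset w

/-- counting codewords with a property that is computable on masks -/
theorem ncard_golay_filter (P : (GolayPt → ZMod 2) → Prop) (f : ℕ → Bool)
    (h : ∀ c < 4096, (P (wordOf (encode c)) ↔ f (encode c) = true)) :
    {w | w ∈ golayCode ∧ P w}.ncard = countRange (fun c => f (encode c)) 12 0 := by
  classical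
  have hset : {w | w ∈ golayCode ∧ P w} =
      (fun c => wordOf (encode c)) '' (((Finset.range (2 ^ 12)).filter fun c => f (encode c) = true) : Finset ℕ) := by
    ext w
    simp only [Set.mem_setOf_eq, Set.mem_image, Finset.coe_filter, Finset.mem_range]
    constructor
    · rintro ⟨hw, hP⟩
      obtain ⟨c, hc, rfl⟩ := exists_encode_of_mem hw
      exact ⟨c, ⟨hc, (h c hc).mp hP⟩, rfl⟩
    · rintro ⟨c, ⟨hc, hf⟩, rfl⟩
      exact ⟨wordOf_encode_mem c, (h c hc).mpr hf⟩
  rw [hset, Set.InjOn.ncard_image, Set.ncard_coe_finset, card_filter_range_pow]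
  intro a ha b hb hab
  simp only [Finset.coe_filter, Finset.mem_range, Set.mem_setOf_eq] at ha hb
  exact encode_injOn ha.1 hb.1 hab

/-- proving a property of all codewords by a computation on masks -/
theorem forall_golay (P : (GolayPt → ZMod 2) → Prop) (f : ℕ → Bool)
    (h : ∀ c < 4096, f (encode c) = true → P (wordOf (encode c)))
    (hall : allRange (fun c => f (encode c)) 12 0 = true) :
    ∀ w ∈ golayCode, P w := by
  intro w hw
  obtain ⟨c, hc, rfl⟩ := exists_encode_of_mem hw
  exact h c hc (forall_lt_of_allRange _ 12 hall c hc)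

theorem card_golayCode : Nat.card golayCode = 4096 := by
  have h := ncard_golay_filter (fun _ => True) (fun _ => true) (by simp)
  have h2 : countRange (fun c => (fun _ => true) (encode c)) 12 0 = 4096 := by decide +kernel
  rw [h2] at h
  have : {w | w ∈ golayCode ∧ True} = (golayCode : Set (GolayPt → ZMod 2)) := by ext; simp
  rw [this] at h
  rw [← h]
  rfl

theorem ncard_weight8 : {w | w ∈ golayCode ∧ hammingNorm w = 8}.ncard = 759 := by
  rw [ncard_golay_filter (fun w => hammingNorm w = 8) (fun m => popc 24 m == 8)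
    (by intro c _; rw [hammingNorm_wordOf]; simp)]
  decide +kernel

theorem ncard_weight12 : {w | w ∈ golayCode ∧ hammingNorm w = 12}.ncard = 2576 := by
  rw [ncard_golay_filter (fun w => hammingNorm w = 12) (fun m => popc 24 m == 12)
    (by intro c _; rw [hammingNorm_wordOf]; simp)]
  decide +kernel

theorem ncard_weight16 : {w | w ∈ golayCode ∧ hammingNorm w = 16}.ncard = 759 := by
  rw [ncard_golay_filter (fun w => hammingNorm w = 16) (fun m => popc 24 m == 16)
    (by intro c _; rw [hammingNorm_wordOf]; simp)]
  decide +kernel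

/-- the weights of the code -/
theorem weight_mem (w : GolayPt → ZMod 2) (hw : w ∈ golayCode) :
    hammingNorm w = 0 ∨ hammingNorm w = 8 ∨ hammingNorm w = 12 ∨ hammingNorm w = 16 ∨ hammingNorm w = 24 := by
  refine forall_golay (fun w => hammingNorm w = 0 ∨ hammingNorm w = 8 ∨ hammingNorm w = 12 ∨ hammingNorm w = 16 ∨ hammingNorm w = 24)
    (fun m => popc 24 m == 0 || popc 24 m == 8 || popc 24 m == 12 || popc 24 m == 16 || popc 24 m == 24) ?_ ?_ w hw
  · intro c _ h
    rw [hammingNorm_wordOf]
    simpa [or_assoc] using h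
  · decide +kernel

/-- minimum weight 8 -/
theorem eight_le_weight (w : GolayPt → ZMod 2) (hw : w ∈ golayCode) (h0 : w ≠ 0) : 8 ≤ hammingNorm w := by
  have h0' : hammingNorm w ≠ 0 := by rwa [Ne, hammingNorm_eq_zero]
  rcases weight_mem w hw with h | h | h | h | h <;> omega

end Cfsg.Agent.Helper27
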