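import Cfsg.Agent.Helper27.FusM22Data

/-! Kernel checks of the certificate for M22, part A (generated). -/

set_option autoImplicit false
set_option maxRecDepth 1000000

namespace Cfsg.Agent.Helper27.FusM22

open Cfsg Cfsg.Agent.Helper7 Cfsg.Agent.Helper27.FusTab

theorem hF : ∀ i ∈ fixL, i < 24 := by decide +kernel

theorem hz : chkT fixL zT = true := by decide +kernel

theorem hGC : ∀ g ∈ GC, chkT fixL g = true := by decide +kernel

theorem hgens : GC.map (fun g => conjT g zT) = gensT := by decide +kernel

theorem hinv : ∀ s ∈ gensT, compT s s = idT := by decide +kernel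

theorem hL : runSLP prog (idT :: gensT) = L := by decide +kernel

theorem hid : idT ∈ L := by decide +kernel

theorem hclosed : ∀ l ∈ L, ∀ s ∈ gensT, compT l s ∈ L := by decide +kernel

theorem hnodup : (L.map key).Nodup := by decide +kernel

theorem hlen : L.length = 2 ^ 7 := by decide +kernel

theorem hzL : zT ∈ L := by decide +kernel

theorem hz1 : zT ≠ idT := by decide +kernel

theorem hzc : ∀ s ∈ gensT, compT s zT = compT zT s := by decide +kernel

theorem hcen : ∀ x ∈ L, x = idT ∨ x = zT ∨ ∃ s ∈ gensT, compT s x ≠ compT x s := by decide +kernel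

theorem hCT : ∀ c ∈ CT, chkT fixL c = true ∧ compT c zT = compT zT c := by decide +kernel

theorem hsyl : ¬ 2 ^ (7 + 1) ∣ 443520 := by decide +kernel


end Cfsg.Agent.Helper27.FusM22
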