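import Cfsg.Agent.Helper27.M22CaseB4

/-!
`M22` has no subgroup of order `7920` or `2112`: assembly and transport to two-point stabilisers.
-/

set_option autoImplicit false

namespace Cfsg.Agent.Helper27

open Cfsg Cfsg.Agent.Helper7

/-- `M22` has no subgroup of order `7920` or `2112` -/
theorem card_ne_of_le_M22p (K : Subgroup (Equiv.Perm GolayPt)) (hK : K ≤ M22p) :
    Nat.card K ≠ 7920 ∧ Nat.card K ≠ 2112 := by
  constructor
  · intro hc
    obtain ⟨K', hK', hc', hm⟩ := exists_conj_mem hK (by rw [hc]; norm_num)
    rw [hc] at hc'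
    have he := (sylow11_of_mem hK' hm).2 hc'
    by_cases htr : ∃ g ∈ K', ∃ x ∈ ptSet o1L, g x ∈ ptSet o2L
    · exact CBHyp.contradiction ⟨hK', hm, he, hc', htr⟩
    · have h1 : ∀ g ∈ K', ∀ x ∈ ptSet o1L, g x ∈ ptSet o1L := by
        intro g hg x hx
        have hgM := mem_M22p.mp (hK' hg)
        rcases o_cover (idx (g x)) (idx_lt _) with h0 | h0 | h0 | h0
        · exfalso
          have : g x = g (pt 0) := by
            rw [pt_zero, hgM.2.1, ← pt_zero, ← h0, pt_idx]
          have hx0 := g.injective this
          rw [hx0, pt_mem_ptSet (by norm_num)] at hx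
          revert hx
          decide
        · exfalso
          have : g x = g (pt 23) := by
            rw [pt_last, hgM.2.2, ← pt_last, ← h0, pt_idx]
          have hx0 := g.injective this
          rw [hx0, pt_mem_ptSet (by norm_num)] at hx
          revert hx
          decide
        · exact h0
        · exact absurd ⟨g, hg, x, hx, h0⟩ htr
      have h2 : ∀ g ∈ K', ∀ x ∈ ptSet o2L, g x ∈ ptSet o2L := by
        intro g hg x hx
        have hgM := mem_M22p.mp (hK' hg)
        rcases o_cover (idx (g x)) (idx_lt _) with h0 | h0 | h0 | h0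
        · exfalso
          have : g x = g (pt 0) := by
            rw [pt_zero, hgM.2.1, ← pt_zero, ← h0, pt_idx]
          have hx0 := g.injective this
          rw [hx0, pt_mem_ptSet (by norm_num)] at hx
          revert hx
          decide
        · exfalso
          have : g x = g (pt 23) := by
            rw [pt_last, hgM.2.2, ← pt_last, ← h0, pt_idx]
          have hx0 := g.injective this
          rw [hx0, pt_mem_ptSet (by norm_num)] at hx
          revert hx
          decide
        · exfalso
          have h3 := h1 g⁻¹ (K'.inv_mem hg) (g x) h0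
          have h4 : g⁻¹ (g x) = x := by simp
          rw [h4] at h3
          exact o1L_o2L_disj _ h3 _ hx rfl
        · exact h0
      exact no_two_invariant K' hK' (by rw [hc']; norm_num) h1 h2
  · intro hc
    obtain ⟨K', hK', hc', hm⟩ := exists_conj_mem hK (by rw [hc]; norm_num)
    rw [hc] at hc'
    exact (sylow11_of_mem hK' hm).1 hc'

/-- two-point stabilisers are isomorphic to `M22p` -/
theorem stabEquivM22p {p q : GolayPt} (hpq : p ≠ q) :
    Nonempty (↥(MulAction.stabilizer M24 p ⊓ MulAction.stabilizer M24 q) ≃* ↥M22p) := by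
  obtain ⟨e1⟩ := m24StabEquiv₂ hpq
  obtain ⟨g, hg, h⟩ := m24_exists_map 2 (by norm_num) ⟨![pt 23, pt 0], by
    intro i j hij
    fin_cases i <;> fin_cases j <;> first | rfl | (exfalso; revert hij; decide)⟩
  have h0 : g (pt 0) = pt 23 := h 0
  have h1 : g (pt 1) = pt 0 := h 1
  have e := fixGConj hg [1, 0] [0, 23] (by
    simp only [List.map_cons, List.map_nil, h0, h1]
    rfl)
  exact ⟨e1.trans e⟩

theorem index_ne_of_stab {p q : GolayPt} (hpq : p ≠ q)
    (H : Subgroup ↥(MulAction.stabilizer M24 p ⊓ MulAction.stabilizer M24 q)) :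
    H.index ≠ 56 ∧ H.index ≠ 210 := by
  obtain ⟨E⟩ := stabEquivM22p hpq
  have hci := Subgroup.card_mul_index H
  rw [card_stabilizer₂_m24 hpq] at hci
  let K : Subgroup (Equiv.Perm GolayPt) := (H.map E.toMonoidHom).map M22p.subtype
  have hK : K ≤ M22p := by
    rintro _ ⟨x, -, rfl⟩
    exact x.2
  have hcK : Nat.card K = Nat.card H := by
    rw [Subgroup.card_map_of_injective M22p.subtype_injective,
      Subgroup.card_map_of_injective E.injective]
  have := card_ne_of_le_M22p K hK
  rw [hcK] at this
  constructor
  · intro hi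
    rw [hi] at hci
    exact this.1 (by omega)
  · intro hi
    rw [hi] at hci
    exact this.2 (by omega)

end Cfsg.Agent.Helper27
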