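import Cfsg.Agent.Helper27.OutMathieu2
import Cfsg.Prelude.Def_Spor_Mathieu

/-!
All automorphisms of `M23` are inner.
-/

set_option autoImplicit false

namespace Cfsg.Agent.Helper27

open Cfsg Cfsg.Agent.Helper7

theorem mu23_mem_F23 : mu23 ∈ F23 := Q23_le_F23 (Subgroup.mem_zpowers _)

theorem muP_sq_mem_of_mu23_mem {K : Subgroup (Equiv.Perm GolayPt)} (h : mu23 ∈ K)
    (r : (ZMod 23)ˣ) : muP (r * r) ∈ K := by
  obtain ⟨j, _, hj⟩ := sq_eq_two_pow r
  rw [hj, muP_pow]
  exact K.pow_mem h j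

theorem F23_le_of_mem {K : Subgroup (Equiv.Perm GolayPt)} (hA : trP 1 ∈ K) (hC : mu23 ∈ K) :
    F23 ≤ K := by
  rw [F23, Subgroup.closure_le]
  rintro g (hg | ⟨u, ⟨r, rfl⟩, rfl⟩)
  · rw [Set.mem_singleton_iff] at hg
    rw [hg]
    exact hA
  · exact muP_sq_mem_of_mu23_mem hC r

theorem cubeTwist_not_mem_F23 : cubeTwist ∉ F23 := by
  intro h
  have h1 : orderOf (⟨cubeTwist, h⟩ : ↥F23) ∣ Nat.card F23 := orderOf_dvd_natCard _
  rw [Subgroup.orderOf_mk, orderOf_cubeTwist, card_F23] at h1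
  exact absurd h1 (by norm_num)

theorem cubeTwist_mem_M23p : cubeTwist ∈ M23p := ⟨cubeTwist_mem_M24, cubeTwist_none⟩

theorem closure_M23p :
    Subgroup.closure ({trP 1, mu23, cubeTwist} : Set (Equiv.Perm GolayPt)) = M23p := by
  set K := Subgroup.closure ({trP 1, mu23, cubeTwist} : Set (Equiv.Perm GolayPt)) with hK
  have hA : trP 1 ∈ K := Subgroup.subset_closure (by simp)
  have hC : mu23 ∈ K := Subgroup.subset_closure (by simp)
  have hD : cubeTwist ∈ K := Subgroup.subset_closure (by simp)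
  have hKM : K ≤ M23p := by
    rw [hK, Subgroup.closure_le]
    rintro g (rfl | rfl | hg)
    · exact F23_le_M23p trP_one_mem
    · exact F23_le_M23p mu23_mem_F23
    · rw [Set.mem_singleton_iff] at hg
      rw [hg]
      exact cubeTwist_mem_M23p
  rcases F23_max K (F23_le_of_mem hA hC) hKM with h | h
  · exfalso
    rw [h] at hD
    exact cubeTwist_not_mem_F23 hD
  · exact h

/-- the relators used for `M23` -/
def rels23 : List (List (Fin 3) × ℕ) := [([0, 0, 0, 1, 0, 2, 2, 1], 7), ([2, 0, 2, 0], 3)]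

theorem inn_M23p_eq_top : Cfsg.Inn ↥M23p = ⊤ := by
  apply inn_eq_top_of_data M23p cubeTwist tC 3 rels23
  · exact F23_le_M23p trP_one_mem
  · exact F23_le_M23p mu23_mem_F23
  · exact cubeTwist_mem_M23p
  · exact isTable_cubeTwist
  · rw [card_M23p]
    norm_num
  · intro g hg h
    exact mem_Q23_of_commute_fix hg.1 hg.2 h
  · exact closure_M23p
  · decide +kernel
  · decide +kernel
  · decide +kernel
  · decide +kernel

theorem sporM23_eq : Spor.M23 = M23p := rfl

theorem card_out_M23 : Nat.card (Cfsg.Out ↥Spor.M23) = 1 := by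
  rw [sporM23_eq]
  show (Cfsg.Inn ↥M23p).index = 1
  rw [inn_M23p_eq_top, Subgroup.index_top]

end Cfsg.Agent.Helper27
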