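import Cfsg.Agent.Helper96.KleinGroup

/-!
`GL₄(2)` has a subgroup isomorphic to `A₇` (through `GL₄(2) ≅ A₈` of helper96).
-/

set_option autoImplicit false

namespace Cfsg.Agent.Helper27.A7GL

/-- `A₇` inside `A₈` -/
noncomputable def a7ToA8 : alternatingGroup (Fin 7) →* alternatingGroup (Fin 8) :=
  ((Equiv.Perm.viaEmbeddingHom (Fin.castSuccEmb (n := 7))).comp
    (alternatingGroup (Fin 7)).subtype).codRestrict (alternatingGroup (Fin 8)) (fun x => by
      rw [Equiv.Perm.mem_alternatingGroup]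
      show Equiv.Perm.sign (Equiv.Perm.viaEmbeddingHom _ x.1) = 1
      rw [Equiv.Perm.viaEmbeddingHom_apply, Equiv.Perm.viaEmbedding, Equiv.Perm.sign_extendDomain]
      exact Equiv.Perm.mem_alternatingGroup.mp x.2)

theorem a7ToA8_injective : Function.Injective a7ToA8 := by
  intro x y hxy
  have h := congrArg Subtype.val hxy
  have h' : Equiv.Perm.viaEmbeddingHom (Fin.castSuccEmb (n := 7)) x.1 =
      Equiv.Perm.viaEmbeddingHom (Fin.castSuccEmb (n := 7)) y.1 := h
  exact Subtype.ext (Equiv.Perm.viaEmbeddingHom_injective _ h')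

/-- `GL₄(F) ≅ GL₄(ZMod 2)` for a field with two elements -/
noncomputable def glEquivZModTwo {F : Type*} [Field F] [Fintype F] (hF : Fintype.card F = 2) :
    GL (Fin 4) F ≃* GL (Fin 4) (ZMod 2) :=
  Units.mapEquiv (RingEquiv.mapMatrix (ZMod.ringEquivOfPrime F Nat.prime_two hF).symm).toMulEquiv

theorem exists_subgroup_a7 {F : Type*} [Field F] [Fintype F] (hF : Fintype.card F = 2) :
    ∃ H : Subgroup (GL (Fin 4) F), Nonempty (H ≃* alternatingGroup (Fin 7)) := by
  let E : GL (Fin 4) F ≃* alternatingGroup (Fin 8) :=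
    (glEquivZModTwo hF).trans Cfsg.Agent.Helper96.Klein.glMulEquiv
  refine ⟨a7ToA8.range.map E.symm.toMonoidHom, ⟨?_⟩⟩
  exact ((MonoidHom.ofInjective a7ToA8_injective).trans (E.symm.subgroupMap a7ToA8.range)).symm

end Cfsg.Agent.Helper27.A7GL
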