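import Mathlib

/-!
Subgroups of `GL₄(2)`: fixed spaces of elements of odd prime order.
-/

set_option autoImplicit false
set_option linter.unusedSectionVars false

namespace Cfsg.Agent.Helper27.A7GL

open Matrix

variable {F : Type*} [Field F] [Fintype F]

theorem eq_zero_or_one (hF : Fintype.card F = 2) (a : F) : a = 0 ∨ a = 1 := by
  have e := ZMod.ringEquivOfPrime F Nat.prime_two hF
  have hcases : ∀ a : ZMod 2, a = 0 ∨ a = 1 := by decide
  have hre : a = e (e.symm a) := (e.apply_symm_apply a).symm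
  rcases hcases (e.symm a) with h | h
  · left
    rw [hre, h, map_zero]
  · right
    rw [hre, h, map_one]

theorem one_add_one (hF : Fintype.card F = 2) : (1 : F) + 1 = 0 := by
  have e := ZMod.ringEquivOfPrime F Nat.prime_two hF
  have h : (1 : ZMod 2) + 1 = 0 := by decide
  have := congrArg e h
  rwa [map_add, map_one, map_zero] at this

theorem add_self_vec (hF : Fintype.card F = 2) (v : Fin 4 → F) : v + v = 0 := by
  ext i
  have : v i + v i = (1 + 1) * v i := by ring
  rw [Pi.add_apply, this, one_add_one hF, zero_mul]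
  rfl

/-- the natural action of `GL₄(F)` on vectors -/
@[reducible] def glAction : MulAction (GL (Fin 4) F) (Fin 4 → F) where
  smul g v := (g : Matrix (Fin 4) (Fin 4) F).mulVec v
  one_smul v := Matrix.one_mulVec v
  mul_smul g h v := by
    show ((g * h : GL (Fin 4) F) : Matrix (Fin 4) (Fin 4) F).mulVec v =
      (g : Matrix (Fin 4) (Fin 4) F).mulVec ((h : Matrix (Fin 4) (Fin 4) F).mulVec v)
    rw [Units.val_mul, Matrix.mulVec_mulVec]

attribute [local instance] glAction

theorem smul_def (g : GL (Fin 4) F) (v : Fin 4 → F) :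
    g • v = (g : Matrix (Fin 4) (Fin 4) F).mulVec v := rfl

theorem gl_smul_add (g : GL (Fin 4) F) (v w : Fin 4 → F) : g • (v + w) = g • v + g • w :=
  Matrix.mulVec_add _ _ _

theorem gl_smul_zero (g : GL (Fin 4) F) : g • (0 : Fin 4 → F) = 0 := Matrix.mulVec_zero _

theorem gl_smul_smul (g : GL (Fin 4) F) (a : F) (v : Fin 4 → F) : g • (a • v) = a • (g • v) :=
  Matrix.mulVec_smul _ _ _

theorem eq_one_of_smul (g : GL (Fin 4) F) (h : ∀ v : Fin 4 → F, g • v = v) : g = 1 := by
  apply Units.ext
  rw [Matrix.ext_iff_mulVec]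
  intro v
  rw [Units.val_one, Matrix.one_mulVec]
  exact h v

theorem smul_eq_zero_iff (g : GL (Fin 4) F) (v : Fin 4 → F) : g • v = 0 ↔ v = 0 := by
  constructor
  · intro h
    have : g⁻¹ • (g • v) = g⁻¹ • (0 : Fin 4 → F) := by rw [h]
    rwa [inv_smul_smul, gl_smul_zero] at this
  · rintro rfl
    exact gl_smul_zero g

/-- the space of vectors fixed by a subgroup -/
def fixSub (P : Subgroup (GL (Fin 4) F)) : Submodule F (Fin 4 → F) where
  carrier := {v | ∀ g ∈ P, g • v = v}
  add_mem' := fun ha hb g hg => by rw [gl_smul_add, ha g hg, hb g hg]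
  zero_mem' := fun g _ => gl_smul_zero g
  smul_mem' := fun a v hv g hg => by rw [gl_smul_smul, hv g hg]

theorem mem_fixSub {P : Subgroup (GL (Fin 4) F)} {v : Fin 4 → F} :
    v ∈ fixSub P ↔ ∀ g ∈ P, g • v = v := Iff.rfl

theorem coe_fixSub (P : Subgroup (GL (Fin 4) F)) :
    (fixSub P : Set (Fin 4 → F)) = MulAction.fixedPoints ↥P (Fin 4 → F) := by
  ext v
  constructor
  · intro h g
    exact h g.1 g.2
  · intro h g hg
    exact h ⟨g, hg⟩

theorem card_fixSub (hF : Fintype.card F = 2) (P : Subgroup (GL (Fin 4) F)) :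
    ∃ d ≤ 4, Nat.card (fixSub P) = 2 ^ d ∧ (d = 4 → fixSub P = ⊤) ∧ (d = 0 → fixSub P = ⊥) := by
  refine ⟨Module.finrank F (fixSub P), ?_, ?_, ?_, ?_⟩
  · have := Submodule.finrank_le (fixSub P)
    rwa [Module.finrank_fin_fun] at this
  · rw [Module.natCard_eq_pow_finrank (K := F), Nat.card_eq_fintype_card, hF]
  · intro h
    apply Submodule.eq_top_of_finrank_eq
    rw [h, Module.finrank_fin_fun]
  · intro h
    exact Submodule.finrank_eq_zero.mp h

theorem card_vec (hF : Fintype.card F = 2) : Nat.card (Fin 4 → F) = 16 := by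
  rw [Nat.card_eq_fintype_card, Fintype.card_fun, hF, Fintype.card_fin]
  norm_num

theorem card_fix_modEq (hF : Fintype.card F = 2) (p : ℕ) [Fact p.Prime]
    (P : Subgroup (GL (Fin 4) F)) (hP : IsPGroup p P) :
    16 ≡ Nat.card (fixSub P) [MOD p] := by
  have h := hP.card_modEq_card_fixedPoints (Fin 4 → F)
  rw [card_vec hF, ← coe_fixSub] at h
  exact h

/-- the fixed space of an element of prime order `p` has `2 ^ d` elements with `d < 4` and
`2 ^ d = 16` modulo `p` -/
theorem fix_zpowers (hF : Fintype.card F = 2) (p : ℕ) [Fact p.Prime] (g : GL (Fin 4) F)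
    (hg : orderOf g = p) :
    ∃ d < 4, Nat.card (fixSub (Subgroup.zpowers g)) = 2 ^ d ∧ 16 ≡ 2 ^ d [MOD p] ∧
      (d = 0 → fixSub (Subgroup.zpowers g) = ⊥) := by
  have hp : IsPGroup p (Subgroup.zpowers g) := by
    apply IsPGroup.of_card (n := 1)
    rw [Nat.card_zpowers, hg, pow_one]
  obtain ⟨d, hd4, hcard, htop, hbot⟩ := card_fixSub hF (Subgroup.zpowers g)
  have hmod := card_fix_modEq hF p _ hp
  rw [hcard] at hmod
  refine ⟨d, ?_, hcard, hmod, hbot⟩
  rcases Nat.lt_or_ge d 4 with h | h
  · exact h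
  · exfalso
    have hd : d = 4 := le_antisymm hd4 h
    have ht := htop hd
    have h1 : g = 1 := by
      apply eq_one_of_smul
      intro v
      have : v ∈ fixSub (Subgroup.zpowers g) := by rw [ht]; trivial
      exact this g (Subgroup.mem_zpowers g)
    rw [h1, orderOf_one] at hg
    exact (Fact.out : p.Prime).one_lt.ne hg

theorem mem_fixSub_zpowers {g : GL (Fin 4) F} {v : Fin 4 → F} (h : g • v = v) :
    v ∈ fixSub (Subgroup.zpowers g) := by
  intro k hk
  obtain ⟨n, rfl⟩ := Subgroup.mem_zpowers_iff.mp hk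
  have : g ∈ MulAction.stabilizer (GL (Fin 4) F) v := h
  exact (MulAction.stabilizer (GL (Fin 4) F) v).zpow_mem this n

/-- an element of order `5` fixes no nonzero vector -/
theorem eq_zero_of_order_five (hF : Fintype.card F = 2) (g : GL (Fin 4) F) (hg : orderOf g = 5)
    (v : Fin 4 → F) (hv : g • v = v) : v = 0 := by
  have : Fact (Nat.Prime 5) := ⟨by norm_num⟩
  obtain ⟨d, hd, -, hmod, hbot⟩ := fix_zpowers hF 5 g hg
  have hd0 : d = 0 := by
    interval_cases d
    · rfl
    · exact absurd hmod (by decide)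
    · exact absurd hmod (by decide)
    · exact absurd hmod (by decide)
  have := mem_fixSub_zpowers hv
  rw [hbot hd0] at this
  exact (Submodule.mem_bot F).mp this

/-- an element of order `7` fixes at most one nonzero vector -/
theorem eq_of_order_seven (hF : Fintype.card F = 2) (g : GL (Fin 4) F) (hg : orderOf g = 7)
    (v w : Fin 4 → F) (hv : g • v = v) (hw : g • w = w) (hv0 : v ≠ 0) (hw0 : w ≠ 0) : v = w := by
  have : Fact (Nat.Prime 7) := ⟨by norm_num⟩
  obtain ⟨d, hd, hcard, hmod, -⟩ := fix_zpowers hF 7 g hg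
  have hd1 : d = 1 := by
    interval_cases d
    · exact absurd hmod (by decide)
    · rfl
    · exact absurd hmod (by decide)
    · exact absurd hmod (by decide)
  rw [hd1, pow_one] at hcard
  by_contra hvw
  have h3 : 3 ≤ Nat.card (fixSub (Subgroup.zpowers g)) := by
    classical
    let z0 : fixSub (Subgroup.zpowers g) := 0
    let z1 : fixSub (Subgroup.zpowers g) := ⟨v, mem_fixSub_zpowers hv⟩
    let z2 : fixSub (Subgroup.zpowers g) := ⟨w, mem_fixSub_zpowers hw⟩
    have hinj : Function.Injective ![z0, z1, z2] := by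
      intro i j hij
      fin_cases i <;> fin_cases j <;> first | rfl | (exfalso; simp [z0, z1, z2, Subtype.ext_iff] at hij; tauto)
    have := Nat.card_le_card_of_injective _ hinj
    simpa using this
  omega

end Cfsg.Agent.Helper27.A7GL
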