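import Cfsg.Agent.Helper27.A7Lin

/-!
A subgroup of order `2520` of `GL₄(2)` is transitive on the nonzero vectors.
-/

set_option autoImplicit false
set_option linter.unusedSectionVars false

namespace Cfsg.Agent.Helper27.A7GL

open Matrix

variable {F : Type*} [Field F] [Fintype F]

attribute [local instance] glAction

theorem ncard_nonzero (hF : Fintype.card F = 2) : {v : Fin 4 → F | v ≠ 0}.ncard = 15 := by
  have h := Set.ncard_add_ncard_compl ({0} : Set (Fin 4 → F))
  rw [Set.ncard_singleton, card_vec hF] at h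
  have : ({0} : Set (Fin 4 → F))ᶜ = {v | v ≠ 0} := by
    ext v
    simp
  rw [this] at h
  omega

theorem ncard_nonzero_ne (hF : Fintype.card F = 2) (v : Fin 4 → F) (hv : v ≠ 0) :
    {y : Fin 4 → F | y ≠ 0 ∧ y ≠ v}.ncard = 14 := by
  have h := Set.ncard_add_ncard_compl ({0, v} : Set (Fin 4 → F))
  rw [Set.ncard_pair (Ne.symm hv), card_vec hF] at h
  have : ({0, v} : Set (Fin 4 → F))ᶜ = {y | y ≠ 0 ∧ y ≠ v} := by
    ext y
    simp [not_or]
  rw [this] at h
  omega

/-- a set of vectors invariant under a nonzero translation has an even number of elements -/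
theorem two_dvd_ncard_of_add_invariant (hF : Fintype.card F = 2) (v : Fin 4 → F) (hv : v ≠ 0)
    (S : Set (Fin 4 → F)) (hS : ∀ y ∈ S, y + v ∈ S) : 2 ∣ S.ncard := by
  classical
  have hS' : ∀ y, (Equiv.addRight v) y ∈ S ↔ y ∈ S := by
    intro y
    constructor
    · intro h
      have := hS _ h
      rwa [Equiv.coe_addRight, add_assoc, add_self_vec hF, add_zero] at this
    · exact hS y
  let σ : Equiv.Perm ↥S := (Equiv.addRight v).subtypePerm hS'
  have hσ : ∀ y : ↥S, ((σ y : ↥S) : Fin 4 → F) = y.1 + v := fun y => rfl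
  have h2 : σ ^ 2 = 1 := by
    ext y
    rw [sq, Equiv.Perm.mul_apply, hσ, hσ, Equiv.Perm.one_apply, add_assoc, add_self_vec hF,
      add_zero]
  have hsup : σ.support = Finset.univ := by
    ext y
    rw [Equiv.Perm.mem_support]
    simp only [Finset.mem_univ, iff_true]
    intro h
    have := congrArg Subtype.val h
    rw [hσ] at this
    exact hv (by simpa using this)
  have := Equiv.Perm.two_dvd_card_support h2
  rw [hsup, Finset.card_univ, ← Nat.card_eq_fintype_card, Nat.card_coe_set_eq] at this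
  exact this

/-- transitivity and the order of the point stabiliser -/
theorem orbit_eq_of_card (hF : Fintype.card F = 2) (H : Subgroup (GL (Fin 4) F))
    (hc : Nat.card H = 2520) (v : Fin 4 → F) (hv : v ≠ 0) :
    MulAction.orbit ↥H v = {y | y ≠ 0} ∧ Nat.card (MulAction.stabilizer ↥H v) = 168 := by
  classical
  have hsub : MulAction.orbit ↥H v ⊆ {y | y ≠ 0} := by
    rintro _ ⟨g, rfl⟩
    show g.1 • v ≠ 0
    intro h
    exact hv ((smul_eq_zero_iff g.1 v).mp h)
  have hn15 : (MulAction.orbit ↥H v).ncard ≤ 15 := by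
    rw [← ncard_nonzero hF]
    exact Set.ncard_le_ncard hsub (Set.toFinite _)
  have hmul := Subgroup.card_mul_index (MulAction.stabilizer ↥H v)
  rw [MulAction.index_stabilizer, hc] at hmul
  -- the stabiliser has order prime to `5`
  have h5 : ¬ 5 ∣ Nat.card (MulAction.stabilizer ↥H v) := by
    intro h
    have : Fact (Nat.Prime 5) := ⟨by norm_num⟩
    obtain ⟨x, hx⟩ := exists_prime_orderOf_dvd_card' (G := ↥(MulAction.stabilizer ↥H v)) 5 h
    have hx' : orderOf (x.1.1 : GL (Fin 4) F) = 5 := by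
      rw [Subgroup.orderOf_coe, Subgroup.orderOf_coe, hx]
    exact hv (eq_zero_of_order_five hF _ hx' v x.2)
  -- an element of order `7`
  have : Fact (Nat.Prime 7) := ⟨by norm_num⟩
  obtain ⟨h7, hh7⟩ := exists_prime_orderOf_dvd_card' (G := ↥H) 7 (by rw [hc]; norm_num)
  have hp7 : IsPGroup 7 (Subgroup.zpowers h7) :=
    IsPGroup.of_card (n := 1) (by rw [Nat.card_zpowers, hh7, pow_one])
  have hmod := hp7.card_modEq_card_fixedPoints (MulAction.orbit ↥H v)
  have hss : Subsingleton
      (MulAction.fixedPoints ↥(Subgroup.zpowers h7) ↥(MulAction.orbit ↥H v)) := by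
    constructor
    rintro ⟨y1, hy1⟩ ⟨y2, hy2⟩
    apply Subtype.ext
    apply Subtype.ext
    have e1 := congrArg Subtype.val (hy1 ⟨h7, Subgroup.mem_zpowers h7⟩)
    have e2 := congrArg Subtype.val (hy2 ⟨h7, Subgroup.mem_zpowers h7⟩)
    exact eq_of_order_seven hF h7.1 (by rw [Subgroup.orderOf_coe, hh7]) y1.1 y2.1 e1 e2
      (hsub y1.2) (hsub y2.2)
  have hc1 : Nat.card (MulAction.fixedPoints ↥(Subgroup.zpowers h7)
      ↥(MulAction.orbit ↥H v)) ≤ 1 := Finite.card_le_one_iff_subsingleton.mpr hss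
  rw [Nat.card_coe_set_eq] at hmod
  obtain ⟨c, hc1, hmod⟩ : ∃ c ≤ 1, (MulAction.orbit ↥H v).ncard ≡ c [MOD 7] := ⟨_, hc1, hmod⟩
  generalize hs : Nat.card (MulAction.stabilizer ↥H v) = s at hmul h5
  generalize hn : (MulAction.orbit ↥H v).ncard = n at hmul hn15 hmod
  have h5n : 5 ∣ n := by
    have : 5 ∣ s * n := by rw [hmul]; norm_num
    rcases (Nat.Prime.dvd_mul (by norm_num)).mp this with h | h
    · exact absurd h h5
    · exact h
  obtain ⟨k, rfl⟩ := h5n
  have hmod' : (5 * k) % 7 = c % 7 := hmod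
  have hk : k = 3 := by
    have hk0 : k ≠ 0 := by
      rintro rfl
      simp at hmul
    have hk3 : k ≤ 3 := by omega
    interval_cases k
    · exact absurd rfl hk0
    · omega
    · omega
    · rfl
  subst hk
  constructor
  · apply Set.eq_of_subset_of_ncard_le hsub _ (Set.toFinite _)
    rw [ncard_nonzero hF, hn]
  · omega

theorem exists_smul_eq (hF : Fintype.card F = 2) (H : Subgroup (GL (Fin 4) F))
    (hc : Nat.card H = 2520) (v v' : Fin 4 → F) (hv : v ≠ 0) (hv' : v' ≠ 0) :
    ∃ g ∈ H, g • v = v' := by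
  have h := (orbit_eq_of_card hF H hc v hv).1
  have hm : v' ∈ MulAction.orbit ↥H v := by
    rw [h]
    exact hv'
  obtain ⟨g, hg⟩ := hm
  exact ⟨g.1, g.2, hg⟩

end Cfsg.Agent.Helper27.A7GL
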