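import Cfsg.Agent.Helper27.A7Trans

/-!
A subgroup of order `2520` of `GL₄(2)` is doubly transitive on the nonzero vectors.
-/

set_option autoImplicit false
set_option linter.unusedSectionVars false

namespace Cfsg.Agent.Helper27.A7GL

open Matrix

variable {F : Type*} [Field F] [Fintype F]

attribute [local instance] glAction

theorem orbit_stab_subset (H : Subgroup (GL (Fin 4) F)) (v w : Fin 4 → F) (hw : w ≠ 0)
    (hvw : v ≠ w) :
    MulAction.orbit ↥(MulAction.stabilizer ↥H v) w ⊆ {y | y ≠ 0 ∧ y ≠ v} := by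
  rintro _ ⟨k, rfl⟩
  constructor
  · show k.1.1 • w ≠ 0
    intro h
    exact hw ((smul_eq_zero_iff _ w).mp h)
  · show k.1.1 • w ≠ v
    intro h
    have hkv : k.1.1 • v = v := k.2
    apply hvw
    have : k.1.1 • w = k.1.1 • v := by rw [hkv]; exact h
    exact (MulAction.injective k.1.1 this).symm

theorem orbit_stab_ncard (hF : Fintype.card F = 2) (H : Subgroup (GL (Fin 4) F))
    (hc : Nat.card H = 2520) (v w : Fin 4 → F) (hv : v ≠ 0) (hw : w ≠ 0) (hvw : v ≠ w) :
    (MulAction.orbit ↥(MulAction.stabilizer ↥H v) w).ncard = 7 ∨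
      (MulAction.orbit ↥(MulAction.stabilizer ↥H v) w).ncard = 14 := by
  have hHv := (orbit_eq_of_card hF H hc v hv).2
  have hmul := Subgroup.card_mul_index (MulAction.stabilizer ↥(MulAction.stabilizer ↥H v) w)
  rw [MulAction.index_stabilizer, hHv] at hmul
  have : Fact (Nat.Prime 7) := ⟨by norm_num⟩
  have h7 : ¬ 7 ∣ Nat.card (MulAction.stabilizer ↥(MulAction.stabilizer ↥H v) w) := by
    intro h
    obtain ⟨x, hx⟩ := exists_prime_orderOf_dvd_card'
      (G := ↥(MulAction.stabilizer ↥(MulAction.stabilizer ↥H v) w)) 7 h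
    have hx' : orderOf (x.1.1.1 : GL (Fin 4) F) = 7 := by
      rw [Subgroup.orderOf_coe, Subgroup.orderOf_coe, Subgroup.orderOf_coe, hx]
    exact hvw (eq_of_order_seven hF _ hx' v w x.1.2 x.2 hv hw)
  have hle : (MulAction.orbit ↥(MulAction.stabilizer ↥H v) w).ncard ≤ 14 := by
    rw [← ncard_nonzero_ne hF v hv]
    exact Set.ncard_le_ncard (orbit_stab_subset H v w hw hvw) (Set.toFinite _)
  generalize Nat.card (MulAction.stabilizer ↥(MulAction.stabilizer ↥H v) w) = s at hmul h7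
  generalize (MulAction.orbit ↥(MulAction.stabilizer ↥H v) w).ncard = n at hmul hle
  have h7n : 7 ∣ n := by
    have : 7 ∣ s * n := by rw [hmul]; norm_num
    rcases (Nat.Prime.dvd_mul (by norm_num)).mp this with h | h
    · exact absurd h h7
    · exact h
  obtain ⟨k, rfl⟩ := h7n
  have hk0 : k ≠ 0 := by
    rintro rfl
    simp at hmul
  omega

/-- if `w + v` lies in the orbit of `w` under the stabiliser of `v`, the orbit has even length -/
theorem two_dvd_orbit (hF : Fintype.card F = 2) (H : Subgroup (GL (Fin 4) F)) (v w : Fin 4 → F)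
    (hv : v ≠ 0) (h : w + v ∈ MulAction.orbit ↥(MulAction.stabilizer ↥H v) w) :
    2 ∣ (MulAction.orbit ↥(MulAction.stabilizer ↥H v) w).ncard := by
  apply two_dvd_ncard_of_add_invariant hF v hv
  rintro _ ⟨k, rfl⟩
  obtain ⟨k', hk'⟩ := h
  have hk' : k' • w = w + v := hk'
  refine ⟨k * k', ?_⟩
  have hkv : k.1.1 • v = v := k.2
  show (k * k') • w = k.1.1 • w + v
  rw [mul_smul, hk']
  show k.1.1 • (w + v) = k.1.1 • w + v
  rw [gl_smul_add, hkv]

/-- the stabiliser of a nonzero vector is transitive on the other nonzero vectors -/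
theorem orbit_stab_eq (hF : Fintype.card F = 2) (H : Subgroup (GL (Fin 4) F))
    (hc : Nat.card H = 2520) (v w : Fin 4 → F) (hv : v ≠ 0) (hw : w ≠ 0) (hvw : v ≠ w) :
    MulAction.orbit ↥(MulAction.stabilizer ↥H v) w = {y | y ≠ 0 ∧ y ≠ v} := by
  have hfull : ∀ w' : Fin 4 → F, w' ≠ 0 → v ≠ w' →
      (MulAction.orbit ↥(MulAction.stabilizer ↥H v) w').ncard = 14 →
      MulAction.orbit ↥(MulAction.stabilizer ↥H v) w' = {y | y ≠ 0 ∧ y ≠ v} := by
    intro w' hw' hvw' h14
    apply Set.eq_of_subset_of_ncard_le (orbit_stab_subset H v w' hw' hvw') _ (Set.toFinite _)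
    rw [ncard_nonzero_ne hF v hv, h14]
  rcases orbit_stab_ncard hF H hc v w hv hw hvw with h7 | h14
  swap
  · exact hfull w hw hvw h14
  exfalso
  -- no translate by `v` stays in its orbit
  have key : ∀ w' : Fin 4 → F, w' ≠ 0 → v ≠ w' →
      w' + v ∉ MulAction.orbit ↥(MulAction.stabilizer ↥H v) w' := by
    intro w' hw' hvw' hmem
    have h2 := two_dvd_orbit hF H v w' hv hmem
    have h14 : (MulAction.orbit ↥(MulAction.stabilizer ↥H v) w').ncard = 14 := by
      rcases orbit_stab_ncard hF H hc v w' hv hw' hvw' with h | h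
      · rw [h] at h2
        exact absurd h2 (by norm_num)
      · exact h
    have hw_mem : w ∈ MulAction.orbit ↥(MulAction.stabilizer ↥H v) w' := by
      rw [hfull w' hw' hvw' h14]
      exact ⟨hw, fun h => hvw h.symm⟩
    have := MulAction.orbit_eq_iff.mpr hw_mem
    rw [this, h14] at h7
    exact absurd h7 (by norm_num)
  -- the same for every nonzero vector `u`
  have key' : ∀ u x : Fin 4 → F, u ≠ 0 → x ≠ 0 → u ≠ x → ∀ t ∈ H, t • u = u → t • x ≠ x + u := by
    intro u x hu hx hux t ht htu htx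
    obtain ⟨g, hg, hgv⟩ := exists_smul_eq hF H hc v u hv hu
    have hgu : g⁻¹ • u = v := by rw [← hgv, inv_smul_smul]
    have hh : g⁻¹ * t * g ∈ H := H.mul_mem (H.mul_mem (H.inv_mem hg) ht) hg
    have hhv : (g⁻¹ * t * g) • v = v := by
      rw [mul_smul, mul_smul, hgv, htu, hgu]
    have hw1 : g⁻¹ • x ≠ 0 := fun h => hx ((smul_eq_zero_iff _ x).mp h)
    have hw2 : v ≠ g⁻¹ • x := by
      intro h
      apply hux
      rw [← hgv, h, smul_inv_smul]
    apply key (g⁻¹ • x) hw1 hw2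
    refine ⟨⟨⟨g⁻¹ * t * g, hh⟩, hhv⟩, ?_⟩
    show (g⁻¹ * t * g) • (g⁻¹ • x) = g⁻¹ • x + v
    rw [mul_smul, mul_smul, smul_inv_smul, htx, gl_smul_add, hgu]
  -- an involution
  have : Fact (Nat.Prime 2) := ⟨by norm_num⟩
  obtain ⟨t, ht⟩ := exists_prime_orderOf_dvd_card' (G := ↥H) 2 (by rw [hc]; norm_num)
  have ht' : orderOf (t.1 : GL (Fin 4) F) = 2 := by rw [Subgroup.orderOf_coe, ht]
  have ht2 : (t.1 : GL (Fin 4) F) * t.1 = 1 := by
    have := pow_orderOf_eq_one (t.1 : GL (Fin 4) F)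
    rwa [ht', sq] at this
  have hne : (t.1 : GL (Fin 4) F) ≠ 1 := by
    intro h
    rw [h, orderOf_one] at ht'
    exact absurd ht' (by norm_num)
  have hex : ∃ x : Fin 4 → F, t.1 • x ≠ x := by
    by_contra hall
    apply hne
    apply eq_one_of_smul
    intro x
    by_contra hx
    exact hall ⟨x, hx⟩
  obtain ⟨x, hx⟩ := hex
  have hx0 : x ≠ 0 := by
    rintro rfl
    exact hx (gl_smul_zero _)
  have htt : t.1 • (t.1 • x) = x := by rw [← mul_smul, ht2, one_smul]
  have hu0 : x + t.1 • x ≠ 0 := by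
    intro h
    apply hx
    have h1 : x + t.1 • x + x = x := by rw [h, zero_add]
    have h2 : x + t.1 • x + x = t.1 • x := by
      rw [add_comm x, add_assoc, add_self_vec hF, add_zero]
    rw [← h2, h1]
  have hux : x + t.1 • x ≠ x := by
    intro h
    have h1 : t.1 • x = 0 := by
      have := add_left_cancel (a := x) (b := t.1 • x) (c := 0) (by rw [add_zero]; exact h)
      exact this
    exact hx0 ((smul_eq_zero_iff _ x).mp h1)
  have htu : t.1 • (x + t.1 • x) = x + t.1 • x := by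
    rw [gl_smul_add, htt, add_comm]
  have htx : t.1 • x = x + (x + t.1 • x) := by
    rw [← add_assoc, add_self_vec hF, zero_add]
  exact key' (x + t.1 • x) x hu0 hx0 hux t.1 t.2 htu htx

theorem two_transitive (hF : Fintype.card F = 2) (H : Subgroup (GL (Fin 4) F))
    (hc : Nat.card H = 2520) (v w v' w' : Fin 4 → F) (hv : v ≠ 0) (hw : w ≠ 0) (hvw : v ≠ w)
    (hv' : v' ≠ 0) (hw' : w' ≠ 0) (hvw' : v' ≠ w') :
    ∃ g ∈ H, (g : Matrix (Fin 4) (Fin 4) F).mulVec v = v' ∧
      (g : Matrix (Fin 4) (Fin 4) F).mulVec w = w' := by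
  obtain ⟨g1, hg1, hg1v⟩ := exists_smul_eq hF H hc v v' hv hv'
  have h1 : g1⁻¹ • w' ≠ 0 := fun h => hw' ((smul_eq_zero_iff _ w').mp h)
  have h2 : g1⁻¹ • w' ≠ v := by
    intro h
    apply hvw'
    rw [← hg1v, ← h, smul_inv_smul]
  have hmem : g1⁻¹ • w' ∈ MulAction.orbit ↥(MulAction.stabilizer ↥H v) w := by
    rw [orbit_stab_eq hF H hc v w hv hw hvw]
    exact ⟨h1, h2⟩
  obtain ⟨k, hk⟩ := hmem
  have hkv : k.1.1 • v = v := k.2
  have hkw : k.1.1 • w = g1⁻¹ • w' := hk
  refine ⟨g1 * k.1.1, H.mul_mem hg1 k.1.2, ?_, ?_⟩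
  · show (g1 * k.1.1) • v = v'
    rw [mul_smul, hkv, hg1v]
  · show (g1 * k.1.1) • w = w'
    rw [mul_smul, hkw, smul_inv_smul]

end Cfsg.Agent.Helper27.A7GL
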