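import Mathlib

/-!
# 52 × 52 matrices over `𝔽₂` packed in one natural number

Bit `52 * i + j` of the code is the entry `(i, j)`.  The product of two packed matrices is computed with
52 big-number multiplications: `A * B = ⊕ₖ colₖ(A) ⊗ rowₖ(B)` where the column mask
`(A >>> k) &&& M52` has the bits `52 * i` for the rows `i` with `A i k = 1` and the row
`(B >>> (52 * k)) &&& R52` is below `2 ^ 52`.
-/

set_option autoImplicit false

namespace Cfsg.Agent.Helper27.BitMat

/-- force the evaluation of a natural number argument (the kernel is lazy) -/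
def forceN {α : Sort _} (f : ℕ → α) (m : ℕ) : α := Nat.casesOn m (f 0) (fun n => f (Nat.succ n))

theorem forceN_eq {α : Sort _} (f : ℕ → α) (m : ℕ) : forceN f m = f m := by
  cases m <;> rfl

/-- `Σ_(i<n, a i) 2^(w i)` built from the bottom -/
def blockSum (w : ℕ) : ℕ → (ℕ → Bool) → ℕ
  | 0, _ => 0
  | n + 1, a => 2 ^ w * blockSum w n (fun i => a (i + 1)) + (if a 0 then 1 else 0)

theorem testBit_blockSum (w : ℕ) (hw : 0 < w) (n : ℕ) (a : ℕ → Bool) (i j : ℕ) (hj : j < w) :
    Nat.testBit (blockSum w n a) (w * i + j) = (decide (j = 0) && decide (i < n) && a i) := by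
  induction n generalizing a i with
  | zero => simp [blockSum]
  | succ n ih =>
    have hb : (if a 0 then 1 else 0) < 2 ^ w := by
      have : 1 < 2 ^ w := Nat.one_lt_two_pow (by omega)
      split <;> omega
    rw [blockSum, Nat.testBit_two_pow_mul_add _ hb]
    cases i with
    | zero =>
      rw [Nat.mul_zero, Nat.zero_add, if_pos hj]
      cases h0 : a 0
      · simp
      · cases j with
        | zero => simp
        | succ j => simp [Nat.testBit_succ]
    | succ i =>
      have h1 : ¬ (w * (i + 1) + j < w) := by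
        rw [Nat.mul_succ]; omega
      have h2 : w * (i + 1) + j - w = w * i + j := by
        rw [Nat.mul_succ]; omega
      rw [if_neg h1, h2, ih]
      simp

theorem testBit_blockSum_mul (w : ℕ) (n : ℕ) (a : ℕ → Bool) (r : ℕ) (hr : r < 2 ^ w) (i j : ℕ)
    (hj : j < w) :
    Nat.testBit (blockSum w n a * r) (w * i + j) = (decide (i < n) && a i && Nat.testBit r j) := by
  induction n generalizing a i with
  | zero => simp [blockSum]
  | succ n ih =>
    have hb : (if a 0 then 1 else 0) * r < 2 ^ w := by
      split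
      · rwa [Nat.one_mul]
      · rw [Nat.zero_mul]; exact Nat.two_pow_pos w
    rw [blockSum, Nat.add_mul, Nat.mul_assoc, Nat.testBit_two_pow_mul_add _ hb]
    cases i with
    | zero =>
      rw [Nat.mul_zero, Nat.zero_add, if_pos hj]
      cases h0 : a 0 <;> simp
    | succ i =>
      have h1 : ¬ (w * (i + 1) + j < w) := by
        rw [Nat.mul_succ]; omega
      have h2 : w * (i + 1) + j - w = w * i + j := by
        rw [Nat.mul_succ]; omega
      rw [if_neg h1, h2, ih]
      simp

theorem land_blockSum (w : ℕ) (hw : 0 < w) (n A k : ℕ) :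
    (A >>> k) &&& blockSum w n (fun _ => true) = blockSum w n (fun i => Nat.testBit A (w * i + k)) := by
  apply Nat.eq_of_testBit_eq
  intro p
  have hp : w * (p / w) + p % w = p := Nat.div_add_mod p w
  have hj : p % w < w := Nat.mod_lt p hw
  rw [← hp, Nat.testBit_and, testBit_blockSum w hw n _ _ _ hj, testBit_blockSum w hw n _ _ _ hj,
    Nat.testBit_shiftRight]
  by_cases h0 : p % w = 0
  · rw [h0, Nat.add_zero, Nat.add_comm k]
    cases Nat.testBit A (w * (p / w) + k) <;> simp
  · simp [h0]

/-- xor of `f 0, …, f (n-1)` -/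
def xorUpTo (f : ℕ → ℕ) : ℕ → ℕ
  | 0 => 0
  | n + 1 => Nat.xor (xorUpTo f n) (f n)

/-- Boolean xor of `f 0, …, f (n-1)` -/
def xorB (f : ℕ → Bool) : ℕ → Bool
  | 0 => false
  | n + 1 => xor (xorB f n) (f n)

theorem testBit_xorUpTo (f : ℕ → ℕ) (n p : ℕ) :
    Nat.testBit (xorUpTo f n) p = xorB (fun k => Nat.testBit (f k) p) n := by
  induction n with
  | zero => simp [xorUpTo, xorB]
  | succ n ih =>
    rw [xorUpTo, xorB, ← ih]
    exact Nat.testBit_xor _ _ _

theorem xorB_false (f : ℕ → Bool) (n : ℕ) (h : ∀ k < n, f k = false) : xorB f n = false := by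
  induction n with
  | zero => rfl
  | succ n ih =>
    rw [xorB, ih (fun k hk => h k (by omega)), h n (by omega)]
    rfl

theorem xorB_congr (f g : ℕ → Bool) (n : ℕ) (h : ∀ k < n, f k = g k) : xorB f n = xorB g n := by
  induction n with
  | zero => rfl
  | succ n ih =>
    rw [xorB, xorB, ih (fun k hk => h k (by omega)), h n (by omega)]

/-- the mask of the bits `52 * i`, `i < 52` -/
def M52 : ℕ := 2145598717320426040468311829476687896100410750235010908924460829614910820172825860866229897149843572397740991908709009986740828446349098858736515817123729924148424511070332108876916953299139516799065128908062467181230068545280192330381865988850609324639713928524000787908997678761251070108252045690797227674446403063979560825990437180400715655564546267779896458582777548937763455989309086766028667536122465557318460952998457747479157558498602489394178398337740579015189729854429955193057746764121714607921390590817300717441733184744535541957996169639328060259250270909223560659671678835806673061300035636631632079848060144350345733171292780341405698170879069642518106178285005928784429049472748671484020585585291745405799556411062982919029301981476082045728501237811750163612086325453358681393463297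

/-- `2 ^ 52 - 1` -/
def R52 : ℕ := 4503599627370495

/-- the code of the identity matrix -/
def Icode : ℕ := 4831458791905441912453582983313553767418113031359644012566243278081103618891756960265778003995587697199194753342912158943085149762628270928447260257463448519704125879415355095248481849545517863583770251321171858604691369828047845994246379531532855330275885120880181888401730846932905801514567307669776073172260041386410299880745207547213894984056279415010184854479524438015435106117519724509236372220975382953688081990285858020032683647055215745817565323072298980945793598866164854070906352661157661768736042999742248959963210465203478535898230983665872123085571387354825801536728571382400205669837725048548952899062377318759935575941294227990379218664102630609612347185687126865051634528880608731095920532189224749044318799926650735225536324197290637237432355251428142310517188488051787852686380855853276184182785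

theorem M52_eq : M52 = blockSum 52 52 (fun _ => true) := by decide +kernel

theorem R52_eq : R52 = 2 ^ 52 - 1 := by decide +kernel

/-- the `k`-th term of the product -/
def term (A B k : ℕ) : ℕ := ((A >>> k) &&& M52) * ((B >>> (52 * k)) &&& R52)

theorem testBit_term (A B k i j : ℕ) (hj : j < 52) :
    Nat.testBit (term A B k) (52 * i + j) =
      (decide (i < 52) && Nat.testBit A (52 * i + k) && Nat.testBit B (52 * k + j)) := by
  have hr : (B >>> (52 * k)) &&& R52 < 2 ^ 52 := Nat.and_lt_two_pow _ (by rw [R52_eq]; norm_num)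
  rw [term, M52_eq, land_blockSum 52 (by norm_num), testBit_blockSum_mul 52 52 _ _ hr i j hj,
    Nat.testBit_and, Nat.testBit_shiftRight, R52_eq, Nat.testBit_two_pow_sub_one, decide_eq_true hj,
    Bool.and_true]

/-- the product of packed matrices (specification) -/
def mulS (A B : ℕ) : ℕ := xorUpTo (term A B) 52

theorem testBit_mulS (A B i j : ℕ) (hj : j < 52) :
    Nat.testBit (mulS A B) (52 * i + j) =
      xorB (fun k => decide (i < 52) && Nat.testBit A (52 * i + k) && Nat.testBit B (52 * k + j)) 52 := by
  rw [mulS, testBit_xorUpTo]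
  exact xorB_congr _ _ _ (fun k _ => testBit_term A B k i j hj)

theorem mulS_lt (A B : ℕ) : mulS A B < 2 ^ 2704 := by
  apply Nat.lt_pow_two_of_testBit
  intro p hp
  have h1 : 52 * (p / 52) + p % 52 = p := Nat.div_add_mod p 52
  have hj : p % 52 < 52 := Nat.mod_lt p (by norm_num)
  rw [← h1, testBit_mulS A B _ _ hj]
  apply xorB_false
  intro k _
  have : ¬ (p / 52 < 52) := by omega
  simp [this]

/-- the product of packed matrices, unrolled -/
def mulU0 (a b : ℕ) : ℕ :=
  Nat.xor (Nat.xor (Nat.xor (Nat.xor (Nat.xor (Nat.xor (Nat.xor (Nat.xor (Nat.xor (Nat.xor (Nat.xor (Nat.xor (Nat.xor (Nat.xor (Nat.xor (Nat.xor (Nat.xor (Nat.xor (Nat.xor (Nat.xor (Nat.xor (Nat.xor (Nat.xor (Nat.xor (Nat.xor (Nat.xor (Nat.xor (Nat.xor (Nat.xor (Nat.xor (Nat.xor (Nat.xor (Nat.xor (Nat.xor (Nat.xor (Nat.xor (Nat.xor (Nat.xor (Nat.xor (Nat.xor (Nat.xor (Nat.xor (Nat.xor (Nat.xor (Nat.xor (Nat.xor (Nat.xor (Nat.xor (Nat.xor (Nat.xor (Nat.xor (Nat.xor (0)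
    (Nat.mul (Nat.land (Nat.shiftRight a 0) M52) (Nat.land (Nat.shiftRight b 0) R52)))
    (Nat.mul (Nat.land (Nat.shiftRight a 1) M52) (Nat.land (Nat.shiftRight b 52) R52)))
    (Nat.mul (Nat.land (Nat.shiftRight a 2) M52) (Nat.land (Nat.shiftRight b 104) R52)))
    (Nat.mul (Nat.land (Nat.shiftRight a 3) M52) (Nat.land (Nat.shiftRight b 156) R52)))
    (Nat.mul (Nat.land (Nat.shiftRight a 4) M52) (Nat.land (Nat.shiftRight b 208) R52)))
    (Nat.mul (Nat.land (Nat.shiftRight a 5) M52) (Nat.land (Nat.shiftRight b 260) R52)))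
    (Nat.mul (Nat.land (Nat.shiftRight a 6) M52) (Nat.land (Nat.shiftRight b 312) R52)))
    (Nat.mul (Nat.land (Nat.shiftRight a 7) M52) (Nat.land (Nat.shiftRight b 364) R52)))
    (Nat.mul (Nat.land (Nat.shiftRight a 8) M52) (Nat.land (Nat.shiftRight b 416) R52)))
    (Nat.mul (Nat.land (Nat.shiftRight a 9) M52) (Nat.land (Nat.shiftRight b 468) R52)))
    (Nat.mul (Nat.land (Nat.shiftRight a 10) M52) (Nat.land (Nat.shiftRight b 520) R52)))
    (Nat.mul (Nat.land (Nat.shiftRight a 11) M52) (Nat.land (Nat.shiftRight b 572) R52)))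
    (Nat.mul (Nat.land (Nat.shiftRight a 12) M52) (Nat.land (Nat.shiftRight b 624) R52)))
    (Nat.mul (Nat.land (Nat.shiftRight a 13) M52) (Nat.land (Nat.shiftRight b 676) R52)))
    (Nat.mul (Nat.land (Nat.shiftRight a 14) M52) (Nat.land (Nat.shiftRight b 728) R52)))
    (Nat.mul (Nat.land (Nat.shiftRight a 15) M52) (Nat.land (Nat.shiftRight b 780) R52)))
    (Nat.mul (Nat.land (Nat.shiftRight a 16) M52) (Nat.land (Nat.shiftRight b 832) R52)))
    (Nat.mul (Nat.land (Nat.shiftRight a 17) M52) (Nat.land (Nat.shiftRight b 884) R52)))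
    (Nat.mul (Nat.land (Nat.shiftRight a 18) M52) (Nat.land (Nat.shiftRight b 936) R52)))
    (Nat.mul (Nat.land (Nat.shiftRight a 19) M52) (Nat.land (Nat.shiftRight b 988) R52)))
    (Nat.mul (Nat.land (Nat.shiftRight a 20) M52) (Nat.land (Nat.shiftRight b 1040) R52)))
    (Nat.mul (Nat.land (Nat.shiftRight a 21) M52) (Nat.land (Nat.shiftRight b 1092) R52)))
    (Nat.mul (Nat.land (Nat.shiftRight a 22) M52) (Nat.land (Nat.shiftRight b 1144) R52)))
    (Nat.mul (Nat.land (Nat.shiftRight a 23) M52) (Nat.land (Nat.shiftRight b 1196) R52)))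
    (Nat.mul (Nat.land (Nat.shiftRight a 24) M52) (Nat.land (Nat.shiftRight b 1248) R52)))
    (Nat.mul (Nat.land (Nat.shiftRight a 25) M52) (Nat.land (Nat.shiftRight b 1300) R52)))
    (Nat.mul (Nat.land (Nat.shiftRight a 26) M52) (Nat.land (Nat.shiftRight b 1352) R52)))
    (Nat.mul (Nat.land (Nat.shiftRight a 27) M52) (Nat.land (Nat.shiftRight b 1404) R52)))
    (Nat.mul (Nat.land (Nat.shiftRight a 28) M52) (Nat.land (Nat.shiftRight b 1456) R52)))
    (Nat.mul (Nat.land (Nat.shiftRight a 29) M52) (Nat.land (Nat.shiftRight b 1508) R52)))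
    (Nat.mul (Nat.land (Nat.shiftRight a 30) M52) (Nat.land (Nat.shiftRight b 1560) R52)))
    (Nat.mul (Nat.land (Nat.shiftRight a 31) M52) (Nat.land (Nat.shiftRight b 1612) R52)))
    (Nat.mul (Nat.land (Nat.shiftRight a 32) M52) (Nat.land (Nat.shiftRight b 1664) R52)))
    (Nat.mul (Nat.land (Nat.shiftRight a 33) M52) (Nat.land (Nat.shiftRight b 1716) R52)))
    (Nat.mul (Nat.land (Nat.shiftRight a 34) M52) (Nat.land (Nat.shiftRight b 1768) R52)))
    (Nat.mul (Nat.land (Nat.shiftRight a 35) M52) (Nat.land (Nat.shiftRight b 1820) R52)))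
    (Nat.mul (Nat.land (Nat.shiftRight a 36) M52) (Nat.land (Nat.shiftRight b 1872) R52)))
    (Nat.mul (Nat.land (Nat.shiftRight a 37) M52) (Nat.land (Nat.shiftRight b 1924) R52)))
    (Nat.mul (Nat.land (Nat.shiftRight a 38) M52) (Nat.land (Nat.shiftRight b 1976) R52)))
    (Nat.mul (Nat.land (Nat.shiftRight a 39) M52) (Nat.land (Nat.shiftRight b 2028) R52)))
    (Nat.mul (Nat.land (Nat.shiftRight a 40) M52) (Nat.land (Nat.shiftRight b 2080) R52)))
    (Nat.mul (Nat.land (Nat.shiftRight a 41) M52) (Nat.land (Nat.shiftRight b 2132) R52)))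
    (Nat.mul (Nat.land (Nat.shiftRight a 42) M52) (Nat.land (Nat.shiftRight b 2184) R52)))
    (Nat.mul (Nat.land (Nat.shiftRight a 43) M52) (Nat.land (Nat.shiftRight b 2236) R52)))
    (Nat.mul (Nat.land (Nat.shiftRight a 44) M52) (Nat.land (Nat.shiftRight b 2288) R52)))
    (Nat.mul (Nat.land (Nat.shiftRight a 45) M52) (Nat.land (Nat.shiftRight b 2340) R52)))
    (Nat.mul (Nat.land (Nat.shiftRight a 46) M52) (Nat.land (Nat.shiftRight b 2392) R52)))
    (Nat.mul (Nat.land (Nat.shiftRight a 47) M52) (Nat.land (Nat.shiftRight b 2444) R52)))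
    (Nat.mul (Nat.land (Nat.shiftRight a 48) M52) (Nat.land (Nat.shiftRight b 2496) R52)))
    (Nat.mul (Nat.land (Nat.shiftRight a 49) M52) (Nat.land (Nat.shiftRight b 2548) R52)))
    (Nat.mul (Nat.land (Nat.shiftRight a 50) M52) (Nat.land (Nat.shiftRight b 2600) R52)))
    (Nat.mul (Nat.land (Nat.shiftRight a 51) M52) (Nat.land (Nat.shiftRight b 2652) R52))

theorem mulU0_eq (a b : ℕ) : mulU0 a b = mulS a b := rfl

/-- the product of packed matrices, with forced arguments -/
def mulU (A B : ℕ) : ℕ := forceN (fun a => forceN (fun b => mulU0 a b) B) A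

theorem mulU_eq (A B : ℕ) : mulU A B = mulS A B := by
  rw [mulU, forceN_eq, forceN_eq, mulU0_eq]

theorem mulU_lt (A B : ℕ) : mulU A B < 2 ^ 2704 := by
  rw [mulU_eq]; exact mulS_lt A B

theorem testBit_mulU (A B i j : ℕ) (hj : j < 52) :
    Nat.testBit (mulU A B) (52 * i + j) =
      xorB (fun k => decide (i < 52) && Nat.testBit A (52 * i + k) && Nat.testBit B (52 * k + j)) 52 := by
  rw [mulU_eq]; exact testBit_mulS A B i j hj

theorem Icode_lt : Icode < 2 ^ 2704 := by decide +kernel

theorem testBit_Icode : ∀ i < 52, ∀ j < 52, Nat.testBit Icode (52 * i + j) = decide (i = j) := by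
  decide +kernel

/-- two numbers below `2 ^ 2704` with the same bits `52 * i + j`, `i, j < 52`, are equal -/
theorem eq_of_bits {c d : ℕ} (hc : c < 2 ^ 2704) (hd : d < 2 ^ 2704)
    (h : ∀ i < 52, ∀ j < 52, Nat.testBit c (52 * i + j) = Nat.testBit d (52 * i + j)) : c = d := by
  apply Nat.eq_of_testBit_eq
  intro p
  by_cases hp : p < 2704
  · have h1 : 52 * (p / 52) + p % 52 = p := Nat.div_add_mod p 52
    rw [← h1]
    exact h _ (by omega) _ (Nat.mod_lt p (by norm_num))
  · have h2 : (2 : ℕ) ^ 2704 ≤ 2 ^ p := Nat.pow_le_pow_right (by norm_num) (by omega)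
    rw [Nat.testBit_lt_two_pow (lt_of_lt_of_le hc h2), Nat.testBit_lt_two_pow (lt_of_lt_of_le hd h2)]

end Cfsg.Agent.Helper27.BitMat
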