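import Cfsg.Agent.Helper27.BitMatGL

/-!
# Commutators, keys and conjugation certificates for packed 52 × 52 matrices
-/

set_option autoImplicit false

namespace Cfsg.Agent.Helper27.BitMat

open Cfsg Cfsg.Lie Cfsg.Agent.Helper18

/-! ### commutators -/

theorem comm_coded (S : Subgroup GL52) {cx cxi cy cyi : ℕ} (hx : CodedIn S cx) (hxi : CodedIn S cxi)
    (hy : CodedIn S cy) (hyi : CodedIn S cyi) (h1 : mulU cx cxi = Icode) (h2 : mulU cy cyi = Icode) :
    ∃ x ∈ S, ∃ y ∈ S, IsCodeG (mulU (mulU cx cy) (mulU cxi cyi)) (x * y * x⁻¹ * y⁻¹) := by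
  obtain ⟨x, hxS, hxc⟩ := hx
  obtain ⟨x', _, hxc'⟩ := hxi
  obtain ⟨y, hyS, hyc⟩ := hy
  obtain ⟨y', _, hyc'⟩ := hyi
  have e1 : x * x' = 1 := isCodeG_inj (isCodeG_mul hxc hxc') (h1 ▸ isCodeG_one)
  have e2 : y * y' = 1 := isCodeG_inj (isCodeG_mul hyc hyc') (h2 ▸ isCodeG_one)
  have e3 : x' = x⁻¹ := eq_inv_of_mul_eq_one_right e1
  have e4 : y' = y⁻¹ := eq_inv_of_mul_eq_one_right e2
  subst e3 e4
  refine ⟨x, hxS, y, hyS, ?_⟩
  have := isCodeG_mul (isCodeG_mul hxc hyc) (isCodeG_mul hxc' hyc')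
  rwa [← mul_assoc] at this

/-! ### keys -/

/-- an index with a given number -/
noncomputable def ofN (n : ℕ) : chevF4.Idx :=
  if h : n < 52 then (exists_cd_eq h).choose else Sum.inl ⟨0, by decide⟩

theorem cd_ofN {n : ℕ} (h : n < 52) : cd (ofN n) = n := by
  rw [ofN, dif_pos h]
  exact (exists_cd_eq h).choose_spec

/-- the number with binary digits `f p`, `p` in the list -/
def keyF (f : ℕ → ℕ) (ps : List ℕ) : ℕ := ps.foldl (fun acc p => Nat.add (Nat.mul 2 acc) (f p)) 0

theorem keyF_congr (f g : ℕ → ℕ) (ps : List ℕ) (h : ∀ p ∈ ps, f p = g p) : keyF f ps = keyF g ps := by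
  unfold keyF
  generalize (0 : ℕ) = a
  induction ps generalizing a with
  | nil => rfl
  | cons p ps ih =>
    rw [List.foldl_cons, List.foldl_cons, h p (List.mem_cons_self ..)]
    exact ih (fun q hq => h q (List.mem_cons_of_mem _ hq)) _

/-- the key of a code -/
def keyC (ps : List ℕ) (c : ℕ) : ℕ := keyF (fun p => Nat.land (Nat.shiftRight c p) 1) ps

/-- the key of a matrix -/
noncomputable def keyG (ps : List ℕ) (g : GL52) : ℕ :=
  keyF (fun p => if (g : Mat52) (ofN (p / 52)) (ofN (p % 52)) = 1 then 1 else 0) ps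

theorem keyG_eq (ps : List ℕ) (hps : ∀ p ∈ ps, p < 2704) {c : ℕ} {g : GL52} (h : IsCodeG c g) :
    keyG ps g = keyC ps c := by
  apply keyF_congr
  intro p hp
  have hp' := hps p hp
  have h1 : cd (ofN (p / 52)) = p / 52 := cd_ofN (by omega)
  have h2 : cd (ofN (p % 52)) = p % 52 := cd_ofN (Nat.mod_lt p (by norm_num))
  have h3 : 52 * (p / 52) + p % 52 = p := Nat.div_add_mod p 52
  rw [h.2, h1, h2, h3]
  have h4 : Nat.land (Nat.shiftRight c p) 1 = (Nat.testBit c p).toNat := by
    rw [Nat.toNat_testBit]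
    show (c >>> p) &&& 1 = _
    rw [Nat.and_one_is_mod, Nat.shiftRight_eq_div_pow]
  rw [h4]
  cases Nat.testBit c p <;> simp

/-- the set of keys of a list of codes, as a bit mask -/
def coverAcc (ps : List ℕ) : List ℕ → ℕ → ℕ
  | [], acc => acc
  | c :: l, acc => forceN (fun a => coverAcc ps l a) (Nat.lor acc (Nat.shiftLeft 1 (keyC ps c)))

theorem coverAcc_testBit (ps : List ℕ) (l : List ℕ) (acc k : ℕ)
    (h : Nat.testBit (coverAcc ps l acc) k = true) :
    Nat.testBit acc k = true ∨ ∃ c ∈ l, keyC ps c = k := by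
  induction l generalizing acc with
  | nil => exact Or.inl h
  | cons c l ih =>
    rw [coverAcc, forceN_eq] at h
    rcases ih _ h with h1 | ⟨c', hc', e⟩
    · have h2 : Nat.lor acc (Nat.shiftLeft 1 (keyC ps c)) = acc ||| 2 ^ keyC ps c := by
        show acc ||| (1 <<< keyC ps c) = _
        rw [Nat.one_shiftLeft]
      rw [h2, Nat.testBit_or, Nat.testBit_two_pow, Bool.or_eq_true] at h1
      rcases h1 with h1 | h1
      · exact Or.inl h1
      · exact Or.inr ⟨c, List.mem_cons_self .., of_decide_eq_true h1⟩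
    · exact Or.inr ⟨c', List.mem_cons_of_mem _ hc', e⟩

/-- a list of codes of elements of a subgroup of order `2 ^ n` whose keys take all values below `2 ^ n`
contains the code of every element of the subgroup -/
theorem all_coded_of_cover (S : Subgroup GL52) (ps l : List ℕ) (n : ℕ) (hps : ∀ p ∈ ps, p < 2704)
    (hl : ∀ c ∈ l, CodedIn S c) (hcard : Nat.card S = 2 ^ n)
    (hcover : coverAcc ps l 0 = 2 ^ 2 ^ n - 1) : ∀ u ∈ S, ∃ c ∈ l, IsCodeG c u := by
  classical
  set T : Set GL52 := {u | ∃ c ∈ l, IsCodeG c u} with hT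
  have hTS : T ⊆ (S : Set GL52) := by
    rintro u ⟨c, hc, hcu⟩
    obtain ⟨g, hg, hcg⟩ := hl c hc
    rw [isCodeG_inj hcu hcg]
    exact hg
  have hfin : (S : Set GL52).Finite := Set.toFinite _
  have h1 : ((Finset.range (2 ^ n) : Finset ℕ) : Set ℕ) ⊆ keyG ps '' T := by
    intro k hk
    have hk' : k < 2 ^ n := Finset.mem_range.mp (Finset.mem_coe.mp hk)
    have h2 : Nat.testBit (coverAcc ps l 0) k = true := by
      rw [hcover, Nat.testBit_two_pow_sub_one]
      exact decide_eq_true hk'
    rcases coverAcc_testBit ps l 0 k h2 with h3 | ⟨c, hc, e⟩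
    · rw [Nat.zero_testBit] at h3
      exact absurd h3 (by decide)
    · obtain ⟨g, _, hcg⟩ := hl c hc
      exact ⟨g, ⟨c, hc, hcg⟩, by rw [keyG_eq ps hps hcg, e]⟩
  have h4 : 2 ^ n ≤ T.ncard := by
    calc 2 ^ n = ((Finset.range (2 ^ n) : Finset ℕ) : Set ℕ).ncard := by
          rw [Set.ncard_coe_finset, Finset.card_range]
      _ ≤ (keyG ps '' T).ncard := Set.ncard_le_ncard h1 ((hfin.subset hTS).image _)
      _ ≤ T.ncard := Set.ncard_image_le (hfin.subset hTS)
  have h5 : (S : Set GL52).ncard = 2 ^ n := by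
    rw [← hcard]
    rfl
  have h6 : T = (S : Set GL52) := Set.eq_of_subset_of_ncard_le hTS (by rw [h5]; exact h4) hfin
  intro u hu
  have : u ∈ T := by rw [h6]; exact hu
  exact this

/-! ### certificates -/

/-- the check for one element: `z = []` claims that `c` is not the code of an involution, `z = k :: w`
claims that the word `w` conjugates the representative `rep k` to `c` -/
def okEntry (gc rep : ℕ → ℕ) (c : ℕ) : List ℕ → Bool
  | [] => Nat.beq c Icode || !(Nat.beq (mulU c c) Icode)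
  | k :: w => forceN (fun W => Nat.beq (mulU W (rep k)) (mulU c W)) (evalW gc w)

/-- the check for a list of elements and a list of certificates -/
def chk2 (gc rep : ℕ → ℕ) : List ℕ → List (List ℕ) → Bool
  | [], _ => true
  | _ :: _, [] => false
  | c :: l, z :: zs => okEntry gc rep c z && chk2 gc rep l zs

theorem chk2_sound (gc rep : ℕ → ℕ) (l : List ℕ) (zs : List (List ℕ)) (h : chk2 gc rep l zs = true) :
    ∀ c ∈ l, ∃ z, okEntry gc rep c z = true := by
  induction l generalizing zs with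
  | nil => intro c hc; cases hc
  | cons c l ih =>
    cases zs with
    | nil => simp [chk2] at h
    | cons z zs =>
      rw [chk2, Bool.and_eq_true] at h
      intro c' hc'
      rcases List.mem_cons.mp hc' with rfl | h'
      · exact ⟨z, h.1⟩
      · exact ih zs h.2 c' h'

/-- a certified involution is conjugate to a representative -/
theorem okEntry_sound (S : Subgroup GL52) (gc rep : ℕ → ℕ) (hgc : ∀ i, CodedIn S (gc i)) (c : ℕ) (z : List ℕ)
    (h : okEntry gc rep c z = true) (u : GL52) (hu : IsCodeG c u) (h2 : u * u = 1) (h1 : u ≠ 1) :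
    ∃ k, ∃ w ∈ S, ∀ r : GL52, IsCodeG (rep k) r → u = w * r * w⁻¹ := by
  cases z with
  | nil =>
    exfalso
    rw [okEntry, Bool.or_eq_true] at h
    rcases h with h | h
    · have : c = Icode := Nat.eq_of_beq_eq_true h
      subst this
      exact h1 (isCodeG_inj hu isCodeG_one)
    · have h3 : IsCodeG (mulU c c) 1 := h2 ▸ isCodeG_mul hu hu
      have h4 : mulU c c = Icode := isCodeG_code_eq h3 isCodeG_one
      rw [h4] at h
      simp at h
  | cons k w =>
    rw [okEntry, forceN_eq] at h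
    have h3 := Nat.eq_of_beq_eq_true h
    obtain ⟨W, hW, hWc⟩ := codedIn_evalW S gc w (fun i _ => hgc i)
    refine ⟨k, W, hW, fun r hr => ?_⟩
    have h4 : W * r = u * W := by
      apply isCodeG_inj (isCodeG_mul hWc hr)
      rw [h3]
      exact isCodeG_mul hu hWc
    rw [h4, mul_inv_cancel_right]

end Cfsg.Agent.Helper27.BitMat
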