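import Cfsg.Agent.Helper27.BitMat
import Cfsg.Agent.Helper18.TriAll

/-!
# Packed codes of the 52 × 52 matrices over `𝔽₂` in the adjoint representation of type `F₄`
-/

set_option autoImplicit false

namespace Cfsg.Agent.Helper27.BitMat

open Cfsg Cfsg.Lie Cfsg.Agent.Helper18

/-- the 52 × 52 matrices over `𝔽₂` indexed by the Chevalley basis of type `F₄` -/
abbrev Mat52 : Type := Matrix chevF4.Idx chevF4.Idx (ZMod 2)

/-- the general linear group of the adjoint module of type `F₄` over `𝔽₂` -/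
abbrev GL52 : Type := GL chevF4.Idx (ZMod 2)

/-- the number of an index -/
def cd (a : chevF4.Idx) : ℕ := code chevF4 a

theorem cd_lt (a : chevF4.Idx) : cd a < 52 := code_lt chevF4 a

theorem cd_injective : Function.Injective cd := code_injective chevF4

theorem exists_cd_eq {n : ℕ} (hn : n < 52) : ∃ a : chevF4.Idx, cd a = n := exists_code_eq chevF4 hn

/-- `c` is the packed code of the matrix `g` -/
def IsCodeM (c : ℕ) (g : Mat52) : Prop :=
  c < 2 ^ 2704 ∧ ∀ a b, g a b = if Nat.testBit c (52 * cd a + cd b) then 1 else 0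

theorem sum_ite_xorB (f : ℕ → Bool) (n : ℕ) :
    (∑ k ∈ Finset.range n, (if f k then (1 : ZMod 2) else 0)) = if xorB f n then 1 else 0 := by
  induction n with
  | zero => simp [xorB]
  | succ n ih =>
    rw [Finset.sum_range_succ, ih, xorB]
    cases xorB f n <;> cases f n <;> decide

theorem sum_idx (F : ℕ → ZMod 2) : ∑ k : chevF4.Idx, F (cd k) = ∑ n ∈ Finset.range 52, F n := by
  apply Finset.sum_nbij cd
  · intro a _
    exact Finset.mem_range.mpr (cd_lt a)
  · exact cd_injective.injOn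
  · intro n hn
    obtain ⟨a, ha⟩ := exists_cd_eq (Finset.mem_range.mp hn)
    exact ⟨a, Finset.mem_coe.mpr (Finset.mem_univ _), ha⟩
  · intro a _
    rfl

theorem ite_mul_ite (p q : Bool) :
    (if p then (1 : ZMod 2) else 0) * (if q then 1 else 0) = if (p && q) then 1 else 0 := by
  cases p <;> cases q <;> simp

theorem isCodeM_mul {c d : ℕ} {g h : Mat52} (hc : IsCodeM c g) (hd : IsCodeM d h) :
    IsCodeM (mulU c d) (g * h) := by
  refine ⟨mulU_lt c d, fun a b => ?_⟩
  rw [Matrix.mul_apply, testBit_mulU c d (cd a) (cd b) (cd_lt b)]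
  generalize hB : (fun k => decide (cd a < 52) && Nat.testBit c (52 * cd a + k) &&
        Nat.testBit d (52 * k + cd b)) = B
  have h1 : ∀ k : chevF4.Idx, g a k * h k b = (fun n => if B n then (1 : ZMod 2) else 0) (cd k) := by
    intro k
    rw [hc.2, hd.2, ite_mul_ite, ← hB]
    simp only [decide_eq_true (cd_lt a), Bool.true_and]
  rw [Finset.sum_congr rfl (fun k _ => h1 k)]
  exact (sum_idx (fun n => if B n then (1 : ZMod 2) else 0)).trans (sum_ite_xorB B 52)

theorem isCodeM_one : IsCodeM Icode (1 : Mat52) := by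
  refine ⟨Icode_lt, fun a b => ?_⟩
  rw [testBit_Icode _ (cd_lt a) _ (cd_lt b), Matrix.one_apply]
  by_cases h : a = b
  · subst h; simp
  · have : cd a ≠ cd b := fun e => h (cd_injective e)
    simp [h, this]

theorem isCodeM_inj {c : ℕ} {g h : Mat52} (hg : IsCodeM c g) (hh : IsCodeM c h) : g = h :=
  Matrix.ext fun a b => by rw [hg.2, hh.2]

theorem isCodeM_code_eq {c d : ℕ} {g : Mat52} (hc : IsCodeM c g) (hd : IsCodeM d g) : c = d := by
  apply eq_of_bits hc.1 hd.1
  intro i hi j hj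
  obtain ⟨a, rfl⟩ := exists_cd_eq hi
  obtain ⟨b, rfl⟩ := exists_cd_eq hj
  have h1 := hc.2 a b
  have h2 := hd.2 a b
  rw [h1] at h2
  cases hp : Nat.testBit c (52 * cd a + cd b) <;> cases hq : Nat.testBit d (52 * cd a + cd b) <;>
    simp_all

/-- `c` is the packed code of the invertible matrix `g` -/
def IsCodeG (c : ℕ) (g : GL52) : Prop := IsCodeM c (g : Mat52)

theorem isCodeG_mul {c d : ℕ} {g h : GL52} (hc : IsCodeG c g) (hd : IsCodeG d h) :
    IsCodeG (mulU c d) (g * h) := by
  unfold IsCodeG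
  rw [Units.val_mul]
  exact isCodeM_mul hc hd

theorem isCodeG_one : IsCodeG Icode (1 : GL52) := by
  unfold IsCodeG
  rw [Units.val_one]
  exact isCodeM_one

theorem isCodeG_inj {c : ℕ} {g h : GL52} (hg : IsCodeG c g) (hh : IsCodeG c h) : g = h :=
  Units.ext (isCodeM_inj hg hh)

theorem isCodeG_code_eq {c d : ℕ} {g : GL52} (hc : IsCodeG c g) (hd : IsCodeG d g) : c = d :=
  isCodeM_code_eq hc hd

/-- `c` is the code of an element of the subgroup `S` -/
def CodedIn (S : Subgroup GL52) (c : ℕ) : Prop := ∃ g ∈ S, IsCodeG c g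

theorem codedIn_one (S : Subgroup GL52) : CodedIn S Icode := ⟨1, S.one_mem, isCodeG_one⟩

theorem codedIn_mul {S : Subgroup GL52} {c d : ℕ} (hc : CodedIn S c) (hd : CodedIn S d) :
    CodedIn S (mulU c d) := by
  obtain ⟨g, hg, hcg⟩ := hc
  obtain ⟨h, hh, hdh⟩ := hd
  exact ⟨g * h, S.mul_mem hg hh, isCodeG_mul hcg hdh⟩

theorem codedIn_inf {S T : Subgroup GL52} {c : ℕ} (hS : CodedIn S c) (hT : CodedIn T c) :
    CodedIn (S ⊓ T) c := by
  obtain ⟨g, hg, hcg⟩ := hS
  obtain ⟨h, hh, hch⟩ := hT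
  have : g = h := isCodeG_inj hcg hch
  subst this
  exact ⟨g, ⟨hg, hh⟩, hcg⟩

theorem codedIn_mono {S T : Subgroup GL52} (hST : S ≤ T) {c : ℕ} (hS : CodedIn S c) : CodedIn T c := by
  obtain ⟨g, hg, hcg⟩ := hS
  exact ⟨g, hST hg, hcg⟩

/-- the code of a word in coded letters -/
def evalW (gc : ℕ → ℕ) : List ℕ → ℕ
  | [] => Icode
  | i :: w => mulU (gc i) (evalW gc w)

theorem codedIn_evalW (S : Subgroup GL52) (gc : ℕ → ℕ) (w : List ℕ) (h : ∀ i ∈ w, CodedIn S (gc i)) :
    CodedIn S (evalW gc w) := by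
  induction w with
  | nil => exact codedIn_one S
  | cons i w ih =>
    exact codedIn_mul (h i (List.mem_cons_self ..)) (ih (fun j hj => h j (List.mem_cons_of_mem _ hj)))

/-! ### root elements -/

/-- the root element `x_r(1)` in the general linear group -/
noncomputable def xg (r : ℕ) : GL52 := xGL chevF4 (ZMod 2) r 1

theorem xg_val (r : ℕ) : ((xg r : GL52) : Mat52) = chevF4.x (ZMod 2) r 1 :=
  xGL_val chevF4 (hlfOf chevF4) triOK_F4 r 1

theorem isCodeG_xg {c r : ℕ} (hc : c < 2 ^ 2704)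
    (h : ∀ p : chevF4.Idx × chevF4.Idx,
      chevF4.x (ZMod 2) r 1 p.1 p.2 = if Nat.testBit c (52 * cd p.1 + cd p.2) then 1 else 0) :
    IsCodeG c (xg r) := by
  unfold IsCodeG
  rw [xg_val]
  exact ⟨hc, fun a b => h (a, b)⟩

theorem xg_mem_posUnipotent {r : ℕ} (hr : chevF4.IsPosRoot r) : xg r ∈ chevF4.posUnipotent (ZMod 2) :=
  Subgroup.subset_closure ⟨r, 1, hr, xg_val r⟩

/-! ### enumeration by doubling -/

/-- prepend the left multiples `g * x`, `x ∈ l`, to `acc` (each product is evaluated first) -/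
def mapForce (g : ℕ) : List ℕ → List ℕ → List ℕ
  | [], acc => acc
  | x :: l, acc => forceN (fun y => mapForce g l (y :: acc)) (mulU g x)

theorem mem_mapForce (g : ℕ) (l acc : List ℕ) (y : ℕ) (hy : y ∈ mapForce g l acc) :
    y ∈ acc ∨ ∃ x ∈ l, y = mulU g x := by
  induction l generalizing acc with
  | nil => exact Or.inl hy
  | cons x l ih =>
    rw [mapForce, forceN_eq] at hy
    rcases ih _ hy with h | ⟨x', hx', e⟩
    · rcases List.mem_cons.mp h with h | h
      · exact Or.inr ⟨x, List.mem_cons_self .., h⟩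
      · exact Or.inl h
    · exact Or.inr ⟨x', List.mem_cons_of_mem _ hx', e⟩

/-- all products `g₁^{e₁} ⋯ gₙ^{eₙ}` -/
def enumU : List ℕ → List ℕ
  | [] => [Icode]
  | g :: gs => mapForce g (enumU gs) (enumU gs)

theorem codedIn_enumU (S : Subgroup GL52) (gs : List ℕ) (h : ∀ g ∈ gs, CodedIn S g) :
    ∀ c ∈ enumU gs, CodedIn S c := by
  induction gs with
  | nil =>
    intro c hc
    rw [enumU, List.mem_singleton] at hc
    subst hc
    exact codedIn_one S
  | cons g gs ih =>
    intro c hc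
    have ih' := ih (fun g' hg' => h g' (List.mem_cons_of_mem _ hg'))
    rw [enumU] at hc
    rcases mem_mapForce _ _ _ _ hc with h1 | ⟨x, hx, e⟩
    · exact ih' c h1
    · rw [e]
      exact codedIn_mul (h g (List.mem_cons_self ..)) (ih' x hx)

end Cfsg.Agent.Helper27.BitMat
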