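import Mathlib
import Cfsg.Prelude.Def_Sporadic_a

/-!
Bit-mask model of binary words on the 24 points `Cfsg.GolayPt`.
Point `some i` (i = 0..22) is bit `i`; the extra point `none` is bit 23.
-/

set_option autoImplicit false

namespace Cfsg.Agent.Helper27

open Cfsg

/-- index of a point: residues 0..22 ↦ 0..22, extra point ↦ 23 -/
def gIdx : GolayPt → ℕ
  | none => 23
  | some x => x.val

/-- the point with a given index -/
def gPt (i : ℕ) : GolayPt := if i < 23 then some (i : ZMod 23) else none

theorem gIdx_lt (p : GolayPt) : gIdx p < 24 := by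
  cases p with
  | none => decide
  | some x => exact lt_trans (ZMod.val_lt x) (by decide)

theorem gPt_gIdx (p : GolayPt) : gPt (gIdx p) = p := by
  cases p with
  | none => simp [gIdx, gPt]
  | some x =>
    have h : x.val < 23 := ZMod.val_lt x
    simp [gIdx, gPt, h]

theorem gIdx_gPt (i : ℕ) (h : i < 24) : gIdx (gPt i) = i := by
  unfold gPt
  split_ifs with h1
  · simp only [gIdx]
    exact ZMod.val_cast_of_lt h1
  · simp only [gIdx]; omega

theorem gIdx_injective : Function.Injective gIdx := by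
  intro p q h
  rw [← gPt_gIdx p, ← gPt_gIdx q, h]

theorem sum_golayPt {M : Type*} [AddCommMonoid M] (f : GolayPt → M) :
    ∑ p, f p = ∑ i ∈ Finset.range 24, f (gPt i) := by
  symm
  apply Finset.sum_bij (fun i _ => gPt i)
  · intro i _; exact Finset.mem_univ _
  · intro i hi j hj h
    rw [Finset.mem_range] at hi hj
    rw [← gIdx_gPt i hi, ← gIdx_gPt j hj, h]
  · intro p _
    exact ⟨gIdx p, Finset.mem_range.mpr (gIdx_lt p), gPt_gIdx p⟩
  · intro i _; rfl

/-- the binary word with a given bit mask -/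
def wordOf (m : ℕ) : GolayPt → ZMod 2 := fun p => if m.testBit (gIdx p) then 1 else 0

/-- the set of points with a given bit mask -/
def setOf (m : ℕ) : Finset GolayPt := Finset.univ.filter fun p => m.testBit (gIdx p) = true

theorem wordOf_apply (m : ℕ) (p : GolayPt) : wordOf m p = if m.testBit (gIdx p) then 1 else 0 := rfl

theorem mem_setOf (m : ℕ) (p : GolayPt) : p ∈ setOf m ↔ m.testBit (gIdx p) = true := by
  simp [setOf]

theorem wordOf_zero : wordOf 0 = 0 := by
  funext p; simp [wordOf]

theorem wordOf_xor (a b : ℕ) : wordOf (a ^^^ b) = wordOf a + wordOf b := by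
  funext p
  simp only [wordOf, Nat.testBit_xor, Pi.add_apply]
  cases a.testBit (gIdx p) <;> cases b.testBit (gIdx p) <;> decide

theorem support₂_wordOf (m : ℕ) : support₂ (wordOf m) = setOf m := by
  ext p
  simp only [support₂, wordOf, setOf, Finset.mem_filter, Finset.mem_univ, true_and]
  cases h : m.testBit (gIdx p) <;> simp [h]

/-- population count of the lowest `k` bits -/
def popc : ℕ → ℕ → ℕ
  | 0, _ => 0
  | k + 1, n => n % 2 + popc k (n / 2)

theorem popc_eq_sum (k m : ℕ) : popc k m = ∑ i ∈ Finset.range k, if m.testBit i then 1 else 0 := by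
  induction k generalizing m with
  | zero => simp [popc]
  | succ k ih =>
    rw [popc, ih, Finset.sum_range_succ']
    simp only [Nat.testBit_succ]
    rw [add_comm]
    congr 1
    rw [Nat.testBit_zero]
    rcases Nat.mod_two_eq_zero_or_one m with h | h <;> simp [h]

theorem card_setOf (m : ℕ) : (setOf m).card = popc 24 m := by
  rw [popc_eq_sum, setOf, Finset.card_filter, sum_golayPt]
  apply Finset.sum_congr rfl
  intro i hi
  rw [gIdx_gPt i (Finset.mem_range.mp hi)]

theorem hammingNorm_wordOf (m : ℕ) : hammingNorm (wordOf m) = popc 24 m := by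
  rw [← card_setOf, ← support₂_wordOf]
  rfl

/-- the mask of a word -/
def maskOf (w : GolayPt → ZMod 2) : ℕ := Nat.ofBits fun i : Fin 24 => decide (w (gPt i) ≠ 0)

theorem maskOf_lt (w : GolayPt → ZMod 2) : maskOf w < 2 ^ 24 := Nat.ofBits_lt_two_pow _

theorem wordOf_maskOf (w : GolayPt → ZMod 2) : wordOf (maskOf w) = w := by
  funext p
  have h := gIdx_lt p
  simp only [wordOf, maskOf, Nat.testBit_ofBits_lt _ _ h, gPt_gIdx]
  have : w p = 0 ∨ w p = 1 := by
    generalize w p = a
    revert a; decide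
  rcases this with h0 | h1
  · simp [h0]
  · simp [h1]

/-- the mask of a set of points -/
def maskOfSet (s : Finset GolayPt) : ℕ := Nat.ofBits fun i : Fin 24 => decide (gPt i ∈ s)

theorem maskOfSet_lt (s : Finset GolayPt) : maskOfSet s < 2 ^ 24 := Nat.ofBits_lt_two_pow _

theorem setOf_maskOfSet (s : Finset GolayPt) : setOf (maskOfSet s) = s := by
  ext p
  have h := gIdx_lt p
  simp [mem_setOf, maskOfSet, Nat.testBit_ofBits_lt _ _ h, gPt_gIdx]

theorem testBit_eq_of_setOf_eq {a b : ℕ} (h : setOf a = setOf b) (i : ℕ) (hi : i < 24) :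
    a.testBit i = b.testBit i := by
  have := congrArg (fun s => decide (gPt i ∈ s)) h
  simp only [mem_setOf, gIdx_gPt i hi] at this
  cases ha : a.testBit i <;> cases hb : b.testBit i <;> simp_all

theorem eq_of_setOf_eq {a b : ℕ} (ha : a < 2 ^ 24) (hb : b < 2 ^ 24) (h : setOf a = setOf b) : a = b := by
  apply Nat.eq_of_testBit_eq
  intro i
  by_cases hi : i < 24
  · exact testBit_eq_of_setOf_eq h i hi
  · have h24 : 2 ^ 24 ≤ 2 ^ i := Nat.pow_le_pow_right (by norm_num) (by omega)
    rw [Nat.testBit_lt_two_pow (lt_of_lt_of_le ha h24), Nat.testBit_lt_two_pow (lt_of_lt_of_le hb h24)]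

theorem setOf_eq_of_wordOf_eq {a b : ℕ} (h : wordOf a = wordOf b) : setOf a = setOf b := by
  rw [← support₂_wordOf, ← support₂_wordOf, h]

theorem eq_of_wordOf_eq {a b : ℕ} (ha : a < 2 ^ 24) (hb : b < 2 ^ 24) (h : wordOf a = wordOf b) : a = b :=
  eq_of_setOf_eq ha hb (setOf_eq_of_wordOf_eq h)

theorem maskOf_wordOf {a : ℕ} (ha : a < 2 ^ 24) : maskOf (wordOf a) = a :=
  eq_of_wordOf_eq (maskOf_lt _) ha (wordOf_maskOf _)

theorem maskOfSet_setOf {a : ℕ} (ha : a < 2 ^ 24) : maskOfSet (setOf a) = a :=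
  eq_of_setOf_eq (maskOfSet_lt _) ha (setOf_maskOfSet _)

theorem xor_lt_two_pow_24 {a b : ℕ} (ha : a < 2 ^ 24) (hb : b < 2 ^ 24) : a ^^^ b < 2 ^ 24 :=
  Nat.xor_lt_two_pow ha hb

end Cfsg.Agent.Helper27
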