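import Cfsg.Agent.Helper80.Pullback
import Cfsg.Agent.Helper79.Linear
import Cfsg.Agent.Helper78.BlockBasic
import Cfsg.Agent.S0952

/-!
Two general facts on blocks: all irreducible characters lie in one `2`-block as soon as no sum of an
irreducible character over the elements of odd order vanishes; and the property that all irreducible
characters lie in one block is transported along group isomorphisms.
-/

set_option autoImplicit false

namespace Cfsg.Agent.Helper27.BlockTransport

open Cfsg
open scoped ComplexConjugate

/-- if no irreducible character sums to zero over the elements of odd order, there is only one `2`-block -/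
theorem sameBlock_of_sum_ne_zero {G : Type*} [Group G] [Finite G] (M : Ideal AlgInt)
    (hM : IsPModular 2 M)
    (hsum : ∀ χ : IrrCharacter G, ∑ᶠ x ∈ {x : G | ¬ 2 ∣ orderOf x}, (χ : G → ℂ) x ≠ 0)
    (χ ψ : IrrCharacter G) : SameBlock M (χ : G → ℂ) (ψ : G → ℂ) := by
  have : Fact (Nat.Prime 2) := ⟨Nat.prime_two⟩
  have hprime : M.IsPrime := hM.2.1.isPrime
  let one : IrrCharacter G := ⟨fun _ => 1, Helper79.isIrrCharacter_one⟩
  have key : ∀ φ : IrrCharacter G, SameBlock M (φ : G → ℂ) (one : G → ℂ) := by
    intro φ
    by_contra h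
    have h0 := Cfsg.Agent.S0952.result 2 M hM φ one h
    apply hsum φ
    rw [← h0]
    apply finsum_mem_congr rfl
    intro x _
    show (φ : G → ℂ) x = (φ : G → ℂ) x * conj (1 : ℂ)
    rw [map_one, mul_one]
  exact Helper78.sameBlock_trans hprime (key χ) (Helper78.sameBlock_symm (key ψ))

theorem centralizer_map_equiv {G H : Type*} [Group G] [Group H] (e : G ≃* H) (g : G) :
    (Subgroup.centralizer ({g} : Set G)).map (e : G →* H) = Subgroup.centralizer ({e g} : Set H) := by
  ext h
  rw [Subgroup.mem_map, Subgroup.mem_centralizer_iff]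
  constructor
  · rintro ⟨x, hx, rfl⟩ y hy
    rw [Set.mem_singleton_iff] at hy
    rw [Subgroup.mem_centralizer_iff] at hx
    have := hx g (Set.mem_singleton _)
    rw [hy]
    show e g * e x = e x * e g
    rw [← map_mul, ← map_mul, this]
  · intro hh
    refine ⟨e.symm h, ?_, by simp⟩
    rw [Subgroup.mem_centralizer_iff]
    intro y hy
    rw [Set.mem_singleton_iff] at hy
    rw [hy]
    apply e.injective
    rw [map_mul, map_mul, e.apply_symm_apply]
    exact hh (e g) (Set.mem_singleton _)

/-- transport of the property that there is only one block -/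
theorem sameBlock_of_mulEquiv {G H : Type*} [Group G] [Group H] (e : G ≃* H) (M : Ideal AlgInt)
    (hH : ∀ χ ψ : IrrCharacter H, SameBlock M (χ : H → ℂ) (ψ : H → ℂ))
    (χ ψ : IrrCharacter G) : SameBlock M (χ : G → ℂ) (ψ : G → ℂ) := by
  let tr : IrrCharacter G → IrrCharacter H := fun φ =>
    ⟨fun h => (φ : G → ℂ) (e.symm h),
      Helper80.IsIrrCharacter.comp_surjective φ.2 e.symm.toMonoidHom e.symm.surjective⟩
  have hcc : ∀ (φ : IrrCharacter G) (g : G),
      centralChar ((tr φ : IrrCharacter H) : H → ℂ) (e g) = centralChar (φ : G → ℂ) g := by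
    intro φ g
    unfold centralChar
    have h1 : ((tr φ : IrrCharacter H) : H → ℂ) (e g) = (φ : G → ℂ) g := by
      show (φ : G → ℂ) (e.symm (e g)) = _
      rw [e.symm_apply_apply]
    have h2 : ((tr φ : IrrCharacter H) : H → ℂ) 1 = (φ : G → ℂ) 1 := by
      show (φ : G → ℂ) (e.symm 1) = _
      rw [map_one]
    rw [h1, h2, ← centralizer_map_equiv e g, Subgroup.index_map_equiv]
  intro g
  have := hH (tr χ) (tr ψ) (e g)
  rw [hcc χ g, hcc ψ g] at this
  exact this

end Cfsg.Agent.Helper27.BlockTransport
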