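import Mathlib
import Cfsg.Prelude.Def_Blocks
import Cfsg.Agent.Helper78.CentralChar

/-!
Products of sums over conjugation-invariant subsets in an irreducible representation, and the resulting
relations between the scalars by which these sums act.
-/

set_option autoImplicit false

namespace Cfsg.Agent.Helper27.ClassAlg

open Module Cfsg

section

variable {G : Type*} [Group G] [Fintype G] [DecidableEq G]
variable {V : Type*} [AddCommGroup V] [Module ℂ V] (ρ : Representation ℂ G V)

/-- the sum of `ρ x` over a finite set -/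
noncomputable def sumEnd (S : Finset G) : Module.End ℂ V := ∑ x ∈ S, ρ x

/-- invariance under conjugation -/
def ConjInv (S : Finset G) : Prop := ∀ g h : G, g ∈ S → h * g * h⁻¹ ∈ S

theorem sumEnd_comm (S : Finset G) (hS : ConjInv S) (h : G) :
    sumEnd ρ S * ρ h = ρ h * sumEnd ρ S := by
  unfold sumEnd
  rw [Finset.sum_mul, Finset.mul_sum]
  refine Finset.sum_bij' (fun x _ => h⁻¹ * x * h) (fun x _ => h * x * h⁻¹) ?_ ?_ ?_ ?_ ?_
  · intro x hx
    have := hS x h⁻¹ hx
    simpa using this
  · intro x hx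
    exact hS x h hx
  · intro x _; group
  · intro x _; group
  · intro x _
    rw [← map_mul, ← map_mul]
    congr 1
    group

/-- the scalar by which the sum over `S` acts -/
noncomputable def om (S : Finset G) : ℂ := (∑ x ∈ S, ρ.character x) / ρ.character 1

theorem sumEnd_eq_smul [FiniteDimensional ℂ V] [hρ : ρ.IsIrreducible] (S : Finset G)
    (hS : ConjInv S) : sumEnd ρ S = om ρ S • (1 : Module.End ℂ V) := by
  obtain ⟨c, hc⟩ := Helper78.exists_eq_smul_one_of_commute ρ (sumEnd ρ S)
    (fun h => sumEnd_comm ρ S hS h)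
  have hn : (finrank ℂ V : ℂ) ≠ 0 := by
    exact_mod_cast (Helper78.finrank_pos_of_isIrreducible ρ).ne'
  have htr : LinearMap.trace ℂ V (sumEnd ρ S) = ∑ x ∈ S, ρ.character x := by
    unfold sumEnd
    rw [map_sum]
    rfl
  rw [hc, map_smul, LinearMap.trace_one, smul_eq_mul] at htr
  have : c = om ρ S := by
    unfold om
    rw [Representation.char_one, ← htr]
    field_simp
  rw [← this, hc]

/-- the number of `x ∈ S` with `x⁻¹ * z ∈ T` -/
def cnt (S T : Finset G) (z : G) : ℕ := (S.filter (fun x => x⁻¹ * z ∈ T)).card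

theorem sumEnd_mul (S T : Finset G) :
    sumEnd ρ S * sumEnd ρ T = ∑ z : G, (cnt S T z) • ρ z := by
  unfold sumEnd
  rw [Finset.sum_mul]
  have h1 : ∀ x ∈ S, ρ x * ∑ y ∈ T, ρ y = ∑ z : G, if x⁻¹ * z ∈ T then ρ z else 0 := by
    intro x _
    rw [Finset.mul_sum, ← Finset.sum_filter]
    refine Finset.sum_bij' (fun y _ => x * y) (fun z _ => x⁻¹ * z) ?_ ?_ ?_ ?_ ?_
    · intro y hy
      simp [hy]
    · intro z hz
      simpa using hz
    · intro y _; group
    · intro z _; group
    · intro y _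
      rw [map_mul]
  rw [Finset.sum_congr rfl h1, Finset.sum_comm]
  refine Finset.sum_congr rfl (fun z _ => ?_)
  rw [← Finset.sum_filter, Finset.sum_const]
  rfl

/-- the cells of a function into `Fin m` -/
def cell {m : ℕ} (κ : G → Fin m) (n : Fin m) : Finset G := Finset.univ.filter (fun z => κ z = n)

theorem mem_cell {m : ℕ} (κ : G → Fin m) (n : Fin m) (z : G) : z ∈ cell κ n ↔ κ z = n := by
  simp [cell]

theorem conjInv_cell {m : ℕ} (κ : G → Fin m) (hκ : ∀ g h : G, κ (h * g * h⁻¹) = κ g) (n : Fin m) :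
    ConjInv (cell κ n) := by
  intro g h hg
  rw [mem_cell] at hg ⊢
  rw [hκ, hg]

/-- the relation between the scalars coming from a product of two invariant sums -/
theorem om_mul_om [FiniteDimensional ℂ V] [hρ : ρ.IsIrreducible] {m : ℕ} (κ : G → Fin m)
    (hκ : ∀ g h : G, κ (h * g * h⁻¹) = κ g) (S T : Finset G) (hS : ConjInv S) (hT : ConjInv T)
    (a : Fin m → ℕ) (ha : ∀ z, cnt S T z = a (κ z)) :
    om ρ S * om ρ T = ∑ n, (a n : ℂ) * om ρ (cell κ n) := by
  have hV := Helper78.nontrivial_of_isIrreducible ρ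
  have h1 := sumEnd_mul ρ S T
  have h2 : ∑ z : G, (cnt S T z) • ρ z = ∑ n, (a n) • sumEnd ρ (cell κ n) := by
    rw [← Finset.sum_fiberwise Finset.univ κ]
    refine Finset.sum_congr rfl (fun n _ => ?_)
    unfold sumEnd cell
    rw [Finset.smul_sum]
    refine Finset.sum_congr rfl (fun z hz => ?_)
    rw [Finset.mem_filter] at hz
    rw [ha, hz.2]
  rw [h2, sumEnd_eq_smul ρ S hS, sumEnd_eq_smul ρ T hT] at h1
  have h3 : ∀ n, (a n) • sumEnd ρ (cell κ n) =
      ((a n : ℂ) * om ρ (cell κ n)) • (1 : Module.End ℂ V) := by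
    intro n
    rw [sumEnd_eq_smul ρ _ (conjInv_cell κ hκ n), ← Nat.cast_smul_eq_nsmul ℂ, smul_smul]
  rw [Finset.sum_congr rfl (fun n _ => h3 n), ← Finset.sum_smul, smul_mul_smul_comm, mul_one] at h1
  have hinj := FaithfulSMul.algebraMap_injective ℂ (Module.End ℂ V)
  apply hinj
  rw [Algebra.algebraMap_eq_smul_one, Algebra.algebraMap_eq_smul_one]
  exact h1

end

/-- the linear algebra certificate -/
theorem tau_ne_zero {m : ℕ} (w : Fin m → ℂ) (lam mu : ℂ) (A : Fin m → Fin m → ℤ) (t u : Fin m → ℤ)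
    (hA : ∀ n, lam * w n = ∑ n', (A n n' : ℂ) * w n')
    (hB : mu * (∑ n, (t n : ℂ) * w n) = ∑ n, (u n : ℂ) * w n)
    (K : ℕ) (f : Fin (K + 1) → Fin m → ℤ) (hf0 : f 0 = t)
    (hf : ∀ i : Fin K, ∀ n', f i.succ n' = ∑ n, f i.castSucc n * A n n')
    (D : ℤ) (hD : D ≠ 0) (z : Fin (K + 1) → ℤ) (zu : ℤ) (i0 : Fin m)
    (hcert : ∀ n, (∑ i, z i * f i n) + zu * u n = if n = i0 then D else 0)
    (hw : w i0 ≠ 0) : (∑ n, (t n : ℂ) * w n) ≠ 0 := by
  intro hτ
  have hfi : ∀ i : Fin (K + 1), ∑ n, (f i n : ℂ) * w n = 0 := by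
    intro i
    induction i using Fin.induction with
    | zero => rw [hf0]; exact hτ
    | succ i ih =>
      have : ∑ n', (f i.succ n' : ℂ) * w n' = lam * ∑ n, (f i.castSucc n : ℂ) * w n := by
        rw [Finset.mul_sum]
        have h1 : ∀ n', (f i.succ n' : ℂ) * w n' = ∑ n, (f i.castSucc n : ℂ) * ((A n n' : ℂ) * w n') := by
          intro n'
          rw [hf i n']
          push_cast
          rw [Finset.sum_mul]
          refine Finset.sum_congr rfl (fun n _ => ?_)
          ring
        rw [Finset.sum_congr rfl (fun n' _ => h1 n'), Finset.sum_comm]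
        refine Finset.sum_congr rfl (fun n _ => ?_)
        rw [← Finset.mul_sum, ← hA n]
        ring
      rw [this, ih, mul_zero]
  have hu : ∑ n, (u n : ℂ) * w n = 0 := by rw [← hB, hτ, mul_zero]
  have h2 : (D : ℂ) * w i0 = 0 := by
    have h3 : (D : ℂ) * w i0 = ∑ n, ((if n = i0 then D else 0 : ℤ) : ℂ) * w n := by
      rw [Finset.sum_eq_single i0]
      · simp
      · intro n _ hn
        simp [hn]
      · intro h
        exact absurd (Finset.mem_univ _) h
    rw [h3]
    have h4 : ∀ n, ((if n = i0 then D else 0 : ℤ) : ℂ) * w n =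
        (∑ i, (z i : ℂ) * ((f i n : ℂ) * w n)) + (zu : ℂ) * ((u n : ℂ) * w n) := by
      intro n
      rw [← hcert n]
      push_cast
      rw [add_mul, Finset.sum_mul]
      congr 1
      · refine Finset.sum_congr rfl (fun i _ => ?_)
        ring
      · ring
    rw [Finset.sum_congr rfl (fun n _ => h4 n), Finset.sum_add_distrib, Finset.sum_comm,
      ← Finset.mul_sum, hu, mul_zero, add_zero]
    refine Finset.sum_eq_zero (fun i _ => ?_)
    rw [← Finset.mul_sum, hfi i, mul_zero]
  rcases mul_eq_zero.mp h2 with h | h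
  · exact hD (by exact_mod_cast h)
  · exact hw h

end Cfsg.Agent.Helper27.ClassAlg
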