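import Cfsg.Agent.Helper27.ClassAlg

/-!
The counting function `cnt` is a class function; the abstract criterion for all irreducible characters to
lie in the principal `2`-block, from two eigenvalue relations and a linear algebra certificate.
-/

set_option autoImplicit false

namespace Cfsg.Agent.Helper27.ClassAlg

open Module Cfsg
open scoped ComplexConjugate

section

variable {G : Type*} [Group G] [Fintype G] [DecidableEq G]

theorem cnt_conj (S T : Finset G) (hS : ConjInv S) (hT : ConjInv T) (z h : G) :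
    cnt S T (h * z * h⁻¹) = cnt S T z := by
  unfold cnt
  refine Finset.card_bij' (fun x _ => h⁻¹ * x * h) (fun x _ => h * x * h⁻¹) ?_ ?_ ?_ ?_
  · intro x hx
    rw [Finset.mem_filter] at hx ⊢
    refine ⟨by simpa using hS x h⁻¹ hx.1, ?_⟩
    have h1 := hT _ h⁻¹ hx.2
    have h2 : h⁻¹ * (x⁻¹ * (h * z * h⁻¹)) * h⁻¹⁻¹ = (h⁻¹ * x * h)⁻¹ * z := by group
    rw [h2] at h1
    exact h1
  · intro x hx
    rw [Finset.mem_filter] at hx ⊢
    refine ⟨hS x h hx.1, ?_⟩
    have h1 := hT _ h hx.2
    have h2 : h * (x⁻¹ * z) * h⁻¹ = (h * x * h⁻¹)⁻¹ * (h * z * h⁻¹) := by group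
    rw [h2] at h1
    exact h1
  · intro x _; group
  · intro x _; group

theorem cnt_of_isConj (S T : Finset G) (hS : ConjInv S) (hT : ConjInv T) {z z' : G} (h : IsConj z z') :
    cnt S T z' = cnt S T z := by
  obtain ⟨c, hc⟩ := isConj_iff.mp h
  rw [← hc]
  exact cnt_conj S T hS hT z c

end

section Main

variable {G : Type*} [Group G] [Fintype G] [DecidableEq G]

/-- union of the cells selected by `sel` -/
def selCells {m : ℕ} (κ : G → Fin m) (sel : Fin m → Bool) : Finset G :=
  Finset.univ.filter (fun z => sel (κ z) = true)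

theorem conjInv_selCells {m : ℕ} (κ : G → Fin m) (hκ : ∀ g h : G, κ (h * g * h⁻¹) = κ g)
    (sel : Fin m → Bool) : ConjInv (selCells κ sel) := by
  intro g h hg
  unfold selCells at hg ⊢
  rw [Finset.mem_filter] at hg ⊢
  refine ⟨Finset.mem_univ _, ?_⟩
  rw [hκ]
  exact hg.2

variable {V : Type*} [AddCommGroup V] [Module ℂ V] (ρ : Representation ℂ G V)

theorem om_selCells {m : ℕ} (κ : G → Fin m) (sel : Fin m → Bool) :
    om ρ (selCells κ sel) = ∑ n, (if sel n = true then (1 : ℂ) else 0) * om ρ (cell κ n) := by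
  unfold om
  rw [← Finset.sum_fiberwise_of_maps_to (s := selCells κ sel) (t := Finset.univ) (g := κ)
    (fun _ _ => Finset.mem_univ _), Finset.sum_div]
  refine Finset.sum_congr rfl (fun n _ => ?_)
  by_cases hn : sel n = true
  · rw [if_pos hn, one_mul]
    congr 1
    apply Finset.sum_congr _ (fun _ _ => rfl)
    ext z
    simp only [selCells, cell, Finset.mem_filter, Finset.mem_univ, true_and]
    constructor
    · exact fun h => h.2
    · intro h
      exact ⟨by rw [h]; exact hn, h⟩
  · rw [if_neg hn, zero_mul]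
    have : (selCells κ sel).filter (fun z => κ z = n) = ∅ := by
      ext z
      simp only [selCells, Finset.mem_filter, Finset.mem_univ, true_and, Finset.notMem_empty, iff_false]
      rintro ⟨h1, h2⟩
      rw [h2] at h1
      exact hn h1
    rw [this, Finset.sum_empty, zero_div]

/-- the sum of an irreducible character over the selected cells does not vanish, given two eigenvalue
relations and a certificate -/
theorem sum_sel_ne_zero [FiniteDimensional ℂ V] [hρ : ρ.IsIrreducible] {m : ℕ} (κ : G → Fin m)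
    (hκ : ∀ g h : G, κ (h * g * h⁻¹) = κ g) (i0 : Fin m) (h1 : ∀ z, κ z = i0 ↔ z = 1)
    (sel : Fin m → Bool) (a b : Fin m)
    (A : Fin m → Fin m → ℕ) (hA : ∀ n z, cnt (cell κ a) (cell κ n) z = A n (κ z))
    (u : Fin m → ℕ) (hu : ∀ z, cnt (cell κ b) (selCells κ sel) z = u (κ z))
    (K : ℕ) (f : Fin (K + 1) → Fin m → ℤ) (hf0 : f 0 = fun n => if sel n = true then 1 else 0)
    (hf : ∀ i : Fin K, ∀ n', f i.succ n' = ∑ n, f i.castSucc n * (A n n' : ℤ))
    (D : ℤ) (hD : D ≠ 0) (z : Fin (K + 1) → ℤ) (zu : ℤ)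
    (hcert : ∀ n, (∑ i, z i * f i n) + zu * (u n : ℤ) = if n = i0 then D else 0) :
    ∑ x ∈ selCells κ sel, ρ.character x ≠ 0 := by
  have hV := Helper78.nontrivial_of_isIrreducible ρ
  have hdim : ρ.character 1 ≠ 0 := by
    rw [Representation.char_one]
    exact_mod_cast (Helper78.finrank_pos_of_isIrreducible ρ).ne'
  set w : Fin m → ℂ := fun n => om ρ (cell κ n) with hw
  have hwi0 : w i0 = 1 := by
    have hc : cell κ i0 = {1} := by
      ext z
      rw [mem_cell, Finset.mem_singleton, h1]
    show om ρ (cell κ i0) = 1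
    unfold om
    rw [hc, Finset.sum_singleton, div_self hdim]
  have hAw : ∀ n, om ρ (cell κ a) * w n = ∑ n', ((A n n' : ℤ) : ℂ) * w n' := by
    intro n
    have := om_mul_om ρ κ hκ (cell κ a) (cell κ n) (conjInv_cell κ hκ a) (conjInv_cell κ hκ n)
      (A n) (hA n)
    rw [this]
    refine Finset.sum_congr rfl (fun n' _ => ?_)
    push_cast
    rfl
  have hτ : om ρ (selCells κ sel) = ∑ n, (((fun n => if sel n = true then (1 : ℤ) else 0) n : ℤ) : ℂ) * w n := by
    rw [om_selCells]
    refine Finset.sum_congr rfl (fun n _ => ?_)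
    by_cases hn : sel n = true
    · simp [hn, hw]
    · simp [hn]
  have hBw : om ρ (cell κ b) * (∑ n, (((fun n => if sel n = true then (1 : ℤ) else 0) n : ℤ) : ℂ) * w n) =
      ∑ n, (((fun n => (u n : ℤ)) n : ℤ) : ℂ) * w n := by
    rw [← hτ]
    have := om_mul_om ρ κ hκ (cell κ b) (selCells κ sel) (conjInv_cell κ hκ b)
      (conjInv_selCells κ hκ sel) u hu
    rw [this]
    refine Finset.sum_congr rfl (fun n' _ => ?_)
    push_cast
    rfl
  have key := tau_ne_zero w (om ρ (cell κ a)) (om ρ (cell κ b)) (fun n n' => (A n n' : ℤ))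
    (fun n => if sel n = true then 1 else 0) (fun n => (u n : ℤ)) hAw hBw K f hf0 hf D hD z zu i0 hcert
    (by rw [hwi0]; exact one_ne_zero)
  rw [← hτ] at key
  unfold om at key
  intro h0
  apply key
  rw [h0, zero_div]

end Main

end Cfsg.Agent.Helper27.ClassAlg
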