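import Cfsg.Agent.Helper27.ClassAlg2

/-!
Symmetries of the counting function `cnt`, and a criterion for all irreducible characters to have a nonzero sum
over selected cells, from the structure constants of one cell, some of the structure constants of a second
cell and a linear algebra certificate.
-/

set_option autoImplicit false

namespace Cfsg.Agent.Helper27.ClassAlg

open Module Cfsg

section

variable {G : Type*} [Group G] [Fintype G] [DecidableEq G]

/-- closed under inverses -/
def InvClosed (S : Finset G) : Prop := ∀ x ∈ S, x⁻¹ ∈ S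

theorem cnt_inv (S T : Finset G) (hT : ConjInv T) (hSi : InvClosed S) (hTi : InvClosed T) (z : G) :
    cnt S T z⁻¹ = cnt S T z := by
  unfold cnt
  refine Finset.card_bij' (fun x _ => x⁻¹) (fun x _ => x⁻¹) ?_ ?_ ?_ ?_
  · intro x hx
    rw [Finset.mem_filter] at hx ⊢
    refine ⟨hSi x hx.1, ?_⟩
    have h1 := hTi _ hx.2
    have h2 := hT _ z⁻¹ h1
    have e : z⁻¹ * (x⁻¹ * z⁻¹)⁻¹ * z⁻¹⁻¹ = x⁻¹⁻¹ * z := by group
    rw [e] at h2
    exact h2
  · intro x hx
    rw [Finset.mem_filter] at hx ⊢
    refine ⟨hSi x hx.1, ?_⟩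
    have h1 := hTi _ hx.2
    have h2 := hT _ z h1
    have e : z * (x⁻¹ * z)⁻¹ * z⁻¹ = x⁻¹⁻¹ * z⁻¹ := by group
    rw [e] at h2
    exact h2
  · intro x _
    exact inv_inv x
  · intro x _
    exact inv_inv x

theorem cnt_eq_sum (S T : Finset G) (z : G) :
    cnt S T z = ∑ x ∈ S, if x⁻¹ * z ∈ T then 1 else 0 := by
  unfold cnt
  rw [Finset.card_filter]

/-- double counting -/
theorem cnt_sym (S T U : Finset G) (hSi : InvClosed S) :
    ∑ z ∈ U, cnt S T z = ∑ y ∈ T, cnt S U y := by
  have h1 : ∀ x : G, (U.filter (fun z => x⁻¹ * z ∈ T)).card = (T.filter (fun y => x * y ∈ U)).card := by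
    intro x
    refine Finset.card_bij' (fun z _ => x⁻¹ * z) (fun y _ => x * y) ?_ ?_ ?_ ?_
    · intro z hz
      rw [Finset.mem_filter] at hz ⊢
      refine ⟨hz.2, ?_⟩
      rw [mul_inv_cancel_left]
      exact hz.1
    · intro y hy
      rw [Finset.mem_filter] at hy ⊢
      refine ⟨hy.2, ?_⟩
      rw [inv_mul_cancel_left]
      exact hy.1
    · intro z _
      exact mul_inv_cancel_left x z
    · intro y _
      exact inv_mul_cancel_left x y
  calc ∑ z ∈ U, cnt S T z = ∑ z ∈ U, ∑ x ∈ S, (if x⁻¹ * z ∈ T then 1 else 0) := by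
        refine Finset.sum_congr rfl (fun z _ => cnt_eq_sum S T z)
    _ = ∑ x ∈ S, ∑ z ∈ U, (if x⁻¹ * z ∈ T then 1 else 0) := Finset.sum_comm
    _ = ∑ x ∈ S, (U.filter (fun z => x⁻¹ * z ∈ T)).card := by
        refine Finset.sum_congr rfl (fun x _ => ?_)
        rw [Finset.card_filter]
    _ = ∑ x ∈ S, (T.filter (fun y => x * y ∈ U)).card := by
        refine Finset.sum_congr rfl (fun x _ => h1 x)
    _ = ∑ x ∈ S, (T.filter (fun y => x⁻¹ * y ∈ U)).card := by
        refine Finset.sum_bij' (fun x _ => x⁻¹) (fun x _ => x⁻¹) ?_ ?_ ?_ ?_ ?_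
        · intro x hx
          exact hSi x hx
        · intro x hx
          exact hSi x hx
        · intro x _
          exact inv_inv x
        · intro x _
          exact inv_inv x
        · intro x _
          rw [inv_inv]
    _ = ∑ x ∈ S, ∑ y ∈ T, (if x⁻¹ * y ∈ U then 1 else 0) := by
        refine Finset.sum_congr rfl (fun x _ => ?_)
        rw [Finset.card_filter]
    _ = ∑ y ∈ T, ∑ x ∈ S, (if x⁻¹ * y ∈ U then 1 else 0) := Finset.sum_comm
    _ = ∑ y ∈ T, cnt S U y := by
        refine Finset.sum_congr rfl (fun y _ => (cnt_eq_sum S U y).symm)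

/-- the structure constants of a row from those of a column -/
theorem card_mul_cnt_eq (S T U : Finset G) (hSi : InvClosed S) (c d : ℕ) (hT : ∀ y ∈ T, cnt S U y = c)
    (hU : ∀ z ∈ U, cnt S T z = d) : U.card * d = T.card * c := by
  have h := cnt_sym S T U hSi
  rw [Finset.sum_congr rfl hU, Finset.sum_congr rfl hT, Finset.sum_const, Finset.sum_const, smul_eq_mul,
    smul_eq_mul] at h
  exact h

end

section Main

variable {G : Type*} [Group G] [Fintype G] [DecidableEq G]
variable {V : Type*} [AddCommGroup V] [Module ℂ V] (ρ : Representation ℂ G V)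

/-- the sum of an irreducible character over the selected cells does not vanish, given the structure constants of
the cell `a`, those rows of the structure constants of the cell `b` which are selected by `selB`, and a
certificate: a sequence of vectors starting with the indicator of the selected cells, each of which is the
product of an earlier one with one of the two matrices or a rational linear combination of earlier ones, and which
has the unit vector at `i0` as a linear combination -/
theorem sum_sel_ne_zero_two [FiniteDimensional ℂ V] [hρ : ρ.IsIrreducible] {m : ℕ} (κ : G → Fin m)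
    (hκ : ∀ g h : G, κ (h * g * h⁻¹) = κ g) (i0 : Fin m) (h1 : ∀ z, κ z = i0 ↔ z = 1)
    (sel : Fin m → Bool) (a b : Fin m)
    (A : Fin m → Fin m → ℕ) (hA : ∀ n z, cnt (cell κ a) (cell κ n) z = A n (κ z))
    (selB : Fin m → Bool) (B : Fin m → Fin m → ℕ)
    (hB : ∀ n, selB n = true → ∀ z, cnt (cell κ b) (cell κ n) z = B n (κ z))
    (K : ℕ) (f : Fin (K + 1) → Fin m → ℤ) (hf0 : f 0 = fun n => if sel n = true then 1 else 0)
    (kind : Fin K → Fin 3) (par : Fin K → Fin (K + 1)) (hpar : ∀ i : Fin K, (par i).1 ≤ i.1)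
    (dv : Fin K → ℤ) (cmb : Fin K → Fin (K + 1) → ℤ)
    (hstep : ∀ i : Fin K,
      (kind i = 0 → ∀ n', f i.succ n' = ∑ n, f (par i) n * (A n n' : ℤ)) ∧
      (kind i = 1 → (∀ n, f (par i) n ≠ 0 → selB n = true) ∧
        ∀ n', f i.succ n' = ∑ n, f (par i) n * (B n n' : ℤ)) ∧
      (kind i = 2 → dv i ≠ 0 ∧ (∀ j : Fin (K + 1), i.1 < j.1 → cmb i j = 0) ∧
        ∀ n, dv i * f i.succ n = ∑ j, cmb i j * f j n))
    (D : ℤ) (hD : D ≠ 0) (z : Fin (K + 1) → ℤ)
    (hcert : ∀ n, (∑ i, z i * f i n) = if n = i0 then D else 0) :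
    ∑ x ∈ selCells κ sel, ρ.character x ≠ 0 := by
  have hV := Helper78.nontrivial_of_isIrreducible ρ
  have hdim : ρ.character 1 ≠ 0 := by
    rw [Representation.char_one]
    exact_mod_cast (Helper78.finrank_pos_of_isIrreducible ρ).ne'
  set w : Fin m → ℂ := fun n => om ρ (cell κ n) with hw
  have hwi0 : w i0 = 1 := by
    have hc : cell κ i0 = {1} := by
      ext z
      rw [mem_cell, Finset.mem_singleton, h1]
    show om ρ (cell κ i0) = 1
    unfold om
    rw [hc, Finset.sum_singleton, div_self hdim]
  have hAw : ∀ n, om ρ (cell κ a) * w n = ∑ n', ((A n n' : ℤ) : ℂ) * w n' := by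
    intro n
    have := om_mul_om ρ κ hκ (cell κ a) (cell κ n) (conjInv_cell κ hκ a) (conjInv_cell κ hκ n)
      (A n) (hA n)
    rw [this]
    refine Finset.sum_congr rfl (fun n' _ => ?_)
    push_cast
    rfl
  have hBw : ∀ n, selB n = true → om ρ (cell κ b) * w n = ∑ n', ((B n n' : ℤ) : ℂ) * w n' := by
    intro n hn
    have := om_mul_om ρ κ hκ (cell κ b) (cell κ n) (conjInv_cell κ hκ b) (conjInv_cell κ hκ n)
      (B n) (hB n hn)
    rw [this]
    refine Finset.sum_congr rfl (fun n' _ => ?_)
    push_cast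
    rfl
  have hτ : om ρ (selCells κ sel) = ∑ n, ((f 0 n : ℤ) : ℂ) * w n := by
    rw [om_selCells, hf0]
    refine Finset.sum_congr rfl (fun n _ => ?_)
    by_cases hn : sel n = true
    · simp [hn, hw]
    · simp [hn]
  intro h0
  have hτ0 : ∑ n, ((f 0 n : ℤ) : ℂ) * w n = 0 := by
    rw [← hτ]
    unfold om
    rw [h0, zero_div]
  -- products with a matrix
  have hmul : ∀ (M : Fin m → Fin m → ℕ) (lam : ℂ) (g g' : Fin m → ℤ),
      (∀ n, g n ≠ 0 → lam * w n = ∑ n', ((M n n' : ℤ) : ℂ) * w n') →
      (∀ n', g' n' = ∑ n, g n * (M n n' : ℤ)) → ∑ n, (g n : ℂ) * w n = 0 → ∑ n', (g' n' : ℂ) * w n' = 0 := by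
    intro M lam g g' hM hg' hg
    have h2 : ∑ n', (g' n' : ℂ) * w n' = lam * ∑ n, (g n : ℂ) * w n := by
      rw [Finset.mul_sum]
      have h3 : ∀ n', (g' n' : ℂ) * w n' = ∑ n, (g n : ℂ) * (((M n n' : ℤ) : ℂ) * w n') := by
        intro n'
        rw [hg' n']
        push_cast
        rw [Finset.sum_mul]
        refine Finset.sum_congr rfl (fun n _ => ?_)
        ring
      rw [Finset.sum_congr rfl (fun n' _ => h3 n'), Finset.sum_comm]
      refine Finset.sum_congr rfl (fun n _ => ?_)
      rw [← Finset.mul_sum]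
      by_cases hgn : g n = 0
      · rw [hgn]
        simp
      · rw [← hM n hgn]
        ring
    rw [h2, hg, mul_zero]
  have hgood : ∀ N : ℕ, ∀ j : Fin (K + 1), j.1 ≤ N → ∑ n, (f j n : ℂ) * w n = 0 := by
    intro N
    induction N with
    | zero =>
      intro j hj
      have : j = 0 := Fin.ext (by simpa using hj)
      rw [this]
      exact hτ0
    | succ N ih =>
      intro j hj
      by_cases hjN : j.1 ≤ N
      · exact ih j hjN
      · have hjeq : j.1 = N + 1 := by omega
        have hNK : N < K := by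
          have := j.2
          omega
        set i : Fin K := ⟨N, hNK⟩ with hi
        have hji : j = i.succ := Fin.ext (by simp [hi, hjeq])
        rw [hji]
        obtain ⟨s0, s1, s2⟩ := hstep i
        have hp : ∑ n, (f (par i) n : ℂ) * w n = 0 := ih (par i) (hpar i)
        have hk : kind i = 0 ∨ kind i = 1 ∨ kind i = 2 := by
          generalize kind i = k
          fin_cases k <;> simp
        rcases hk with hk | hk | hk
        · exact hmul A (om ρ (cell κ a)) (f (par i)) (f i.succ) (fun n _ => hAw n) (s0 hk) hp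
        · obtain ⟨hsupp, hprod⟩ := s1 hk
          exact hmul B (om ρ (cell κ b)) (f (par i)) (f i.succ) (fun n hn => hBw n (hsupp n hn)) hprod hp
        · obtain ⟨hd, hz, hc⟩ := s2 hk
          have h5 : ((dv i : ℤ) : ℂ) * ∑ n, (f i.succ n : ℂ) * w n = 0 := by
            rw [Finset.mul_sum]
            have h6 : ∀ n, ((dv i : ℤ) : ℂ) * ((f i.succ n : ℂ) * w n) =
                ∑ j, (cmb i j : ℂ) * ((f j n : ℂ) * w n) := by
              intro n
              rw [← mul_assoc]
              have := congrArg (fun x : ℤ => (x : ℂ)) (hc n)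
              push_cast at this
              rw [this, Finset.sum_mul]
              refine Finset.sum_congr rfl (fun j _ => ?_)
              ring
            rw [Finset.sum_congr rfl (fun n _ => h6 n), Finset.sum_comm]
            refine Finset.sum_eq_zero (fun j _ => ?_)
            rw [← Finset.mul_sum]
            by_cases hjN' : j.1 ≤ N
            · rw [ih j hjN', mul_zero]
            · rw [hz j (by simp [hi]; omega)]
              simp
          rcases mul_eq_zero.mp h5 with h7 | h7
          · exact absurd (by exact_mod_cast h7) hd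
          · exact h7
  have h2 : (D : ℂ) * w i0 = 0 := by
    have h3 : (D : ℂ) * w i0 = ∑ n, ((if n = i0 then D else 0 : ℤ) : ℂ) * w n := by
      rw [Finset.sum_eq_single i0]
      · simp
      · intro n _ hn
        simp [hn]
      · intro h
        exact absurd (Finset.mem_univ _) h
    rw [h3]
    have h4 : ∀ n, ((if n = i0 then D else 0 : ℤ) : ℂ) * w n = ∑ i, (z i : ℂ) * ((f i n : ℂ) * w n) := by
      intro n
      rw [← hcert n]
      push_cast
      rw [Finset.sum_mul]
      refine Finset.sum_congr rfl (fun i _ => ?_)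
      ring
    rw [Finset.sum_congr rfl (fun n _ => h4 n), Finset.sum_comm]
    refine Finset.sum_eq_zero (fun i _ => ?_)
    rw [← Finset.mul_sum, hgood K i (by have := i.2; omega), mul_zero]
  rcases mul_eq_zero.mp h2 with h | h
  · exact hD (by exact_mod_cast h)
  · rw [hwi0] at h
    exact one_ne_zero h

end Main

end Cfsg.Agent.Helper27.ClassAlg
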