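import Cfsg.Agent.Helper27.ReeScott

/-!
The number of cycles of a permutation of prime order (Burnside's lemma for the cyclic group it generates).
-/

set_option autoImplicit false

namespace Cfsg.Agent.Helper27.ReeScott

open Equiv Equiv.Perm

variable {α : Type*} [Fintype α] [DecidableEq α]

theorem card_fixedBy_perm (σ : Perm α) :
    Nat.card (MulAction.fixedBy α σ) = Fintype.card α - σ.support.card := by
  have h := Equiv.Perm.card_fixedPoints σ
  rw [Equiv.Perm.sum_cycleType] at h
  rw [← h, ← Nat.card_eq_fintype_card]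
  exact Nat.card_congr (Equiv.setCongr (by ext x; rfl))

theorem fixedBy_eq_of_prime (σ : Perm α) (p : ℕ) (hp : p.Prime) (hσ : orderOf σ = p)
    (g : Perm α) (hg : g ∈ Subgroup.zpowers σ) (hg1 : g ≠ 1) :
    MulAction.fixedBy α g = MulAction.fixedBy α σ := by
  rw [Subgroup.mem_zpowers_iff] at hg
  obtain ⟨k, rfl⟩ := hg
  have hord : orderOf (σ ^ k) = p := by
    have hdvd : orderOf (σ ^ k) ∣ p := by
      apply orderOf_dvd_of_pow_eq_one
      rw [← zpow_natCast, ← zpow_mul, mul_comm, zpow_mul, zpow_natCast, ← hσ, pow_orderOf_eq_one,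
        one_zpow]
    rcases (Nat.dvd_prime hp).mp hdvd with h | h
    · exact absurd (orderOf_eq_one_iff.mp h) hg1
    · exact h
  have hle : Subgroup.zpowers (σ ^ k) ≤ Subgroup.zpowers σ :=
    Subgroup.zpowers_le.mpr (Subgroup.zpow_mem_zpowers σ k)
  have heq : Subgroup.zpowers (σ ^ k) = Subgroup.zpowers σ := by
    apply Subgroup.eq_of_le_of_card_ge hle
    rw [Nat.card_zpowers, Nat.card_zpowers, hord, hσ]
  have hmem : σ ∈ Subgroup.zpowers (σ ^ k) := heq ▸ Subgroup.mem_zpowers σ
  rw [Subgroup.mem_zpowers_iff] at hmem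
  obtain ⟨j, hj⟩ := hmem
  apply Set.Subset.antisymm
  · have := MulAction.fixedBy_subset_fixedBy_zpow α (σ ^ k) j
    rw [hj] at this
    exact this
  · exact MulAction.fixedBy_subset_fixedBy_zpow α σ k

/-- cycles of a permutation of prime order -/
theorem prime_cyc (σ : Perm α) (p : ℕ) (hp : p.Prime) (hσ : orderOf σ = p) :
    p * cyc σ + (p - 1) * σ.support.card = p * Fintype.card α := by
  classical
  let H := Subgroup.zpowers σ
  letI : Fintype H := Fintype.ofFinite _
  letI : Fintype (Quotient (MulAction.orbitRel H α)) := Fintype.ofFinite _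
  letI : ∀ g : H, Fintype (MulAction.fixedBy α g) := fun g => Fintype.ofFinite _
  have hB := MulAction.sum_card_fixedBy_eq_card_orbits_mul_card_group H α
  have hcardH : Fintype.card H = p := by rw [← Nat.card_eq_fintype_card, Nat.card_zpowers, hσ]
  have hterm : ∀ g : H, Fintype.card (MulAction.fixedBy α g) =
      if g = 1 then Fintype.card α else Fintype.card α - σ.support.card := by
    intro g
    rw [← Nat.card_eq_fintype_card]
    have e : MulAction.fixedBy α g = MulAction.fixedBy α (g.1 : Perm α) := by
      ext x; rfl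
    split_ifs with h
    · subst h
      rw [e]
      have : ((1 : H) : Perm α) = 1 := rfl
      rw [this, card_fixedBy_perm, support_one, Finset.card_empty, Nat.sub_zero]
    · rw [e, fixedBy_eq_of_prime σ p hp hσ g.1 g.2 (fun h1 => h (Subtype.ext h1)),
        card_fixedBy_perm]
  rw [Finset.sum_congr rfl (fun g _ => hterm g), Finset.sum_ite, Finset.sum_const, Finset.sum_const,
    Finset.filter_eq' , if_pos (Finset.mem_univ _), Finset.card_singleton, Finset.filter_ne',
    Finset.card_erase_of_mem (Finset.mem_univ _), Finset.card_univ, hcardH] at hB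
  simp only [smul_eq_mul, one_mul] at hB
  have hs : σ.support.card ≤ Fintype.card α := Finset.card_le_univ _
  have hc : cyc σ = Fintype.card (Quotient (MulAction.orbitRel H α)) := by
    rw [← Nat.card_eq_fintype_card]
    rfl
  rw [hc]
  have hp1 : 1 ≤ p := hp.one_lt.le
  obtain ⟨m, rfl⟩ : ∃ m, p = m + 1 := ⟨p - 1, by omega⟩
  simp only [Nat.add_sub_cancel] at hB ⊢
  have h2 : m * (Fintype.card α - σ.support.card) + m * σ.support.card = m * Fintype.card α := by
    rw [← Nat.mul_add, Nat.sub_add_cancel hs]
  nlinarith [hB, h2]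

end Cfsg.Agent.Helper27.ReeScott
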