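import Cfsg.Agent.Helper27.FusCodeMain
import Cfsg.Agent.Helper27.ReeScottPrime

/-!
Generic tools for coded permutations of the 24 points: number of moved points, enumeration of a subgroup
given by generator codes, orders of elements, and conjugation into a Sylow subgroup.
-/

set_option autoImplicit false

namespace Cfsg.Agent.Helper27.CodeEnum

open Cfsg Cfsg.Agent.Helper7 Cfsg.Agent.Helper27.FusTab Cfsg.Agent.Helper27.FusCode

/-- number of points moved by the permutation coded by `c` -/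
def suppcnt (c : ℕ) : ℕ := (r24.filter (fun i => !(Nat.beq (nthN c i) i))).length

theorem card_filter_range (P : ℕ → Bool) (n : ℕ) :
    ((Finset.range n).filter (fun i => P i = true)).card = ((List.range n).filter P).length := by
  rw [← List.toFinset_range, ← List.toFinset_filter,
    List.toFinset_card_of_nodup (List.Nodup.filter _ List.nodup_range)]

theorem r24_eq : r24 = List.range 24 := by decide

theorem support_card_of_isCode {c : ℕ} {σ : Equiv.Perm GolayPt} (h : IsCode c σ) :
    σ.support.card = suppcnt c := by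
  rw [isCode_iff] at h
  unfold suppcnt
  rw [r24_eq, ← card_filter_range]
  apply Finset.card_bij (fun a _ => idx a)
  · intro a ha
    rw [Equiv.Perm.mem_support] at ha
    rw [Finset.mem_filter, Finset.mem_range]
    refine ⟨idx_lt a, ?_⟩
    rw [Bool.not_eq_true', ← h]
    cases hb : Nat.beq (idx (σ a)) (idx a)
    · rfl
    · exact absurd (idx_injective (Nat.eq_of_beq_eq_true hb)) ha
  · intro a _ b _ hab
    exact idx_injective hab
  · intro i hi
    rw [Finset.mem_filter, Finset.mem_range] at hi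
    refine ⟨pt i, ?_, idx_pt hi.1⟩
    rw [Equiv.Perm.mem_support]
    intro hfix
    have h1 := h (pt i)
    rw [hfix, idx_pt hi.1] at h1
    have h2 := hi.2
    rw [← h1] at h2
    simp at h2

/-- the set of permutations coded by a list of codes -/
def codedSet (gensC : List ℕ) : Set (Equiv.Perm GolayPt) := {g | ∃ s ∈ gensC, IsCode s g}

/-- enumeration of the subgroup generated by coded permutations -/
theorem enum_closure (H : Subgroup (Equiv.Perm GolayPt)) (gensC L : List ℕ)
    (hgens : ∀ s ∈ gensC, ∃ g ∈ H, IsCode s g)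
    (hinv : ∀ s ∈ gensC, ∃ s' ∈ gensC, dec (compU s s') = idT)
    (hid : idC ∈ L) (hclosed : ∀ l ∈ L, ∀ s ∈ gensC, compU l s ∈ L) :
    ∀ x ∈ Subgroup.closure (codedSet gensC), ∃ l ∈ L, IsCode l x := by
  intro x hx
  induction hx using Subgroup.closure_induction_right with
  | one => exact ⟨idC, hid, isCode_one⟩
  | mul_right x _ y hy ih =>
    obtain ⟨l, hl, hlx⟩ := ih
    obtain ⟨s, hs, hsy⟩ := hy
    exact ⟨compU l s, hclosed l hl s hs, isCode_mul hlx hsy⟩
  | mul_inv_cancel x _ y hy ih =>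
    obtain ⟨l, hl, hlx⟩ := ih
    obtain ⟨s, hs, hsy⟩ := hy
    obtain ⟨s', hs', hss'⟩ := hinv s hs
    obtain ⟨g', _, hg'⟩ := hgens s' hs'
    have h1 : y * g' = 1 := eq_one_of_dec_eq (isCode_mul hsy hg') hss'
    have h2 : y⁻¹ = g' := inv_eq_of_mul_eq_one_right h1
    rw [h2]
    exact ⟨compU l s', hclosed l hl s' hs', isCode_mul hlx hg'⟩

theorem closure_codedSet_le (H : Subgroup (Equiv.Perm GolayPt)) (gensC : List ℕ)
    (hgens : ∀ s ∈ gensC, ∃ g ∈ H, IsCode s g) : Subgroup.closure (codedSet gensC) ≤ H := by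
  rw [Subgroup.closure_le]
  rintro x ⟨s, hs, hx⟩
  obtain ⟨g, hg, hgs⟩ := hgens s hs
  rw [isCode_inj hx hgs]
  exact hg

/-- the order of the subgroup generated by coded permutations -/
theorem card_closure (H : Subgroup (Equiv.Perm GolayPt)) (gensC L : List ℕ) (prog : List (ℕ × ℕ))
    (hgens : ∀ s ∈ gensC, ∃ g ∈ H, IsCode s g)
    (hinv : ∀ s ∈ gensC, ∃ s' ∈ gensC, dec (compU s s') = idT)
    (hL : build gensC prog [idC] = L)
    (hclosed : ∀ l ∈ L, ∀ s ∈ gensC, compU l s ∈ L)
    (hnodup : nodupB L = true) :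
    Nat.card (Subgroup.closure (codedSet gensC)) = L.length := by
  classical
  set S0 := Subgroup.closure (codedSet gensC) with hS0
  have hidL : idC ∈ L := by
    rw [← hL]
    exact subset_build gensC prog [idC] idC (List.mem_singleton_self _)
  have hS0L := enum_closure H gensC L hgens hinv hidL hclosed
  have hLnorm : ∀ l ∈ L, encL (dec l) = l := by
    rw [← hL]
    apply build_ind (fun c => encL (dec c) = c) gensC norm_idC (fun a b _ _ => norm_compU a b)
    intro x hx
    rw [List.mem_singleton] at hx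
    rw [hx]
    exact norm_idC
  have hLtab : ∀ l ∈ L, ∃ g ∈ S0, IsCode l g := by
    rw [← hL]
    apply build_ind (fun c => ∃ g ∈ S0, IsCode c g) gensC ⟨1, S0.one_mem, isCode_one⟩
    · rintro a b ⟨g, hg, hga⟩ hb
      rcases hb with hb | rfl
      · obtain ⟨y, _, hy⟩ := hgens b hb
        exact ⟨g * y, S0.mul_mem hg (Subgroup.subset_closure ⟨b, hb, hy⟩), isCode_mul hga hy⟩
      · exact ⟨g * 1, S0.mul_mem hg S0.one_mem, isCode_mul hga isCode_one⟩
    · intro x hx
      rw [List.mem_singleton] at hx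
      rw [hx]
      exact ⟨1, S0.one_mem, isCode_one⟩
  have hLnd : L.Nodup := nodup_of_nodupB L hnodup
  rw [← card_subtype_mem L hLnd]
  have hex : ∀ x : S0, ∃ l, l ∈ L ∧ IsCode l x.1 := fun x => hS0L x.1 x.2
  choose f hf using hex
  apply Nat.card_congr
  refine Equiv.ofBijective (fun x => ⟨f x, (hf x).1⟩) ⟨?_, ?_⟩
  · intro x y hxy
    have h1 : f x = f y := congrArg Subtype.val hxy
    apply Subtype.ext
    have h2 := (hf x).2
    rw [h1] at h2
    exact isCode_inj h2 (hf y).2
  · rintro ⟨l, hl⟩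
    obtain ⟨g, hg, hgt⟩ := hLtab l hl
    refine ⟨⟨g, hg⟩, ?_⟩
    apply Subtype.ext
    exact isCode_unique (hf ⟨g, hg⟩).2 hgt (hLnorm _ (hf ⟨g, hg⟩).1) (hLnorm l hl)

/-- powers of codes -/
def powC (c : ℕ) : ℕ → ℕ
  | 0 => idC
  | n + 1 => compU (powC c n) c

theorem isCode_powC {c : ℕ} {σ : Equiv.Perm GolayPt} (h : IsCode c σ) : ∀ n, IsCode (powC c n) (σ ^ n)
  | 0 => by rw [pow_zero]; exact isCode_one
  | n + 1 => by
    rw [pow_succ]
    exact isCode_mul (isCode_powC h n) h

theorem eq_one_of_code_eq_idC {c : ℕ} {σ : Equiv.Perm GolayPt} (h : IsCode c σ) (hc : c = idC) : σ = 1 := by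
  rw [hc] at h
  exact isCode_inj h isCode_one

theorem ne_one_of_compU_ne {c : ℕ} {σ : Equiv.Perm GolayPt} (h : IsCode c σ)
    (hc : compU c idC ≠ idC) : σ ≠ 1 := by
  intro h1
  apply hc
  have h2 := isCode_mul h isCode_one
  rw [h1, mul_one] at h2
  exact isCode_unique h2 isCode_one (norm_compU _ _) norm_idC

/-- the order of a coded permutation -/
theorem orderOf_of_code {c : ℕ} {σ : Equiv.Perm GolayPt} (h : IsCode c σ) (p : ℕ) (hp : p.Prime)
    (h1 : powC c p = idC) (h2 : compU c idC ≠ idC) : orderOf σ = p := by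
  have : Fact p.Prime := ⟨hp⟩
  exact orderOf_eq_prime (eq_one_of_code_eq_idC (isCode_powC h p) h1) (ne_one_of_compU_ne h h2)

/-- conjugation of `p`-elements into a subgroup containing a Sylow `p`-subgroup -/
theorem exists_conj_mem_of_card {Γ : Type*} [Group Γ] (H : Subgroup Γ) [Finite H] (p : ℕ)
    [Fact p.Prime] (B : Subgroup Γ) (hB : B ≤ H) (k : ℕ) (hcard : Nat.card B = p ^ k)
    (hk : ¬ p ^ (k + 1) ∣ Nat.card H) (x : Γ) (hx : x ∈ H) (n : ℕ) (hxp : x ^ (p ^ n) = 1) :
    ∃ g ∈ H, g * x * g⁻¹ ∈ B := by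
  have hpp : p.Prime := Fact.out
  have hBH : Nat.card (B.subgroupOf H) = p ^ k := by
    rw [Nat.card_congr (Subgroup.subgroupOfEquivOfLe hB).toEquiv, hcard]
  have hdvd : p ^ k ∣ Nat.card H := hBH ▸ Subgroup.card_subgroup_dvd_card (B.subgroupOf H)
  have hpos : Nat.card H ≠ 0 := Nat.card_pos.ne'
  have hfac : (Nat.card H).factorization p = k := by
    apply le_antisymm
    · by_contra hlt
      rw [not_le] at hlt
      exact hk ((pow_dvd_pow p hlt).trans (Nat.ordProj_dvd _ _))
    · exact (hpp.pow_dvd_iff_le_factorization hpos).mp hdvd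
  let S : Sylow p H := Sylow.ofCard (B.subgroupOf H) (by rw [hBH, hfac])
  let y : H := ⟨x, hx⟩
  have hy : IsPGroup p (Subgroup.zpowers y) := by
    apply IsPGroup.of_card (n := (Nat.card (Subgroup.zpowers y)).factorization p)
    have h1 : Nat.card (Subgroup.zpowers y) ∣ p ^ n := by
      rw [Nat.card_zpowers]
      apply orderOf_dvd_of_pow_eq_one
      apply Subtype.ext
      exact hxp
    obtain ⟨m, _, hm⟩ := (Nat.dvd_prime_pow hpp).mp h1
    rw [hm, hpp.factorization_pow]
    simp
  obtain ⟨Q, hQ⟩ := hy.exists_le_sylow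
  obtain ⟨g, hg⟩ := MulAction.exists_smul_eq H Q S
  refine ⟨g.1, g.2, ?_⟩
  have h1 : y ∈ Q := hQ (Subgroup.mem_zpowers y)
  have h2 : g * y * g⁻¹ ∈ ((g • Q : Sylow p H) : Subgroup H) := by
    rw [Sylow.smul_def, Sylow.pointwise_smul_def]
    exact Subgroup.smul_mem_pointwise_smul y (MulAut.conj g) Q h1
  rw [hg] at h2
  exact h2

end Cfsg.Agent.Helper27.CodeEnum
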