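import Cfsg.Agent.Helper27.F4Gens
import Cfsg.Agent.S1090

/-! Enumeration of the Sylow 2-subgroup `U¹` of `²F₄(2)` (generated). -/

set_option autoImplicit false
set_option Elab.async false

namespace Cfsg.Agent.Helper27.BitMat

open Cfsg Cfsg.Lie Cfsg.Agent.Helper18

/-- positions of 12 matrix entries that separate the elements of `U¹` -/
def keyPos : List ℕ := [18, 76, 75, 17, 74, 16, 14, 15, 13, 12, 11, 4]

/-- generators of `U¹` along a chief series -/
def uGens : List ℕ := [cU1, cU2, cU3, cU4, cU5, cU6, cU7, cU8, cU9, cU10, cU11, cU12]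

/-- the codes of the 4096 elements of `U¹` -/
def Llist : List ℕ := enumU uGens

set_option maxRecDepth 1000000 in
theorem cover_L : coverAcc keyPos Llist 0 = 2 ^ 2 ^ 12 - 1 := by decide +kernel

theorem card_U1 : Nat.card ↥(UF4 ⊓ G2F4) = 2 ^ 12 :=
  Cfsg.Agent.S1090.result (K := ZMod 2) (m := 0) (by rw [ZMod.card]; norm_num)

theorem codedIn_uGens : ∀ g ∈ uGens, CodedIn (UF4 ⊓ G2F4) g := by
  intro g hg
  simp only [uGens, List.mem_cons, List.not_mem_nil, or_false] at hg
  rcases hg with rfl | rfl | rfl | rfl | rfl | rfl | rfl | rfl | rfl | rfl | rfl | rfl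
  · exact codedIn_U1
  · exact codedIn_U2
  · exact codedIn_U3
  · exact codedIn_U4
  · exact codedIn_U5
  · exact codedIn_U6
  · exact codedIn_U7
  · exact codedIn_U8
  · exact codedIn_U9
  · exact codedIn_U10
  · exact codedIn_U11
  · exact codedIn_U12

/-- every element of `U¹` has its code in the list -/
theorem all_coded_U1 : ∀ u ∈ UF4 ⊓ G2F4, ∃ c ∈ Llist, IsCodeG c u :=
  all_coded_of_cover (UF4 ⊓ G2F4) keyPos Llist 12
    (by intro p hp; simp only [keyPos, List.mem_cons, List.not_mem_nil, or_false] at hp; omega)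
    (codedIn_enumU _ _ codedIn_uGens) card_U1 cover_L

end Cfsg.Agent.Helper27.BitMat
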