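import Cfsg.Agent.Helper27.F4Cert
import Cfsg.Agent.S1068

/-!
# The involutions of `²F₄(2)` lie in its derived subgroup

Every involution is conjugate (Sylow) into `U¹ = U ∩ ²F₄(2)`, whose 4096 elements are listed with
their packed codes; each of the 143 involutions of `U¹` is conjugate by an explicit word in the
generators to one of two commutators.
-/

set_option autoImplicit false

namespace Cfsg.Agent.Helper27.BitMat

open Cfsg Cfsg.Lie Cfsg.Agent.Helper18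

/-- conjugation of `p`-elements into a subgroup of Sylow order -/
theorem sylow_conj_mem {Γ : Type*} [Group Γ] (H : Subgroup Γ) [Finite H] (p : ℕ)
    [Fact p.Prime] (B : Subgroup Γ) (hB : B ≤ H) (k : ℕ) (hcard : Nat.card B = p ^ k)
    (hk : ¬ p ^ (k + 1) ∣ Nat.card H) (x : Γ) (hx : x ∈ H) (n : ℕ) (hxp : x ^ (p ^ n) = 1) :
    ∃ g ∈ H, g * x * g⁻¹ ∈ B := by
  have hpp : p.Prime := Fact.out
  have hBH : Nat.card (B.subgroupOf H) = p ^ k := by
    rw [Nat.card_congr (Subgroup.subgroupOfEquivOfLe hB).toEquiv, hcard]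
  have hdvd : p ^ k ∣ Nat.card H := hBH ▸ Subgroup.card_subgroup_dvd_card (B.subgroupOf H)
  have hpos : Nat.card H ≠ 0 := Nat.card_pos.ne'
  have hfac : (Nat.card H).factorization p = k := by
    apply le_antisymm
    · by_contra hlt
      rw [not_le] at hlt
      exact hk ((pow_dvd_pow p hlt).trans (Nat.ordProj_dvd _ _))
    · exact (hpp.pow_dvd_iff_le_factorization hpos).mp hdvd
  let S : Sylow p H := Sylow.ofCard (B.subgroupOf H) (by rw [hBH, hfac])
  let y : H := ⟨x, hx⟩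
  have hy : IsPGroup p (Subgroup.zpowers y) := by
    apply IsPGroup.of_card (n := (Nat.card (Subgroup.zpowers y)).factorization p)
    have h1 : Nat.card (Subgroup.zpowers y) ∣ p ^ n := by
      rw [Nat.card_zpowers]
      apply orderOf_dvd_of_pow_eq_one
      apply Subtype.ext
      exact hxp
    obtain ⟨m, _, hm⟩ := (Nat.dvd_prime_pow hpp).mp h1
    rw [hm, hpp.factorization_pow]
    simp
  obtain ⟨Q, hQ⟩ := hy.exists_le_sylow
  obtain ⟨g, hg⟩ := MulAction.exists_smul_eq H Q S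
  refine ⟨g.1, g.2, ?_⟩
  have h1 : y ∈ Q := hQ (Subgroup.mem_zpowers y)
  have h2 : g * y * g⁻¹ ∈ ((g • Q : Sylow p H) : Subgroup H) := by
    rw [Sylow.smul_def, Sylow.pointwise_smul_def]
    exact Subgroup.smul_mem_pointwise_smul y (MulAut.conj g) Q h1
  rw [hg] at h2
  exact h2

theorem card_G2F4 : Nat.card ↥G2F4 = 35942400 := by
  have h := Cfsg.Agent.S1068.result (K := ZMod 2) (m := 0) (by rw [ZMod.card]; norm_num)
  rw [show Nat.card ↥G2F4 = Nat.card ↥(twistedF4 (ZMod 2) (2 ^ 0)) from rfl, h]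
  norm_num

/-- an involution of `U¹` is conjugate in `²F₄(2)` to a commutator -/
theorem invol_U1 (u : GL52) (hu : u ∈ UF4 ⊓ G2F4) (h2 : u * u = 1) (h1 : u ≠ 1) :
    ∃ w ∈ G2F4, ∃ x ∈ G2F4, ∃ y ∈ G2F4, u = w * (x * y * x⁻¹ * y⁻¹) * w⁻¹ := by
  obtain ⟨c, hc, hcu⟩ := all_coded_U1 u hu
  obtain ⟨z, hz⟩ := chk2_sound cG cR Llist certs chk_certs c hc
  obtain ⟨k, w, hw, hconj⟩ := okEntry_sound G2F4 cG cR codedIn_cG c z hz u hcu h2 h1
  obtain ⟨x, hx, y, hy, hxy⟩ := comm_cR k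
  exact ⟨w, hw, x, hx, y, hy, hconj _ hxy⟩

/-- every involution of `²F₄(2)` is conjugate to a commutator -/
theorem invol_G (g : GL52) (hg : g ∈ G2F4) (h2 : g * g = 1) (h1 : g ≠ 1) :
    ∃ w ∈ G2F4, ∃ x ∈ G2F4, ∃ y ∈ G2F4, g = w * (x * y * x⁻¹ * y⁻¹) * w⁻¹ := by
  haveI : Fact (Nat.Prime 2) := ⟨Nat.prime_two⟩
  obtain ⟨h, hh, hu⟩ := sylow_conj_mem G2F4 2 (UF4 ⊓ G2F4) inf_le_right 12 card_U1
    (by rw [card_G2F4]; norm_num) g hg 1 (by rw [pow_one, pow_two]; exact h2)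
  have hu2 : (h * g * h⁻¹) * (h * g * h⁻¹) = 1 := by
    calc (h * g * h⁻¹) * (h * g * h⁻¹) = h * (g * g) * h⁻¹ := by group
      _ = 1 := by rw [h2]; group
  have hu1 : h * g * h⁻¹ ≠ 1 := by
    intro e
    apply h1
    have : g = h⁻¹ * (h * g * h⁻¹) * h := by group
    rw [this, e]
    group
  obtain ⟨w, hw, x, hx, y, hy, e⟩ := invol_U1 _ hu hu2 hu1
  refine ⟨h⁻¹ * w, G2F4.mul_mem (G2F4.inv_mem hh) hw, x, hx, y, hy, ?_⟩
  have : g = h⁻¹ * (h * g * h⁻¹) * h := by group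
  rw [this, e]
  group

end Cfsg.Agent.Helper27.BitMat
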