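import Cfsg.Agent.Helper27.FusTab

/-!
Fast kernel arithmetic for permutations of the 24 points coded as natural numbers (base `32`), and the
code-level certificate for the simplicity of the `2`-fusion system of `fixG M24 F`.
-/

set_option autoImplicit false

namespace Cfsg.Agent.Helper27.FusCode

open Cfsg Cfsg.Agent.Helper7 Cfsg.Agent.Helper27.FusTab

/-- the `i`-th digit in base `32` -/
def nthN (c i : ℕ) : ℕ := Nat.mod (Nat.div c (Nat.pow 32 i)) 32

def r24 : List ℕ := [0, 1, 2, 3, 4, 5, 6, 7, 8, 9, 10, 11, 12, 13, 14, 15, 16, 17, 18, 19, 20, 21, 22, 23]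

/-- the table coded by `c` -/
def dec (c : ℕ) : List ℕ := r24.map (nthN c)

/-- the number with given digits -/
def encL (l : List ℕ) : ℕ := l.foldr (fun x acc => Nat.add (Nat.mul acc 32) x) 0

/-- composition of codes, specification -/
def compF (a b : ℕ) : ℕ := encL (r24.map (fun i => nthN a (nthN b i)))

/-- composition of codes, unrolled for the kernel -/
def compU (a b : ℕ) : ℕ :=
  Nat.add (Nat.mul (Nat.add (Nat.mul (Nat.add (Nat.mul (Nat.add (Nat.mul (Nat.add (Nat.mul (Nat.add
    (Nat.mul (Nat.add (Nat.mul (Nat.add (Nat.mul (Nat.add (Nat.mul (Nat.add (Nat.mul (Nat.add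
    (Nat.mul (Nat.add (Nat.mul (Nat.add (Nat.mul (Nat.add (Nat.mul (Nat.add (Nat.mul (Nat.add
    (Nat.mul (Nat.add (Nat.mul (Nat.add (Nat.mul (Nat.add (Nat.mul (Nat.add (Nat.mul (Nat.add
    (Nat.mul (Nat.add (Nat.mul (Nat.add (Nat.mul (Nat.add (Nat.mul (0) 32) (nthN a (nthN b 23))) 32)
    (nthN a (nthN b 22))) 32) (nthN a (nthN b 21))) 32) (nthN a (nthN b 20))) 32) (nthN a (nthN b
    19))) 32) (nthN a (nthN b 18))) 32) (nthN a (nthN b 17))) 32) (nthN a (nthN b 16))) 32) (nthN a
    (nthN b 15))) 32) (nthN a (nthN b 14))) 32) (nthN a (nthN b 13))) 32) (nthN a (nthN b 12))) 32)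
    (nthN a (nthN b 11))) 32) (nthN a (nthN b 10))) 32) (nthN a (nthN b 9))) 32) (nthN a (nthN b
    8))) 32) (nthN a (nthN b 7))) 32) (nthN a (nthN b 6))) 32) (nthN a (nthN b 5))) 32) (nthN a
    (nthN b 4))) 32) (nthN a (nthN b 3))) 32) (nthN a (nthN b 2))) 32) (nthN a (nthN b 1))) 32)
    (nthN a (nthN b 0))

theorem compU_eq (a b : ℕ) : compU a b = compF a b := rfl

theorem nthN_def (c i : ℕ) : nthN c i = c / 32 ^ i % 32 := rfl

theorem encL_cons (x : ℕ) (t : List ℕ) : encL (x :: t) = encL t * 32 + x := rfl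

theorem nthN_encL : ∀ (l : List ℕ), (∀ x ∈ l, x < 32) → ∀ j, j < l.length → nthN (encL l) j = l.getD j 0
  | [], _, j, hj => by simp at hj
  | x :: t, hl, 0, _ => by
    have hx : x < 32 := hl x (List.mem_cons_self ..)
    rw [encL_cons, nthN_def]
    simp only [pow_zero, Nat.div_one, List.getD_cons_zero]
    omega
  | x :: t, hl, j + 1, hj => by
    have hx : x < 32 := hl x (List.mem_cons_self ..)
    have ih := nthN_encL t (fun y hy => hl y (List.mem_cons_of_mem _ hy)) j (by simpa using hj)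
    rw [encL_cons, nthN_def, List.getD_cons_succ, ← ih, nthN_def, pow_succ', ← Nat.div_div_eq_div_mul]
    have : (encL t * 32 + x) / 32 = encL t := by omega
    rw [this]

theorem mem_r24 {i : ℕ} : i ∈ r24 ↔ i < 24 := by
  constructor
  · intro h
    simp only [r24, List.mem_cons, List.not_mem_nil, or_false] at h
    omega
  · intro h
    interval_cases i <;> decide

theorem map_r24_getD (f : ℕ → ℕ) (j : ℕ) (hj : j < 24) : (r24.map f).getD j 0 = f j := by
  interval_cases j <;> rfl

theorem nthN_lt (c i : ℕ) : nthN c i < 32 := by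
  rw [nthN_def]
  exact Nat.mod_lt _ (by norm_num)

theorem nthN_compU (a b j : ℕ) (hj : j < 24) : nthN (compU a b) j = nthN a (nthN b j) := by
  rw [compU_eq, compF, nthN_encL _ _ j (by simpa [r24] using hj), map_r24_getD _ _ hj]
  intro x hx
  rw [List.mem_map] at hx
  obtain ⟨i, _, rfl⟩ := hx
  exact nthN_lt _ _

theorem dec_getD (c i : ℕ) (hi : i < 24) : (dec c).getD i 0 = nthN c i := map_r24_getD _ _ hi

theorem dec_length (c : ℕ) : (dec c).length = 24 := by simp [dec, r24]

theorem dec_compU (a b : ℕ) : dec (compU a b) = r24.map (fun i => nthN a (nthN b i)) := by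
  unfold dec
  apply List.map_congr_left
  intro i hi
  exact nthN_compU a b i (mem_r24.mp hi)

/-- normalised codes -/
theorem norm_compU (a b : ℕ) : encL (dec (compU a b)) = compU a b := by
  rw [dec_compU, compU_eq, compF]

/-- `c` codes the permutation `g` -/
def IsCode (c : ℕ) (g : Equiv.Perm GolayPt) : Prop := IsTable (dec c) g

theorem isCode_iff (c : ℕ) (g : Equiv.Perm GolayPt) : IsCode c g ↔ ∀ p, idx (g p) = nthN c (idx p) := by
  constructor
  · intro h p
    rw [h.2 p, dec_getD _ _ (idx_lt p)]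
  · intro h
    refine ⟨dec_length c, fun p => ?_⟩
    rw [h p, dec_getD _ _ (idx_lt p)]

theorem isCode_mul {a b : ℕ} {g g' : Equiv.Perm GolayPt} (ha : IsCode a g) (hb : IsCode b g') :
    IsCode (compU a b) (g * g') := by
  rw [isCode_iff] at *
  intro p
  rw [Equiv.Perm.mul_apply, ha, hb, nthN_compU _ _ _ (idx_lt p)]

/-- code of the identity -/
def idC : ℕ := encL r24

theorem dec_idC : dec idC = idT := by decide +kernel

theorem isCode_one : IsCode idC 1 := by
  unfold IsCode
  rw [dec_idC]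
  exact isTable_one

theorem isCode_unique {a b : ℕ} {g : Equiv.Perm GolayPt} (ha : IsCode a g) (hb : IsCode b g)
    (na : encL (dec a) = a) (nb : encL (dec b) = b) : a = b := by
  rw [← na, ← nb, tab_unique ha hb]

theorem isCode_inj {a : ℕ} {g g' : Equiv.Perm GolayPt} (h : IsCode a g) (h' : IsCode a g') : g = g' :=
  IsTable.inj h h'

theorem eq_one_of_dec_eq {a : ℕ} {g : Equiv.Perm GolayPt} (h : IsCode a g) (h1 : dec a = idT) : g = 1 := by
  unfold IsCode at h
  rw [h1] at h
  exact h.inj isTable_one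

/-- the inverse code -/
theorem isCode_inv_of {a ai : ℕ} {x : Equiv.Perm GolayPt} (ha : IsCode a x)
    (h1 : dec (compU a ai) = idT) (h2 : ∀ j ∈ dec ai, j < 24) : IsCode ai x⁻¹ := by
  rw [isCode_iff] at ha ⊢
  intro p
  have hj : nthN ai (idx p) < 24 := by
    apply h2
    unfold dec
    exact List.mem_map.mpr ⟨idx p, mem_r24.mpr (idx_lt p), rfl⟩
  have h3 : nthN a (nthN ai (idx p)) = idx p := by
    have : (dec (compU a ai)).getD (idx p) 0 = idT.getD (idx p) 0 := by rw [h1]
    rw [dec_getD _ _ (idx_lt p), nthN_compU _ _ _ (idx_lt p)] at this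
    rw [this]
    have hp : idx p < (List.range 24).length := by simpa using idx_lt p
    rw [idT, List.getD_eq_getElem _ _ hp, List.getElem_range]
  have h4 : idx (x (pt (nthN ai (idx p)))) = idx p := by
    rw [ha, idx_pt hj, h3]
  have h5 : x (pt (nthN ai (idx p))) = p := idx_injective h4
  have h6 : x⁻¹ p = pt (nthN ai (idx p)) := by
    rw [Equiv.Perm.inv_eq_iff_eq, h5]
  rw [h6, idx_pt hj]

/-- conjugates without inverses -/
theorem isCode_conj_of_eq {g z s : ℕ} {a b : Equiv.Perm GolayPt} (hg : IsCode g a) (hz : IsCode z b)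
    (h : dec (compU s g) = dec (compU g z)) : IsCode s (a * b * a⁻¹) := by
  have hgz := isCode_mul hg hz
  rw [isCode_iff] at hg hgz ⊢
  intro p
  obtain ⟨q, rfl⟩ := a.surjective p
  have h1 : (a * b * a⁻¹) (a q) = (a * b) q := by simp
  rw [h1, hgz, hg]
  have : (dec (compU s g)).getD (idx q) 0 = (dec (compU g z)).getD (idx q) 0 := by rw [h]
  rw [dec_getD _ _ (idx_lt q), dec_getD _ _ (idx_lt q), nthN_compU _ _ _ (idx_lt q)] at this
  exact this.symm

end Cfsg.Agent.Helper27.FusCode
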