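import Mathlib

/-!
A counting criterion for a Sylow `2`-subgroup to be self-normalising: centre of order `2`, a lower
bound for the class of the central involution, and enough Sylow `2`-subgroups of its centraliser.
-/

set_option autoImplicit false

namespace Cfsg.Agent.Helper27.FusCount

variable {G : Type*} [Group G] [Finite G]

/-- a lower bound for the index of a centraliser from a list of distinct conjugates -/
theorem card_centralizer_mul_le (z : G) (K : ℕ) (cl : Fin K → G) (hinj : Function.Injective cl)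
    (hcl : ∀ i, ∃ g : G, cl i = g * z * g⁻¹) :
    K * Nat.card (Subgroup.centralizer ({z} : Set G)) ≤ Nat.card G := by
  choose g hg using hcl
  let f : Fin K × Subgroup.centralizer ({z} : Set G) → G := fun p => g p.1 * p.2.1
  have hcz : ∀ c : Subgroup.centralizer ({z} : Set G), c.1 * z * c.1⁻¹ = z := by
    intro c
    have := Subgroup.mem_centralizer_singleton_iff.mp c.2
    rw [this, mul_inv_cancel_right]
  have hf : Function.Injective f := by
    rintro ⟨i, c⟩ ⟨j, c'⟩ h
    have h' : g i * c.1 = g j * c'.1 := h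
    have h1 : cl i = cl j := by
      rw [hg i, hg j]
      calc g i * z * (g i)⁻¹ = g i * (c.1 * z * c.1⁻¹) * (g i)⁻¹ := by rw [hcz]
        _ = (g i * c.1) * z * (g i * c.1)⁻¹ := by group
        _ = (g j * c'.1) * z * (g j * c'.1)⁻¹ := by rw [h']
        _ = g j * (c'.1 * z * c'.1⁻¹) * (g j)⁻¹ := by group
        _ = g j * z * (g j)⁻¹ := by rw [hcz]
    have hij := hinj h1
    subst hij
    have : c.1 = c'.1 := mul_left_cancel h'
    exact Prod.ext rfl (Subtype.ext this)
  have := Nat.card_le_card_of_injective f hf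
  rwa [Nat.card_prod, Nat.card_eq_fintype_card (α := Fin K), Fintype.card_fin] at this

/-- the counting criterion -/
theorem normalizer_eq_of_count (S0 : Subgroup G) (z : G) (n k K : ℕ)
    (hcard : Nat.card S0 = 2 ^ n) (hsyl : ¬ 2 ^ (n + 1) ∣ Nat.card G)
    (hz : z ∈ S0) (hz1 : z ≠ 1) (hzc : ∀ s ∈ S0, s * z = z * s)
    (hcen : ∀ x ∈ S0, (∀ s ∈ S0, s * x = x * s) → x = 1 ∨ x = z)
    (cl : Fin K → G) (hinj : Function.Injective cl) (hcl : ∀ i, ∃ g : G, cl i = g * z * g⁻¹)
    (c : Fin k → G) (hc : ∀ i, c i * z = z * c i)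
    (hdist : ∀ i j, i ≠ j → ∃ s ∈ S0, (c j)⁻¹ * c i * s * ((c j)⁻¹ * c i)⁻¹ ∉ S0)
    (hbound : Nat.card G < 3 * k * 2 ^ n * K) :
    Subgroup.normalizer (S0 : Set G) = S0 := by
  set N := Subgroup.normalizer (S0 : Set G) with hN
  -- the normaliser centralises `z`
  have hNC : N ≤ Subgroup.centralizer ({z} : Set G) := by
    intro g hg
    rw [Subgroup.mem_centralizer_singleton_iff]
    have hg' := Subgroup.mem_normalizer_iff.mp hg
    have hginv := Subgroup.mem_normalizer_iff.mp (N.inv_mem hg)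
    have hx : g * z * g⁻¹ ∈ S0 := (hg' z).mp hz
    have hxc : ∀ s ∈ S0, s * (g * z * g⁻¹) = g * z * g⁻¹ * s := by
      intro s hs
      have hs' : g⁻¹ * s * g⁻¹⁻¹ ∈ S0 := (hginv s).mp hs
      have h1 := hzc _ hs'
      rw [inv_inv] at h1
      calc s * (g * z * g⁻¹) = g * ((g⁻¹ * s * g) * z) * g⁻¹ := by group
        _ = g * (z * (g⁻¹ * s * g)) * g⁻¹ := by rw [h1]
        _ = g * z * g⁻¹ * s := by group
    rcases hcen _ hx hxc with h | h
    · exfalso
      apply hz1
      have : z = g⁻¹ * (g * z * g⁻¹) * g := by group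
      rw [this, h]
      group
    · calc g * z = (g * z * g⁻¹) * g := by group
        _ = z * g := by rw [h]
  -- counting cosets
  let f : Fin k × N → Subgroup.centralizer ({z} : Set G) := fun p =>
    ⟨c p.1 * p.2.1, Subgroup.mul_mem _ (Subgroup.mem_centralizer_singleton_iff.mpr (hc p.1))
      (hNC p.2.2)⟩
  have hf : Function.Injective f := by
    rintro ⟨i, ν⟩ ⟨j, ν'⟩ h
    have h' : c i * ν.1 = c j * ν'.1 := congrArg Subtype.val h
    by_cases hij : i = j
    · subst hij
      exact Prod.ext rfl (Subtype.ext (mul_left_cancel h'))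
    · exfalso
      obtain ⟨s, hs, hns⟩ := hdist i j hij
      have hmem : (c j)⁻¹ * c i ∈ N := by
        have : (c j)⁻¹ * c i = ν'.1 * ν.1⁻¹ := by
          calc (c j)⁻¹ * c i = (c j)⁻¹ * (c i * ν.1) * ν.1⁻¹ := by group
            _ = (c j)⁻¹ * (c j * ν'.1) * ν.1⁻¹ := by rw [h']
            _ = ν'.1 * ν.1⁻¹ := by group
        rw [this]
        exact N.mul_mem ν'.2 (N.inv_mem ν.2)
      exact hns ((Subgroup.mem_normalizer_iff.mp hmem s).mp hs)
  have h1 := Nat.card_le_card_of_injective f hf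
  rw [Nat.card_prod, Nat.card_eq_fintype_card (α := Fin k), Fintype.card_fin] at h1
  have h2 := card_centralizer_mul_le z K cl hinj hcl
  have hle : S0 ≤ N := Subgroup.le_normalizer
  obtain ⟨t, ht⟩ := Subgroup.card_dvd_of_le hle
  rw [hcard] at ht
  have htodd : ¬ 2 ∣ t := by
    rintro ⟨u, rfl⟩
    apply hsyl
    have : 2 ^ (n + 1) ∣ Nat.card N := ⟨u, by rw [ht, pow_succ]; ring⟩
    exact this.trans (Subgroup.card_subgroup_dvd_card N)
  have ht0 : t ≠ 0 := by
    rintro rfl
    have : 0 < Nat.card N := Nat.card_pos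
    omega
  by_cases ht1 : t = 1
  · symm
    apply Subgroup.eq_of_le_of_card_ge hle
    rw [ht, ht1, hcard, mul_one]
  · exfalso
    have ht3 : 3 ≤ t := by omega
    have h3 : 3 * 2 ^ n ≤ Nat.card N := by
      rw [ht]
      calc 3 * 2 ^ n = 2 ^ n * 3 := by ring
        _ ≤ 2 ^ n * t := Nat.mul_le_mul_left _ ht3
    have h4 : K * (k * (3 * 2 ^ n)) ≤ Nat.card G :=
      calc K * (k * (3 * 2 ^ n)) ≤ K * (k * Nat.card N) :=
            Nat.mul_le_mul_left _ (Nat.mul_le_mul_left _ h3)
        _ ≤ K * Nat.card (Subgroup.centralizer ({z} : Set G)) := Nat.mul_le_mul_left _ h1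
        _ ≤ Nat.card G := h2
    have h5 : K * (k * (3 * 2 ^ n)) = 3 * k * 2 ^ n * K := by ring
    omega

end Cfsg.Agent.Helper27.FusCount
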