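import Cfsg.Agent.Helper27.FusM22Data

/-! Kernel checks of the certificate for M22, part D (generated). -/

set_option autoImplicit false
set_option maxRecDepth 1000000

namespace Cfsg.Agent.Helper27.FusM22

open Cfsg Cfsg.Agent.Helper7 Cfsg.Agent.Helper27.FusTab

theorem hdist : ∀ i < CT.length, ∀ j < CT.length, i ≠ j →
    ∃ s ∈ gensT, conjT (compT (invT (CT.getD j idT)) (CT.getD i idT)) s ∉ L := by decide +kernel


end Cfsg.Agent.Helper27.FusM22
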