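import Cfsg.Agent.Helper27.FusM22C0

/-! Kernel checks of the certificate for M22, part I (generated). -/

set_option autoImplicit false
set_option maxRecDepth 1000000

namespace Cfsg.Agent.Helper27.FusM22

open Cfsg Cfsg.Agent.Helper7 Cfsg.Agent.Helper27.FusTab

def CLG : List (List ℕ) := CLG0

theorem hCLG : ∀ g ∈ CLG, chkT fixL g = true := by
  intro g hg
  simp only [CLG, List.mem_append] at hg
  rcases hg with hg
  · exact hCLG0 g hg

theorem hincr : isIncr (CLG.map (fun g => key (conjT g zT))) = true := by decide +kernel

theorem hbound : 443520 < 3 * CT.length * 2 ^ 7 * CLG.length := by decide +kernel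


end Cfsg.Agent.Helper27.FusM22
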