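import Cfsg.Agent.Helper27.FusM22ChkA
import Cfsg.Agent.Helper27.FusM22ChkD
import Cfsg.Agent.Helper27.FusM22ChkI
import Cfsg.Agent.Helper27.M22Base

/-! The `2`-fusion system of `M22` is simple. -/

set_option autoImplicit false

namespace Cfsg.Agent.Helper27.FusM22

open Cfsg Cfsg.Agent.Helper7 Cfsg.Agent.Helper27.FusTab

theorem sporM22_eq_fix : Spor.M22 = fixG M24 fixL := by
  ext g
  show g ∈ Spor.M22 ↔ g ∈ M22p
  rw [mem_M22p, Spor.M22, Spor.M23, Subgroup.mem_inf, Subgroup.mem_inf]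
  constructor
  · rintro ⟨⟨h1, h2⟩, h3⟩
    exact ⟨h1, MulAction.mem_stabilizer_iff.mp h3, MulAction.mem_stabilizer_iff.mp h2⟩
  · rintro ⟨h1, h2, h3⟩
    exact ⟨⟨h1, MulAction.mem_stabilizer_iff.mpr h3⟩, MulAction.mem_stabilizer_iff.mpr h2⟩

theorem fusion_simple_fix (S : Sylow 2 (fixG M24 fixL)) :
    (groupFusionSystem (S : Subgroup (fixG M24 fixL))).IsSimple 2 :=
  fusion_simple_of_tables fixL hF 443520 7 card_M22p zT GC gensT prog L CT CLG hz hGC hgens hinv hL hid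
    hclosed hnodup hlen hzL hz1 hzc hcen hCLG hincr hCT hdist hsyl hbound S

theorem fusion_simple : ∀ (K : Subgroup (Equiv.Perm GolayPt)), K = fixG M24 fixL →
    ∀ S : Sylow 2 K, (groupFusionSystem (S : Subgroup K)).IsSimple 2 := by
  rintro K rfl S
  exact fusion_simple_fix S

end Cfsg.Agent.Helper27.FusM22
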