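import Cfsg.Agent.Helper27.FusM22cData

/-! Kernel checks of the coded certificate for M22, Chk3 (generated). -/

set_option autoImplicit false
set_option maxRecDepth 1000000
set_option Elab.async false

namespace Cfsg.Agent.Helper27.FusM22c

open Cfsg Cfsg.Agent.Helper7 Cfsg.Agent.Helper27.FusTab Cfsg.Agent.Helper27.FusCode

theorem hincr : isIncr (pairs.map (tcode zC AP W)) = true := by decide +kernel

theorem hdist0 : ∀ j < CP.length, 0 ≠ j →
      ∃ s ∈ gensC, memN (dcode CP 0 j s) L = false := by decide +kernel

theorem hdist1 : ∀ j < CP.length, 1 ≠ j →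
      ∃ s ∈ gensC, memN (dcode CP 1 j s) L = false := by decide +kernel

theorem hdist2 : ∀ j < CP.length, 2 ≠ j →
      ∃ s ∈ gensC, memN (dcode CP 2 j s) L = false := by decide +kernel

theorem hdist : ∀ i < CP.length, ∀ j < CP.length, i ≠ j →
      ∃ s ∈ gensC, memN (dcode CP i j s) L = false := by
  intro i hi
  have hlen : CP.length = 3 := by decide
  rw [hlen] at hi
  interval_cases i
  · exact hdist0
  · exact hdist1
  · exact hdist2


end Cfsg.Agent.Helper27.FusM22c
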