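import Cfsg.Agent.Helper27.FusM23cData

/-! Kernel checks of the coded certificate for M23, Chk1 (generated). -/

set_option autoImplicit false
set_option maxRecDepth 1000000
set_option Elab.async false

namespace Cfsg.Agent.Helper27.FusM23c

open Cfsg Cfsg.Agent.Helper7 Cfsg.Agent.Helper27.FusTab Cfsg.Agent.Helper27.FusCode

theorem hF : ∀ i ∈ fixL, i < 24 := by decide +kernel

theorem hz : chkT fixL (dec zC) = true := by decide +kernel

theorem hGP : ∀ p ∈ GP, chkT fixL (dec p.1) = true ∧ dec (compU p.2 p.1) = dec (compU p.1 zC) := by decide +kernel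

theorem hgens : GP.map Prod.snd = gensC := by decide +kernel

theorem hinv : ∀ s ∈ gensC, dec (compU s s) = idT := by decide +kernel

theorem hL : build gensC prog [idC] = L := by decide +kernel

theorem hlen : L.length = 2 ^ 7 := by decide +kernel

theorem hzL : memN zC L = true := by decide +kernel

theorem hz1 : dec zC ≠ idT := by decide +kernel

theorem hzc : ∀ s ∈ gensC, compU s zC = compU zC s := by decide +kernel

theorem hHP : ∀ p ∈ HP, chkT fixL (dec p.1) = true ∧ dec (compU p.1 p.2) = idT ∧ ∀ j ∈ dec p.2, j < 24 := by decide +kernel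

theorem hAPb : buildP HP progA [(idC, idC)] = AP := by decide +kernel

theorem hBPb : buildP HP progB [(idC, idC)] = BP := by decide +kernel

theorem hW : BP.map (fun p => compU (compU p.1 zC) p.2) = W := by decide +kernel

theorem hCP : ∀ p ∈ CP, chkT fixL (dec p.1) = true ∧ dec (compU p.1 p.2) = idT ∧ (∀ j ∈ dec p.2, j < 24) ∧
      compU p.1 zC = compU zC p.1 := by decide +kernel

theorem hsyl : ¬ 2 ^ (7 + 1) ∣ 10200960 := by decide +kernel

theorem hbound : 10200960 < 3 * CP.length * 2 ^ 7 * pairs.length := by decide +kernel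


end Cfsg.Agent.Helper27.FusM23c
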