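import Cfsg.Agent.Helper27.FusM23cData

/-! Kernel checks of the coded certificate for M23, Chk3 (generated). -/

set_option autoImplicit false
set_option maxRecDepth 1000000
set_option Elab.async false

namespace Cfsg.Agent.Helper27.FusM23c

open Cfsg Cfsg.Agent.Helper7 Cfsg.Agent.Helper27.FusTab Cfsg.Agent.Helper27.FusCode

theorem hincr : isIncr (pairs.map (tcode zC AP W)) = true := by decide +kernel

theorem hdist0 : ∀ j < CP.length, 0 ≠ j →
      ∃ s ∈ gensC, memN (dcode CP 0 j s) L = false := by decide +kernel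

theorem hdist1 : ∀ j < CP.length, 1 ≠ j →
      ∃ s ∈ gensC, memN (dcode CP 1 j s) L = false := by decide +kernel

theorem hdist2 : ∀ j < CP.length, 2 ≠ j →
      ∃ s ∈ gensC, memN (dcode CP 2 j s) L = false := by decide +kernel

theorem hdist3 : ∀ j < CP.length, 3 ≠ j →
      ∃ s ∈ gensC, memN (dcode CP 3 j s) L = false := by decide +kernel

theorem hdist4 : ∀ j < CP.length, 4 ≠ j →
      ∃ s ∈ gensC, memN (dcode CP 4 j s) L = false := by decide +kernel

theorem hdist5 : ∀ j < CP.length, 5 ≠ j →
      ∃ s ∈ gensC, memN (dcode CP 5 j s) L = false := by decide +kernel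

theorem hdist6 : ∀ j < CP.length, 6 ≠ j →
      ∃ s ∈ gensC, memN (dcode CP 6 j s) L = false := by decide +kernel

theorem hdist7 : ∀ j < CP.length, 7 ≠ j →
      ∃ s ∈ gensC, memN (dcode CP 7 j s) L = false := by decide +kernel

theorem hdist8 : ∀ j < CP.length, 8 ≠ j →
      ∃ s ∈ gensC, memN (dcode CP 8 j s) L = false := by decide +kernel

theorem hdist9 : ∀ j < CP.length, 9 ≠ j →
      ∃ s ∈ gensC, memN (dcode CP 9 j s) L = false := by decide +kernel

theorem hdist10 : ∀ j < CP.length, 10 ≠ j →
      ∃ s ∈ gensC, memN (dcode CP 10 j s) L = false := by decide +kernel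

theorem hdist11 : ∀ j < CP.length, 11 ≠ j →
      ∃ s ∈ gensC, memN (dcode CP 11 j s) L = false := by decide +kernel

theorem hdist12 : ∀ j < CP.length, 12 ≠ j →
      ∃ s ∈ gensC, memN (dcode CP 12 j s) L = false := by decide +kernel

theorem hdist13 : ∀ j < CP.length, 13 ≠ j →
      ∃ s ∈ gensC, memN (dcode CP 13 j s) L = false := by decide +kernel

theorem hdist14 : ∀ j < CP.length, 14 ≠ j →
      ∃ s ∈ gensC, memN (dcode CP 14 j s) L = false := by decide +kernel

theorem hdist15 : ∀ j < CP.length, 15 ≠ j →
      ∃ s ∈ gensC, memN (dcode CP 15 j s) L = false := by decide +kernel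

theorem hdist16 : ∀ j < CP.length, 16 ≠ j →
      ∃ s ∈ gensC, memN (dcode CP 16 j s) L = false := by decide +kernel

theorem hdist17 : ∀ j < CP.length, 17 ≠ j →
      ∃ s ∈ gensC, memN (dcode CP 17 j s) L = false := by decide +kernel

theorem hdist18 : ∀ j < CP.length, 18 ≠ j →
      ∃ s ∈ gensC, memN (dcode CP 18 j s) L = false := by decide +kernel

theorem hdist19 : ∀ j < CP.length, 19 ≠ j →
      ∃ s ∈ gensC, memN (dcode CP 19 j s) L = false := by decide +kernel

theorem hdist20 : ∀ j < CP.length, 20 ≠ j →
      ∃ s ∈ gensC, memN (dcode CP 20 j s) L = false := by decide +kernel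

theorem hdist : ∀ i < CP.length, ∀ j < CP.length, i ≠ j →
      ∃ s ∈ gensC, memN (dcode CP i j s) L = false := by
  intro i hi
  have hlen : CP.length = 21 := by decide
  rw [hlen] at hi
  interval_cases i
  · exact hdist0
  · exact hdist1
  · exact hdist2
  · exact hdist3
  · exact hdist4
  · exact hdist5
  · exact hdist6
  · exact hdist7
  · exact hdist8
  · exact hdist9
  · exact hdist10
  · exact hdist11
  · exact hdist12
  · exact hdist13
  · exact hdist14
  · exact hdist15
  · exact hdist16
  · exact hdist17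
  · exact hdist18
  · exact hdist19
  · exact hdist20


end Cfsg.Agent.Helper27.FusM23c
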