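import Cfsg.Agent.Helper27.FusM23cChk1
import Cfsg.Agent.Helper27.FusM23cChk2
import Cfsg.Agent.Helper27.FusM23cChk3
import Cfsg.Agent.Helper27.M22Base

/-! The `2`-fusion system of `M23` is simple (coded certificate). -/

set_option autoImplicit false

namespace Cfsg.Agent.Helper27.FusM23c

open Cfsg Cfsg.Agent.Helper7 Cfsg.Agent.Helper27.FusTab Cfsg.Agent.Helper27.FusCode

theorem grp_eq_fix : Spor.M23 = fixG M24 fixL := by
  ext g
  rw [Spor.M23, Subgroup.mem_inf, mem_fixG]
  constructor
  · rintro ⟨h1, h2⟩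
    refine ⟨h1, fun i hi => ?_⟩
    have hi' : i = 23 := by simpa [fixL] using hi
    subst hi'
    exact MulAction.mem_stabilizer_iff.mp h2
  · rintro ⟨h1, h2⟩
    exact ⟨h1, MulAction.mem_stabilizer_iff.mpr (h2 23 (by simp [fixL]))⟩

theorem card_fix : Nat.card (fixG M24 fixL) = 10200960 := by
  rw [← grp_eq_fix]
  exact card_M23p

theorem fusion_simple_fix (S : Sylow 2 (fixG M24 fixL)) :
    (groupFusionSystem (S : Subgroup (fixG M24 fixL))).IsSimple 2 :=
  fusion_simple_of_codes (F := fixL) (hF := hF) (N := 10200960) (n := 7) (hN := card_fix) (zC := zC) (GP := GP)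
    (gensC := gensC) (prog := prog) (L := L) (CP := CP) (AP := AP) (BP := BP) (W := W) (pairs := pairs)
    (hz := hz) (hGP := hGP) (hgens := hgens) (hinv := hinv) (hL := hL) (hclosed := hclosed)
    (hnodup := hnodup) (hlen := hlen) (hzL := hzL) (hz1 := hz1) (hzc := hzc) (hcen := hcen)
    (HP := HP) (progA := progA) (progB := progB) (hHP := hHP) (hAPb := hAPb) (hBPb := hBPb) (hW := hW)
    (hincr := hincr) (hCP := hCP) (hdist := hdist) (hsyl := hsyl) (hbound := hbound) S

theorem fusion_simple : ∀ (K : Subgroup (Equiv.Perm GolayPt)), K = fixG M24 fixL →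
    ∀ S : Sylow 2 K, (groupFusionSystem (S : Subgroup K)).IsSimple 2 := by
  rintro K rfl S
  exact fusion_simple_fix S

end Cfsg.Agent.Helper27.FusM23c
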