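import Cfsg.Agent.Helper27.FusM24cData

/-! Kernel checks of the coded certificate for M24, Chk2 (generated). -/

set_option autoImplicit false
set_option maxRecDepth 1000000
set_option Elab.async false

namespace Cfsg.Agent.Helper27.FusM24c

open Cfsg Cfsg.Agent.Helper7 Cfsg.Agent.Helper27.FusTab Cfsg.Agent.Helper27.FusCode

theorem hclosed0 : L0.all (fun l => gensC.all (fun s => memN (compU l s) L)) = true := by decide +kernel

theorem hclosed1 : L1.all (fun l => gensC.all (fun s => memN (compU l s) L)) = true := by decide +kernel

theorem hclosed2 : L2.all (fun l => gensC.all (fun s => memN (compU l s) L)) = true := by decide +kernel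

theorem hclosed3 : L3.all (fun l => gensC.all (fun s => memN (compU l s) L)) = true := by decide +kernel

theorem hclosed4 : L4.all (fun l => gensC.all (fun s => memN (compU l s) L)) = true := by decide +kernel

theorem hclosed5 : L5.all (fun l => gensC.all (fun s => memN (compU l s) L)) = true := by decide +kernel

theorem hclosed6 : L6.all (fun l => gensC.all (fun s => memN (compU l s) L)) = true := by decide +kernel

theorem hclosed7 : L7.all (fun l => gensC.all (fun s => memN (compU l s) L)) = true := by decide +kernel

theorem hnodup : nodupB L = true := by decide +kernel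

theorem hcen : L.all (fun x => Nat.beq x idC || (Nat.beq x zC ||
      gensC.any (fun s => !(Nat.beq (compU s x) (compU x s))))) = true := by decide +kernel

theorem hclosed : L.all (fun l => gensC.all (fun s => memN (compU l s) L)) = true := by
  show (L0 ++ (L1 ++ (L2 ++ (L3 ++ (L4 ++ (L5 ++ (L6 ++ (L7)))))))).all (fun l => gensC.all (fun s => memN (compU l s) L)) = true
  simp only [List.all_append, Bool.and_eq_true]
  exact ⟨hclosed0, hclosed1, hclosed2, hclosed3, hclosed4, hclosed5, hclosed6, hclosed7⟩


end Cfsg.Agent.Helper27.FusM24c
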