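import Mathlib
import Cfsg.Agent.Helper27.FusCount
import Cfsg.Agent.Helper85.SimpleCrit
import Cfsg.Agent.Lib.Nilpotent

/-!
The `2`-fusion system of a subgroup `H` of a group `P` is simple, from a certificate in `P`: a subgroup
`S0 ≤ H` of order `2 ^ n` with centre `⟨z⟩`, generated by `H`-conjugates of `z`, plus the counting data
showing that `S0` is self-normalising in `H`.
-/

set_option autoImplicit false

namespace Cfsg.Agent.Helper27.FusRel

open Cfsg

variable {P : Type*} [Group P]

theorem factorization_two_eq {N n : ℕ} (hN : N ≠ 0) (h1 : 2 ^ n ∣ N) (h2 : ¬ 2 ^ (n + 1) ∣ N) :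
    N.factorization 2 = n := by
  have a := (Nat.prime_two.pow_dvd_iff_le_factorization hN).mp h1
  have b : ¬ (n + 1 ≤ N.factorization 2) := fun h =>
    h2 ((Nat.prime_two.pow_dvd_iff_le_factorization hN).mpr h)
  omega

theorem isSimple_of_cert (H : Subgroup P) [Finite H] (S0 : Subgroup P) (hS0 : S0 ≤ H)
    (z : P) (n k K : ℕ)
    (hcard : Nat.card S0 = 2 ^ n) (hsyl : ¬ 2 ^ (n + 1) ∣ Nat.card H)
    (hz : z ∈ S0) (hz1 : z ≠ 1) (hzc : ∀ s ∈ S0, s * z = z * s)
    (hcen : ∀ x ∈ S0, (∀ s ∈ S0, s * x = x * s) → x = 1 ∨ x = z)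
    (cl : Fin K → P) (hinj : Function.Injective cl) (hcl : ∀ i, ∃ g ∈ H, cl i = g * z * g⁻¹)
    (c : Fin k → P) (hcH : ∀ i, c i ∈ H) (hc : ∀ i, c i * z = z * c i)
    (hdist : ∀ i j, i ≠ j → ∃ s ∈ S0, (c j)⁻¹ * c i * s * ((c j)⁻¹ * c i)⁻¹ ∉ S0)
    (hbound : Nat.card H < 3 * k * 2 ^ n * K)
    (gens : Set P) (hgS : ∀ s ∈ gens, s ∈ S0) (hgen : S0 ≤ Subgroup.closure gens)
    (hconj : ∀ s ∈ gens, ∃ g ∈ H, s = g * z * g⁻¹)
    (S : Sylow 2 H) : (groupFusionSystem (S : Subgroup H)).IsSimple 2 := by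
  have : Fact (Nat.Prime 2) := ⟨Nat.prime_two⟩
  set S0' : Subgroup H := S0.subgroupOf H with hS0'
  have hmem : ∀ x : H, x ∈ S0' ↔ (x : P) ∈ S0 := fun x => Subgroup.mem_subgroupOf
  have hcard' : Nat.card S0' = 2 ^ n := by
    rw [← hcard]
    exact Nat.card_congr (Subgroup.subgroupOfEquivOfLe hS0).toEquiv
  have hfac : (Nat.card H).factorization 2 = n := by
    apply factorization_two_eq Nat.card_pos.ne' _ hsyl
    rw [← hcard']
    exact Subgroup.card_subgroup_dvd_card S0'
  let Syl0 : Sylow 2 H := Sylow.ofCard S0' (by rw [hcard', hfac])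
  have hSyl0 : (Syl0 : Subgroup H) = S0' := Sylow.coe_ofCard _ _
  have hzH : z ∈ H := hS0 hz
  set z' : H := ⟨z, hzH⟩ with hz'
  have hz'mem : z' ∈ S0' := (hmem z').mpr hz
  have hz'1 : z' ≠ 1 := fun h => hz1 (congrArg Subtype.val h)
  -- the normaliser
  have hclH : ∀ i, cl i ∈ H := by
    intro i
    obtain ⟨g, hg, h⟩ := hcl i
    rw [h]
    exact H.mul_mem (H.mul_mem hg hzH) (H.inv_mem hg)
  have hnorm : Subgroup.normalizer (S0' : Set H) = S0' := by
    refine FusCount.normalizer_eq_of_count S0' z' n k K hcard' hsyl hz'mem hz'1 ?_ ?_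
      (fun i => ⟨cl i, hclH i⟩) ?_ ?_ (fun i => ⟨c i, hcH i⟩) ?_ ?_ hbound
    · intro s hs
      apply Subtype.ext
      exact hzc s.1 ((hmem s).mp hs)
    · intro x hx hxc
      rcases hcen x.1 ((hmem x).mp hx) (fun s hs => by
          have := hxc ⟨s, hS0 hs⟩ ((hmem _).mpr hs)
          exact congrArg Subtype.val this) with h | h
      · left
        exact Subtype.ext h
      · right
        exact Subtype.ext h
    · intro i j hij
      have := congrArg Subtype.val hij
      exact hinj this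
    · intro i
      obtain ⟨g, hg, h⟩ := hcl i
      refine ⟨⟨g, hg⟩, ?_⟩
      apply Subtype.ext
      exact h
    · intro i
      apply Subtype.ext
      exact hc i
    · intro i j hij
      obtain ⟨s, hs, hns⟩ := hdist i j hij
      refine ⟨⟨s, hS0 hs⟩, (hmem _).mpr hs, ?_⟩
      intro hcon
      apply hns
      have := (hmem _).mp hcon
      exact this
  -- apply the criterion
  refine Cfsg.Agent.Helper85.isSimple_of_selfNorm_conj 2 Syl0 ?_ ?_ ?_ S
  · rw [hSyl0]
    intro h
    apply hz'1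
    have : z' ∈ (⊥ : Subgroup H) := h ▸ hz'mem
    exact Subgroup.mem_bot.mp this
  · rw [hSyl0]
    intro g hg
    rw [hnorm] at hg
    exact ⟨g, hg, fun x _ => rfl⟩
  · rw [hSyl0]
    intro T hT hclT
    by_cases hTbot : T = ⊥
    · exact Or.inl hTbot
    right
    -- `z' ∈ T`
    have hzT : z' ∈ T := by
      let T' : Subgroup S0' := T.subgroupOf S0'
      have : T'.Normal := by
        constructor
        intro t ht s
        have ht' : (t : H) ∈ T := Subgroup.mem_subgroupOf.mp ht
        have h1 : (s : H) * (t : H) * (s : H)⁻¹ ∈ S0' :=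
          S0'.mul_mem (S0'.mul_mem s.2 t.2) (S0'.inv_mem s.2)
        have h2 := hclT _ ht' (s : H) h1
        exact Subgroup.mem_subgroupOf.mpr h2
      have hT'ne : T' ≠ ⊥ := by
        intro h
        apply hTbot
        rw [eq_bot_iff]
        intro t ht
        have : (⟨t, hT ht⟩ : S0') ∈ T' := Subgroup.mem_subgroupOf.mpr ht
        rw [h, Subgroup.mem_bot] at this
        rw [Subgroup.mem_bot]
        exact congrArg Subtype.val this
      have hpg : IsPGroup 2 S0' := IsPGroup.of_card hcard'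
      have : Group.IsNilpotent S0' := hpg.isNilpotent
      have hne := Cfsg.Agent.Lib.normal_inf_center_ne_bot T' hT'ne
      obtain ⟨x, hx1⟩ := (Subgroup.ne_bot_iff_exists_ne_one).mp hne
      have hxT : (x : S0') ∈ T' := (Subgroup.mem_inf.mp x.2).1
      have hxZ : (x : S0') ∈ Subgroup.center S0' := (Subgroup.mem_inf.mp x.2).2
      have hxT' : ((x : S0') : H) ∈ T := Subgroup.mem_subgroupOf.mp hxT
      have hxS : (((x : S0') : H) : P) ∈ S0 := (hmem _).mp (x : S0').2
      rcases hcen _ hxS (fun s hs => by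
          have h1 := (Subgroup.mem_center_iff.mp hxZ) ⟨⟨s, hS0 hs⟩, (hmem _).mpr hs⟩
          have h2 := congrArg (fun y : S0' => ((y : H) : P)) h1
          exact h2) with h | h
      · exfalso
        apply hx1
        apply Subtype.ext
        apply Subtype.ext
        apply Subtype.ext
        exact h
      · have : ((x : S0') : H) = z' := Subtype.ext h
        rw [← this]
        exact hxT'
    -- every generator lies in `T`
    have hgT : gens ⊆ ((T.map H.subtype : Subgroup P) : Set P) := by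
      intro s hs
      obtain ⟨g, hg, h⟩ := hconj s hs
      have hsS : s ∈ S0 := hgS s hs
      have h1 : (⟨g, hg⟩ : H) * z' * (⟨g, hg⟩ : H)⁻¹ ∈ S0' := by
        rw [hmem]
        show g * z * g⁻¹ ∈ S0
        rw [← h]
        exact hsS
      have h2 := hclT z' hzT ⟨g, hg⟩ h1
      refine ⟨_, h2, ?_⟩
      show g * z * g⁻¹ = s
      exact h.symm
    have hle : Subgroup.closure gens ≤ T.map H.subtype := (Subgroup.closure_le _).mpr hgT
    apply le_antisymm hT
    intro x hx
    have hx' : (x : P) ∈ T.map H.subtype := hle (hgen ((hmem x).mp hx))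
    obtain ⟨y, hy, hyx⟩ := hx'
    have : y = x := Subtype.ext hyx
    rw [← this]
    exact hy
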