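import Cfsg.Agent.Helper27.FusRel
import Cfsg.Agent.Helper7.Chain
import Cfsg.Agent.Helper93.M24Tables

/-!
Table-level certificate for the simplicity of the `2`-fusion system of a point stabiliser
`fixG M24 F` in `M24`.
-/

set_option autoImplicit false

namespace Cfsg.Agent.Helper27.FusTab

open Cfsg Cfsg.Agent.Helper7

/-- conjugate table: the table of `a * b * a⁻¹` -/
def conjT (g x : List ℕ) : List ℕ := compT (compT g x) (invT g)

theorem isTable_conjT {g x : List ℕ} {a b : Equiv.Perm GolayPt} (ha : IsTable g a)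
    (hb : IsTable x b) : IsTable (conjT g x) (a * b * a⁻¹) := (ha.mul hb).mul ha.inv

theorem tab_unique {l l' : List ℕ} {g : Equiv.Perm GolayPt} (h : IsTable l g) (h' : IsTable l' g) :
    l = l' := by
  rw [h.eq_map, h'.eq_map]

/-- membership check for `fixG M24 F` -/
def chkT (F : List ℕ) (l : List ℕ) : Bool :=
  decide (Helper93.ValidTables l (invT l)) &&
    gmasks.all (fun x => Nat.beq (enc (pullMask l x % 4096)) (pullMask l x)) &&
    F.all (fun i => Nat.beq (l.getD i 0) i)

theorem tabled_of_chkT {F : List ℕ} (hF : ∀ i ∈ F, i < 24) {l : List ℕ} (h : chkT F l = true) :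
    Tabled (fixG M24 F) l := by
  rw [chkT, Bool.and_eq_true, Bool.and_eq_true, decide_eq_true_eq, List.all_eq_true,
    List.all_eq_true] at h
  obtain ⟨⟨hv, hc⟩, hf⟩ := h
  refine ⟨Helper93.tablePerm l (invT l) hv, ⟨?_, ?_⟩, Helper93.isTable_tablePerm l (invT l) hv⟩
  · apply Helper93.tablePerm_mem_M24
    intro x hx
    exact Nat.eq_of_beq_eq_true (hc x hx)
  · intro i hi
    rw [Helper93.tablePerm_apply, idx_pt (hF i hi), Nat.eq_of_beq_eq_true (hf i hi)]

/-- numeric key of a table -/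
def key (l : List ℕ) : ℕ := l.foldl (fun a x => a * 32 + x) 0

/-- strictly increasing -/
def isIncr : List ℕ → Bool
  | [] => true
  | [_] => true
  | a :: b :: t => Nat.blt a b && isIncr (b :: t)

theorem lt_of_isIncr : ∀ (l : List ℕ) (a : ℕ), isIncr (a :: l) = true → ∀ b ∈ l, a < b
  | [], _, _, b, hb => by simp at hb
  | c :: t, a, h, b, hb => by
    rw [isIncr, Bool.and_eq_true] at h
    have hac : a < c := by
      have := h.1
      simpa [Nat.blt] using this
    rw [List.mem_cons] at hb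
    rcases hb with rfl | hb
    · exact hac
    · exact hac.trans (lt_of_isIncr t c h.2 b hb)

theorem nodup_of_isIncr : ∀ (l : List ℕ), isIncr l = true → l.Nodup
  | [], _ => List.nodup_nil
  | [a], _ => List.nodup_singleton a
  | a :: b :: t, h => by
    have h' := h
    rw [isIncr, Bool.and_eq_true] at h'
    rw [List.nodup_cons]
    refine ⟨fun hmem => ?_, nodup_of_isIncr (b :: t) h'.2⟩
    exact lt_irrefl a (lt_of_isIncr (b :: t) a h a hmem)

theorem card_subtype_mem {α : Type*} [DecidableEq α] (l : List α) (h : l.Nodup) :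
    Nat.card {q // q ∈ l} = l.length := by
  have e : {q // q ∈ l} ≃ {q // q ∈ l.toFinset} :=
    Equiv.subtypeEquivRight (fun q => by simp)
  rw [Nat.card_congr e, Nat.card_eq_fintype_card, Fintype.card_coe, List.toFinset_card_of_nodup h]

theorem fusion_simple_of_tables (F : List ℕ) (hF : ∀ i ∈ F, i < 24)
    (N n : ℕ) (hN : Nat.card (fixG M24 F) = N)
    (zT : List ℕ) (GC gensT : List (List ℕ)) (prog : List Op) (L CT CLG : List (List ℕ))
    (hz : chkT F zT = true)
    (hGC : ∀ g ∈ GC, chkT F g = true)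
    (hgens : GC.map (fun g => conjT g zT) = gensT)
    (hinv : ∀ s ∈ gensT, compT s s = idT)
    (hL : runSLP prog (idT :: gensT) = L)
    (hid : idT ∈ L)
    (hclosed : ∀ l ∈ L, ∀ s ∈ gensT, compT l s ∈ L)
    (hnodup : (L.map key).Nodup)
    (hlen : L.length = 2 ^ n)
    (hzL : zT ∈ L) (hz1 : zT ≠ idT)
    (hzc : ∀ s ∈ gensT, compT s zT = compT zT s)
    (hcen : ∀ x ∈ L, x = idT ∨ x = zT ∨ ∃ s ∈ gensT, compT s x ≠ compT x s)
    (hCLG : ∀ g ∈ CLG, chkT F g = true)
    (hincr : isIncr (CLG.map (fun g => key (conjT g zT))) = true)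
    (hCT : ∀ c ∈ CT, chkT F c = true ∧ compT c zT = compT zT c)
    (hdist : ∀ i < CT.length, ∀ j < CT.length, i ≠ j →
      ∃ s ∈ gensT, conjT (compT (invT (CT.getD j idT)) (CT.getD i idT)) s ∉ L)
    (hsyl : ¬ 2 ^ (n + 1) ∣ N) (hbound : N < 3 * CT.length * 2 ^ n * CLG.length)
    (S : Sylow 2 (fixG M24 F)) :
    (groupFusionSystem (S : Subgroup (fixG M24 F))).IsSimple 2 := by
  classical
  obtain ⟨z, hzH, hzT⟩ := tabled_of_chkT hF hz
  have hgen_ex : ∀ s ∈ gensT, ∃ g ∈ (fixG M24 F), IsTable s (g * z * g⁻¹) := by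
    intro s hs
    rw [← hgens, List.mem_map] at hs
    obtain ⟨gT, hgT, rfl⟩ := hs
    obtain ⟨g, hg, hgt⟩ := tabled_of_chkT hF (hGC gT hgT)
    exact ⟨g, hg, isTable_conjT hgt hzT⟩
  let gens : Set (Equiv.Perm GolayPt) := {x | ∃ l ∈ gensT, IsTable l x}
  let S0 : Subgroup (Equiv.Perm GolayPt) := Subgroup.closure gens
  have hgensH : ∀ x ∈ gens, x ∈ (fixG M24 F) := by
    rintro x ⟨l, hl, hx⟩
    obtain ⟨g, hg, hgt⟩ := hgen_ex l hl
    rw [hx.inj hgt]
    exact (fixG M24 F).mul_mem ((fixG M24 F).mul_mem hg hzH) ((fixG M24 F).inv_mem hg)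
  have hS0H : S0 ≤ (fixG M24 F) := (Subgroup.closure_le _).mpr hgensH
  have hginv : ∀ x ∈ gens, x⁻¹ = x := by
    rintro x ⟨l, hl, hx⟩
    have h1 : IsTable idT (x * x) := by
      rw [← hinv l hl]
      exact hx.mul hx
    have h2 : x * x = 1 := h1.inj isTable_one
    exact inv_eq_of_mul_eq_one_left h2
  have hLtab : ∀ l ∈ L, Tabled S0 l := by
    rw [← hL]
    apply tabled_runSLP
    intro l hl
    rw [List.mem_cons] at hl
    rcases hl with rfl | hl
    · exact tabled_idT S0
    · obtain ⟨g, _, hgt⟩ := hgen_ex l hl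
      exact ⟨_, Subgroup.subset_closure ⟨l, hl, hgt⟩, hgt⟩
  have hS0L : ∀ x ∈ S0, ∃ l ∈ L, IsTable l x := by
    intro x hx
    induction hx using Subgroup.closure_induction_right with
    | one => exact ⟨idT, hid, isTable_one⟩
    | mul_right x _ y hy ih =>
      obtain ⟨l, hl, hlx⟩ := ih
      obtain ⟨s, hs, hsy⟩ := hy
      exact ⟨compT l s, hclosed l hl s hs, hlx.mul hsy⟩
    | mul_inv_cancel x _ y hy ih =>
      rw [hginv y hy]
      obtain ⟨l, hl, hlx⟩ := ih
      obtain ⟨s, hs, hsy⟩ := hy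
      exact ⟨compT l s, hclosed l hl s hs, hlx.mul hsy⟩
  have hLnd : L.Nodup := List.Nodup.of_map _ hnodup
  -- cardinality
  have hcard : Nat.card S0 = 2 ^ n := by
    rw [← hlen, ← card_subtype_mem L hLnd]
    have hex : ∀ x : S0, ∃ l, l ∈ L ∧ IsTable l x.1 := fun x => hS0L x.1 x.2
    choose f hf using hex
    apply Nat.card_congr
    refine Equiv.ofBijective (fun x => ⟨f x, (hf x).1⟩) ⟨?_, ?_⟩
    · intro x y hxy
      have h1 : f x = f y := congrArg Subtype.val hxy
      apply Subtype.ext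
      have h2 := (hf x).2
      rw [h1] at h2
      exact h2.inj (hf y).2
    · rintro ⟨l, hl⟩
      obtain ⟨g, hg, hgt⟩ := hLtab l hl
      refine ⟨⟨g, hg⟩, ?_⟩
      apply Subtype.ext
      exact tab_unique (hf ⟨g, hg⟩).2 hgt
  have hzS0 : z ∈ S0 := by
    obtain ⟨g, hg, hgt⟩ := hLtab zT hzL
    rw [hzT.inj hgt]
    exact hg
  have hzne : z ≠ 1 := by
    intro h
    rw [h] at hzT
    exact hz1 (tab_unique hzT isTable_one)
  -- commuting from tables
  have hcomm : ∀ {a b : List ℕ} {x y : Equiv.Perm GolayPt}, IsTable a x → IsTable b y →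
      compT a b = compT b a → x * y = y * x := by
    intro a b x y hx hy h
    have h1 := hx.mul hy
    rw [h] at h1
    exact h1.inj (hy.mul hx)
  have hzcen : ∀ s ∈ S0, s * z = z * s := by
    have hle : S0 ≤ Subgroup.centralizer ({z} : Set (Equiv.Perm GolayPt)) := by
      apply (Subgroup.closure_le _).mpr
      rintro x ⟨l, hl, hx⟩
      rw [SetLike.mem_coe, Subgroup.mem_centralizer_singleton_iff]
      exact hcomm hx hzT (hzc l hl)
    intro s hs
    exact (Subgroup.mem_centralizer_singleton_iff).mp (hle hs)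
  have hcenter : ∀ x ∈ S0, (∀ s ∈ S0, s * x = x * s) → x = 1 ∨ x = z := by
    intro x hx hxc
    obtain ⟨l, hl, hlx⟩ := hS0L x hx
    rcases hcen l hl with h | h | ⟨s, hs, hne⟩
    · left
      rw [h] at hlx
      exact hlx.inj isTable_one
    · right
      rw [h] at hlx
      exact hlx.inj hzT
    · exfalso
      apply hne
      obtain ⟨g, _, hgt⟩ := hgen_ex s hs
      have hgS : g * z * g⁻¹ ∈ S0 := Subgroup.subset_closure ⟨s, hs, hgt⟩
      have h1 := hxc _ hgS
      have h2 := hgt.mul hlx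
      rw [h1] at h2
      exact tab_unique h2 (hlx.mul hgt)
  -- the conjugates
  have hclex : ∀ i : Fin CLG.length, ∃ g ∈ (fixG M24 F), IsTable (CLG.get i) g := fun i =>
    tabled_of_chkT hF (hCLG _ (List.get_mem CLG i))
  choose cg hcgH hcgT using hclex
  have hclinj : Function.Injective (fun i : Fin CLG.length => cg i * z * (cg i)⁻¹) := by
    intro i j hij
    have hi := isTable_conjT (hcgT i) hzT
    have hj := isTable_conjT (hcgT j) hzT
    have hij' : cg i * z * (cg i)⁻¹ = cg j * z * (cg j)⁻¹ := hij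
    rw [hij'] at hi
    have h1 : conjT (CLG.get i) zT = conjT (CLG.get j) zT := tab_unique hi hj
    have hnd := nodup_of_isIncr _ hincr
    have h2 : (CLG.map (fun g => key (conjT g zT))).get ⟨i.1, by simp⟩ =
        (CLG.map (fun g => key (conjT g zT))).get ⟨j.1, by simp⟩ := by
      simp only [List.get_eq_getElem, List.getElem_map]
      have := congrArg key h1
      simpa [List.get_eq_getElem] using this
    have h3 := (List.Nodup.get_inj_iff hnd).mp h2
    apply Fin.ext
    simpa using h3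
  -- the centraliser elements
  have hctex : ∀ i : Fin CT.length, ∃ g ∈ (fixG M24 F), IsTable (CT.get i) g := fun i =>
    tabled_of_chkT hF (hCT _ (List.get_mem CT i)).1
  choose ct hctH hctT using hctex
  have hgetD : ∀ i : Fin CT.length, CT.getD i.1 idT = CT.get i := by
    intro i
    rw [List.getD_eq_getElem _ _ i.2]
    rfl
  refine FusRel.isSimple_of_cert (fixG M24 F) S0 hS0H z n CT.length CLG.length hcard (by rw [hN]; exact hsyl)
    hzS0 hzne hzcen hcenter (fun i => cg i * z * (cg i)⁻¹) hclinj (fun i => ⟨cg i, hcgH i, rfl⟩)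
    ct hctH ?_ ?_ (by rw [hN]; exact hbound) gens (fun s hs => Subgroup.subset_closure hs) le_rfl ?_ S
  · intro i
    exact hcomm (hctT i) hzT (hCT _ (List.get_mem CT i)).2
  · intro i j hij
    obtain ⟨s, hs, hns⟩ := hdist i.1 i.2 j.1 j.2 (fun h => hij (Fin.ext h))
    obtain ⟨g, _, hgt⟩ := hgen_ex s hs
    refine ⟨g * z * g⁻¹, Subgroup.subset_closure ⟨s, hs, hgt⟩, ?_⟩
    intro hmem
    apply hns
    obtain ⟨l, hl, hlx⟩ := hS0L _ hmem
    rw [hgetD i, hgetD j]
    have h1 : IsTable (conjT (compT (invT (CT.get j)) (CT.get i)) s)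
        ((ct j)⁻¹ * ct i * (g * z * g⁻¹) * ((ct j)⁻¹ * ct i)⁻¹) :=
      isTable_conjT ((hctT j).inv.mul (hctT i)) hgt
    rw [tab_unique h1 hlx]
    exact hl
  · rintro x ⟨l, hl, hx⟩
    obtain ⟨g, hg, hgt⟩ := hgen_ex l hl
    exact ⟨g, hg, hx.inj hgt⟩

end Cfsg.Agent.Helper27.FusTab
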