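import Mathlib

/-!
A concrete, fully decidable model of the field with four elements, and the isomorphism with any
field of order 4.
-/

set_option autoImplicit false

namespace Cfsg.Agent.Helper27

/-- the field with four elements `0, 1, w, w2 = w + 1 = w ^ 2` -/
inductive GF4 : Type
  | z | o | w | w2
  deriving DecidableEq

namespace GF4

instance instFintypeGF4 : Fintype GF4 where
  elems := {z, o, w, w2}
  complete := by intro x; cases x <;> decide

/-- addition -/
def add : GF4 → GF4 → GF4
  | z, x => x
  | x, z => x
  | o, o => z
  | o, w => w2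
  | o, w2 => w
  | w, o => w2
  | w, w => z
  | w, w2 => o
  | w2, o => w
  | w2, w => o
  | w2, w2 => z

/-- multiplication -/
def mul : GF4 → GF4 → GF4
  | z, _ => z
  | _, z => z
  | o, x => x
  | x, o => x
  | w, w => w2
  | w, w2 => o
  | w2, w => o
  | w2, w2 => w

/-- inverse -/
def inv : GF4 → GF4
  | z => z
  | o => o
  | w => w2
  | w2 => w

instance instZeroGF4 : Zero GF4 := ⟨z⟩
instance instOneGF4 : One GF4 := ⟨o⟩
instance instAddGF4 : Add GF4 := ⟨add⟩
instance instMulGF4 : Mul GF4 := ⟨mul⟩
instance instNegGF4 : Neg GF4 := ⟨id⟩
instance instInvGF4 : Inv GF4 := ⟨inv⟩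

instance instCommRingGF4 : CommRing GF4 where
  add_assoc := by decide
  zero_add := by decide
  add_zero := by decide
  add_comm := by decide
  neg_add_cancel := by decide
  mul_assoc := by decide
  one_mul := by decide
  mul_one := by decide
  left_distrib := by decide
  right_distrib := by decide
  zero_mul := by decide
  mul_zero := by decide
  mul_comm := by decide
  nsmul := nsmulRec
  zsmul := zsmulRec

instance instFieldGF4 : Field GF4 where
  exists_pair_ne := ⟨z, o, by decide⟩
  mul_inv_cancel := by decide
  inv_zero := rfl
  nnqsmul := _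
  qsmul := _
  nnratCast_def := fun _ => rfl
  ratCast_def := fun _ => rfl

theorem card_eq : Fintype.card GF4 = 4 := rfl

theorem root_cases : ∀ x : GF4, x ^ 2 + x + 1 = 0 → x = w ∨ x = w2 := by decide

end GF4

/-- any field with four elements is isomorphic to `GF4` -/
noncomputable def gf4Equiv (F : Type*) [Field F] [Fintype F] (hF : Fintype.card F = 4) : GF4 ≃+* F :=
  FiniteField.ringEquivOfCardEq (by rw [GF4.card_eq, hF])

end Cfsg.Agent.Helper27
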