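import Cfsg.Agent.Helper27.Bits

/-!
Computational model of `Cfsg.golayCode` on bit masks.
-/

set_option autoImplicit false

namespace Cfsg.Agent.Helper27

open Cfsg

/-- masks of the 23 generators `qrWord t` -/
def qrMasks : List ℕ := [340831, 681662, 1363324, 2726648, 5453296, 2517985, 5035970, 1683333, 3366666, 6733332, 5078057, 1767507, 3535014, 7070028, 5751449, 3114291, 6228582, 4068557, 8137114, 7885621, 7382635, 6376663, 4364719]

/-- mask of the all-ones word -/
def onesMask : ℕ := 16777215

/-- twelve of the generators forming a basis -/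
def genBasis : List ℕ := [340831, 681662, 1363324, 2726648, 5453296, 2517985, 5035970, 1683333, 3366666, 6733332, 5078057, 16777215]

/-- the systematic basis of the code: row `j` has bit `j` as its only nonzero bit among bits 0..11 -/
def gBasis : List ℕ := [13062145, 4845570, 13938692, 7221256, 10170384, 11952160, 15515712, 2019456, 4038912, 8077824, 11654144, 14919680]

/-- xor of the rows of a list selected by the bits of `c` -/
def encodeWith : List ℕ → ℕ → ℕ
  | [], _ => 0
  | r :: rs, c => (if c % 2 = 1 then r else 0) ^^^ encodeWith rs (c / 2)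

/-- the codeword with information bits `c` -/
def encode (c : ℕ) : ℕ := encodeWith gBasis c

/-- membership test for masks -/
def isCode (m : ℕ) : Bool := encode (m % 4096) == m

theorem xor_xor_xor_cancel (r x y : ℕ) : (r ^^^ x) ^^^ (r ^^^ y) = x ^^^ y := by
  apply Nat.eq_of_testBit_eq
  intro i
  simp only [Nat.testBit_xor]
  cases r.testBit i <;> cases x.testBit i <;> cases y.testBit i <;> rfl

theorem encodeWith_xor (rows : List ℕ) (a b : ℕ) :
    encodeWith rows (a ^^^ b) = encodeWith rows a ^^^ encodeWith rows b := by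
  induction rows generalizing a b with
  | nil => simp [encodeWith]
  | cons r rs ih =>
    simp only [encodeWith, Nat.xor_div_two, ih]
    have h : (a ^^^ b) % 2 = (a % 2 + b % 2) % 2 := by rw [Nat.xor_mod_two_eq, Nat.add_mod]
    rcases Nat.mod_two_eq_zero_or_one a with ha | ha <;>
    rcases Nat.mod_two_eq_zero_or_one b with hb | hb
    · rw [h, ha, hb]; simp
    · rw [h, ha, hb]; simp only [Nat.zero_add, Nat.one_mod, if_true, Nat.zero_ne_one, if_false, Nat.zero_xor]
      rw [← Nat.xor_assoc, ← Nat.xor_assoc, Nat.xor_comm r]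
    · rw [h, ha, hb]; simp only [Nat.add_zero, Nat.one_mod, if_true, Nat.zero_ne_one, if_false, Nat.zero_xor]
      rw [Nat.xor_assoc]
    · rw [h, ha, hb]; simp only [Nat.reduceAdd, Nat.mod_self, Nat.zero_ne_one, if_false, if_true, Nat.zero_xor]
      rw [xor_xor_xor_cancel]

theorem encodeWith_zero (rows : List ℕ) : encodeWith rows 0 = 0 := by
  induction rows with
  | nil => rfl
  | cons r rs ih => simp [encodeWith, ih]

theorem encodeWith_lt (rows : List ℕ) (h : ∀ r ∈ rows, r < 2 ^ 24) (c : ℕ) : encodeWith rows c < 2 ^ 24 := by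
  induction rows generalizing c with
  | nil => simp [encodeWith]
  | cons r rs ih =>
    simp only [encodeWith]
    apply Nat.xor_lt_two_pow
    · split_ifs
      · exact h r (List.mem_cons_self)
      · positivity
    · exact ih (fun r' hr' => h r' (List.mem_cons_of_mem _ hr')) _

theorem wordOf_encodeWith_mem (S : Submodule (ZMod 2) (GolayPt → ZMod 2)) (rows : List ℕ)
    (h : ∀ r ∈ rows, wordOf r ∈ S) (c : ℕ) : wordOf (encodeWith rows c) ∈ S := by
  induction rows generalizing c with
  | nil => simp only [encodeWith, wordOf_zero]; exact S.zero_mem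
  | cons r rs ih =>
    simp only [encodeWith, wordOf_xor]
    apply S.add_mem
    · split_ifs
      · exact h r (List.mem_cons_self)
      · rw [wordOf_zero]; exact S.zero_mem
    · exact ih (fun r' hr' => h r' (List.mem_cons_of_mem _ hr')) _

theorem qrWord_eq : ∀ t : ZMod 23, qrWord t = wordOf (qrMasks.getD t.val 0) := by
  decide +kernel

theorem wordOf_onesMask : wordOf onesMask = 1 := by
  decide +kernel

theorem wordOf_qrMask_mem : ∀ r ∈ qrMasks, wordOf r ∈ golayCode := by
  intro r hr
  obtain ⟨i, hi, rfl⟩ := List.getElem_of_mem hr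
  have hi' : i < 23 := hi
  have h := qrWord_eq (i : ZMod 23)
  rw [ZMod.val_cast_of_lt hi'] at h
  rw [List.getD_eq_getElem _ _ hi] at h
  rw [← h]
  exact Submodule.subset_span (Or.inl ⟨_, rfl⟩)

theorem wordOf_onesMask_mem : wordOf onesMask ∈ golayCode := by
  rw [wordOf_onesMask]
  exact Submodule.subset_span (Or.inr rfl)

theorem wordOf_genBasis_mem : ∀ r ∈ genBasis, wordOf r ∈ golayCode := by
  intro r hr
  have : r ∈ qrMasks ∨ r = onesMask := by
    revert r; decide
  rcases this with h | h
  · exact wordOf_qrMask_mem r h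
  · rw [h]; exact wordOf_onesMask_mem

theorem gBasis_eq : gBasis = [3753, 280, 3225, 1400, 3770, 3991, 3533, 2000, 1347, 101, 3683, 3621].map (encodeWith genBasis) := by
  decide +kernel

theorem wordOf_gBasis_mem : ∀ r ∈ gBasis, wordOf r ∈ golayCode := by
  intro r hr
  rw [gBasis_eq, List.mem_map] at hr
  obtain ⟨c, _, rfl⟩ := hr
  exact wordOf_encodeWith_mem _ _ wordOf_genBasis_mem c

theorem wordOf_encode_mem (c : ℕ) : wordOf (encode c) ∈ golayCode :=
  wordOf_encodeWith_mem _ _ wordOf_gBasis_mem c

theorem encode_lt (c : ℕ) : encode c < 2 ^ 24 :=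
  encodeWith_lt _ (by decide) c

theorem encode_xor (a b : ℕ) : encode (a ^^^ b) = encode a ^^^ encode b := encodeWith_xor _ a b

theorem encode_zero : encode 0 = 0 := encodeWith_zero _

/-- `f` holds on `[lo, lo + 2 ^ k)` (binary splitting keeps the evaluation depth small) -/
def allRange (f : ℕ → Bool) : ℕ → ℕ → Bool
  | 0, lo => f lo
  | k + 1, lo => allRange f k lo && allRange f k (lo + 2 ^ k)

theorem allRange_iff (f : ℕ → Bool) (k lo : ℕ) :
    allRange f k lo = true ↔ ∀ i < 2 ^ k, f (lo + i) = true := by
  induction k generalizing lo with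
  | zero => simp [allRange]
  | succ k ih =>
    simp only [allRange, Bool.and_eq_true, ih]
    constructor
    · rintro ⟨h1, h2⟩ i hi
      by_cases h : i < 2 ^ k
      · exact h1 i h
      · have := h2 (i - 2 ^ k) (by rw [pow_succ] at hi; omega)
        rwa [show lo + 2 ^ k + (i - 2 ^ k) = lo + i by omega] at this
    · intro h
      refine ⟨fun i hi => h i (by rw [pow_succ]; omega), fun i hi => ?_⟩
      have := h (2 ^ k + i) (by rw [pow_succ]; omega)
      rwa [show lo + (2 ^ k + i) = lo + 2 ^ k + i by omega] at this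

theorem forall_lt_of_allRange (f : ℕ → Bool) (k : ℕ) (h : allRange f k 0 = true) :
    ∀ i < 2 ^ k, f i = true := by
  intro i hi
  have := (allRange_iff f k 0).mp h i hi
  rwa [Nat.zero_add] at this

/-- number of `i` in `[lo, lo + 2 ^ k)` with `f i` -/
def countRange (f : ℕ → Bool) : ℕ → ℕ → ℕ
  | 0, lo => if f lo then 1 else 0
  | k + 1, lo => countRange f k lo + countRange f k (lo + 2 ^ k)

theorem countRange_eq_sum (f : ℕ → Bool) (k lo : ℕ) :
    countRange f k lo = ∑ i ∈ Finset.range (2 ^ k), if f (lo + i) then 1 else 0 := by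
  induction k generalizing lo with
  | zero => simp only [countRange, pow_zero, Finset.range_one, Finset.sum_singleton, Nat.add_zero]
  | succ k ih =>
    rw [countRange, ih, ih, pow_succ, mul_two, Finset.sum_range_add]
    congr 1
    apply Finset.sum_congr rfl
    intro i _
    rw [Nat.add_assoc]

theorem card_filter_range_pow (f : ℕ → Bool) (k : ℕ) :
    ((Finset.range (2 ^ k)).filter fun i => f i = true).card = countRange f k 0 := by
  rw [countRange_eq_sum, Finset.card_filter]
  apply Finset.sum_congr rfl
  intro i _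
  rw [Nat.zero_add]

theorem encode_mod : ∀ c < 4096, encode c % 4096 = c := by
  have h := forall_lt_of_allRange (fun c => encode c % 4096 == c) 12 (by decide +kernel)
  intro c hc
  simpa using h c hc

theorem qrMasks_isCode : ∀ r ∈ qrMasks, encode (r % 4096) = r := by
  decide +kernel

theorem onesMask_isCode : encode (onesMask % 4096) = onesMask := by
  decide +kernel

/-- every codeword is `wordOf (encode c)` for a unique `c < 4096` -/
theorem exists_encode_of_mem {w : GolayPt → ZMod 2} (hw : w ∈ golayCode) :
    ∃ c < 4096, w = wordOf (encode c) := by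
  induction hw using Submodule.span_induction with
  | mem x hx =>
    rcases hx with ⟨t, rfl⟩ | hx
    · refine ⟨qrMasks.getD t.val 0 % 4096, Nat.mod_lt _ (by norm_num), ?_⟩
      rw [qrWord_eq t]
      have ht : t.val < qrMasks.length := ZMod.val_lt t
      rw [List.getD_eq_getElem _ _ ht]
      rw [qrMasks_isCode _ (List.getElem_mem ht)]
    · refine ⟨onesMask % 4096, Nat.mod_lt _ (by norm_num), ?_⟩
      rw [Set.mem_singleton_iff] at hx
      rw [hx, onesMask_isCode, wordOf_onesMask]
  | zero => exact ⟨0, by norm_num, by rw [encode_zero, wordOf_zero]⟩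
  | add x y _ _ hx hy =>
    obtain ⟨a, ha, rfl⟩ := hx
    obtain ⟨b, hb, rfl⟩ := hy
    refine ⟨a ^^^ b, Nat.xor_lt_two_pow (n := 12) ha hb, ?_⟩
    rw [encode_xor, wordOf_xor]
  | smul a x _ hx =>
    obtain ⟨c, hc, rfl⟩ := hx
    have : a = 0 ∨ a = 1 := by revert a; decide
    rcases this with rfl | rfl
    · exact ⟨0, by norm_num, by rw [zero_smul, encode_zero, wordOf_zero]⟩
    · exact ⟨c, hc, by rw [one_smul]⟩

theorem mem_golayCode_iff_exists (w : GolayPt → ZMod 2) :
    w ∈ golayCode ↔ ∃ c < 4096, w = wordOf (encode c) :=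
  ⟨exists_encode_of_mem, fun ⟨c, _, h⟩ => h ▸ wordOf_encode_mem c⟩

theorem wordOf_mem_golayCode_iff {m : ℕ} (hm : m < 2 ^ 24) : wordOf m ∈ golayCode ↔ isCode m = true := by
  constructor
  · intro h
    obtain ⟨c, hc, h⟩ := exists_encode_of_mem h
    have : m = encode c := eq_of_wordOf_eq hm (encode_lt c) h
    simp only [isCode, beq_iff_eq]
    rw [this, encode_mod c hc]
  · intro h
    simp only [isCode, beq_iff_eq] at h
    rw [← h]
    exact wordOf_encode_mem _

theorem mem_golayCode_iff (w : GolayPt → ZMod 2) : w ∈ golayCode ↔ isCode (maskOf w) = true := by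
  rw [← wordOf_mem_golayCode_iff (maskOf_lt w), wordOf_maskOf]

theorem isCode_encode (c : ℕ) (hc : c < 4096) : isCode (encode c) = true := by
  simp only [isCode, beq_iff_eq]
  rw [encode_mod c hc]

theorem encode_injOn {a b : ℕ} (ha : a < 4096) (hb : b < 4096) (h : wordOf (encode a) = wordOf (encode b)) : a = b := by
  have := eq_of_wordOf_eq (encode_lt a) (encode_lt b) h
  rw [← encode_mod a ha, ← encode_mod b hb, this]

end Cfsg.Agent.Helper27
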