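import Cfsg.Agent.Helper7.Table

/-!
Linear automorphisms of the binary Golay code with the orbits of `M24` modulo the all-ones word:
a normalising-chain framework (messages of code words, stage certificates).
-/

set_option autoImplicit false

namespace Cfsg.Agent.Helper27

open Cfsg Cfsg.Agent.Helper7

/-! ### code words and their messages -/

/-- the code word with message `m` -/
def glCw (m : ℕ) : ↥golayCode := ⟨word (enc m), word_enc_mem m⟩

/-- the message of a code word -/
def glMsg (c : ↥golayCode) : ℕ := toMask c.1 % 4096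

theorem glMsg_lt (c : ↥golayCode) : glMsg c < 4096 := Nat.mod_lt _ (by norm_num)

theorem glCw_glMsg (c : ↥golayCode) : glCw (glMsg c) = c := by
  obtain ⟨m, hm, h⟩ := (Cfsg.Agent.Helper7.mem_golayCode_iff c.1).mp c.2
  apply Subtype.ext
  show word (enc (toMask c.1 % 4096)) = c.1
  rw [h, toMask_word (enc_lt hm), enc_mod hm]

theorem glMsg_glCw {m : ℕ} (hm : m < 4096) : glMsg (glCw m) = m := by
  show toMask (word (enc m)) % 4096 = m
  rw [toMask_word (enc_lt hm), enc_mod hm]

theorem glCw_xor (a b : ℕ) : glCw (a ^^^ b) = glCw a + glCw b := by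
  apply Subtype.ext
  show word (enc (a ^^^ b)) = word (enc a) + word (enc b)
  rw [enc_xor, word_xor]

theorem glMsg_add (c d : ↥golayCode) : glMsg (c + d) = glMsg c ^^^ glMsg d := by
  have h : glCw (glMsg c ^^^ glMsg d) = c + d := by rw [glCw_xor, glCw_glMsg, glCw_glMsg]
  rw [← h, glMsg_glCw (Nat.xor_lt_two_pow (n := 12) (glMsg_lt c) (glMsg_lt d))]

theorem enc_4095 : enc 4095 = 16777215 := by decide +kernel

theorem glCw_ones : ((glCw 4095 : ↥golayCode) : GolayPt → ZMod 2) = fun _ => (1 : ZMod 2) := by
  show word (enc 4095) = _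
  rw [enc_4095, word_all]
  rfl

/-! ### the action on messages -/

/-- the map on messages induced by a linear automorphism of the code -/
def glPhi (y : ↥golayCode ≃ₗ[ZMod 2] ↥golayCode) (m : ℕ) : ℕ := glMsg (y (glCw m))

theorem glPhi_lt (y : ↥golayCode ≃ₗ[ZMod 2] ↥golayCode) (m : ℕ) : glPhi y m < 4096 := glMsg_lt _

theorem glPhi_spec (y : ↥golayCode ≃ₗ[ZMod 2] ↥golayCode) (m : ℕ) :
    y (glCw m) = glCw (glPhi y m) := (glCw_glMsg _).symm

theorem glPhi_xor (y : ↥golayCode ≃ₗ[ZMod 2] ↥golayCode) (a b : ℕ) :
    glPhi y (a ^^^ b) = glPhi y a ^^^ glPhi y b := by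
  unfold glPhi
  rw [glCw_xor, map_add, glMsg_add]

theorem glPhi_zero (y : ↥golayCode ≃ₗ[ZMod 2] ↥golayCode) : glPhi y 0 = 0 := by
  have := glPhi_xor y 0 0
  rw [Nat.xor_self, Nat.xor_self] at this
  exact this

theorem glPhi_mul (x y : ↥golayCode ≃ₗ[ZMod 2] ↥golayCode) (m : ℕ) :
    glPhi (x * y) m = glPhi x (glPhi y m) := by
  show glMsg ((x * y) (glCw m)) = glMsg (x (glCw (glPhi y m)))
  rw [← glPhi_spec y m]
  rfl

/-! ### equality modulo the all-ones word -/

/-- equality of messages modulo the all-ones word -/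
def glEqv (a b : ℕ) : Prop := a = b ∨ a = b ^^^ 4095

theorem xor_xor_cancel_right' (a c : ℕ) : (a ^^^ c) ^^^ c = a := by
  rw [Nat.xor_assoc, Nat.xor_self, Nat.xor_zero]

theorem glEqv_refl (a : ℕ) : glEqv a a := Or.inl rfl

theorem glEqv_symm {a b : ℕ} (h : glEqv a b) : glEqv b a := by
  rcases h with rfl | rfl
  · exact Or.inl rfl
  · exact Or.inr (xor_xor_cancel_right' _ _).symm

theorem glEqv_trans {a b c : ℕ} (h : glEqv a b) (h' : glEqv b c) : glEqv a c := by
  rcases h with rfl | rfl
  · exact h'
  · rcases h' with rfl | rfl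
    · exact Or.inr rfl
    · exact Or.inl (xor_xor_cancel_right' _ _)

theorem glEqv_xor {a b a' b' : ℕ} (h : glEqv a b) (h' : glEqv a' b') :
    glEqv (a ^^^ a') (b ^^^ b') := by
  rcases h with rfl | rfl <;> rcases h' with rfl | rfl
  · exact Or.inl rfl
  · refine Or.inr ?_
    rw [Nat.xor_assoc]
  · refine Or.inr ?_
    rw [Nat.xor_assoc, Nat.xor_comm 4095, ← Nat.xor_assoc]
  · refine Or.inl ?_
    rw [Nat.xor_assoc, Nat.xor_comm 4095, xor_xor_cancel_right']

/-- Boolean form -/
def glEqvb (a b : ℕ) : Bool := a == b || a == b ^^^ 4095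

theorem glEqv_of_glEqvb {a b : ℕ} (h : glEqvb a b = true) : glEqv a b := by
  unfold glEqvb at h
  rw [Bool.or_eq_true] at h
  rcases h with h | h
  · exact Or.inl (eq_of_beq h)
  · exact Or.inr (eq_of_beq h)

/-! ### weights -/

/-- the weight of the code word of a message -/
def glWtm (a : ℕ) : ℕ := wt (enc a)

/-- equality of weights up to complement -/
def glWteq (u v : ℕ) : Prop := u = v ∨ u + v = 24

/-- Boolean form -/
def glWteqb (u v : ℕ) : Bool := u == v || u + v == 24

theorem glWteqb_of_glWteq {u v : ℕ} (h : glWteq u v) : glWteqb u v = true := by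
  unfold glWteqb
  rw [Bool.or_eq_true]
  rcases h with h | h
  · exact Or.inl (beq_iff_eq.mpr h)
  · exact Or.inr (beq_iff_eq.mpr h)

theorem glWtm_compl_aux :
    allLt 4096 (fun a => Nat.beq (wt (enc (a ^^^ 4095)) + wt (enc a)) 24) = true := by
  decide +kernel

theorem glWtm_compl {a : ℕ} (ha : a < 4096) : glWtm (a ^^^ 4095) + glWtm a = 24 :=
  Nat.eq_of_beq_eq_true (allLt_spec glWtm_compl_aux a ha)

theorem glWteq_of_glEqv {a b : ℕ} (hb : b < 4096) (h : glEqv a b) : glWteq (glWtm a) (glWtm b) := by
  rcases h with rfl | rfl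
  · exact Or.inl rfl
  · exact Or.inr (glWtm_compl hb)

theorem card_support₂_add_one (w : V) :
    (support₂ (w + fun _ => (1 : ZMod 2))).card + (support₂ w).card = 24 := by
  have h : support₂ (w + fun _ => (1 : ZMod 2)) = (support₂ w)ᶜ := by
    ext p
    rw [Finset.mem_compl, mem_support₂, mem_support₂, Pi.add_apply]
    have : ∀ a : ZMod 2, a + 1 ≠ 0 ↔ ¬ a ≠ 0 := by decide
    exact this _
  rw [h, Finset.card_compl]
  have h24 : Fintype.card GolayPt = 24 := by
    rw [Fintype.card_option, ZMod.card]
  have := Finset.card_le_univ (support₂ w)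
  omega

theorem card_support₂_permL (g : Equiv.Perm GolayPt) (w : V) :
    (support₂ (permL g w)).card = (support₂ w).card := by
  rw [← smul_support₂, Finset.card_smul_finset]

/-! ### the hypotheses -/

/-- the hypotheses on the group `X` -/
structure GlHyp (X : Subgroup (↥golayCode ≃ₗ[ZMod 2] ↥golayCode)) : Prop where
  h1 : ∀ x ∈ X, ∀ e : ↥golayCode, (e : GolayPt → ZMod 2) = (fun _ => (1 : ZMod 2)) → x e = e
  hM : ∀ σ ∈ M24, ∃ x ∈ X, ∀ c : ↥golayCode,
    ((x c : ↥golayCode) : GolayPt → ZMod 2) = fun p => (c : GolayPt → ZMod 2) (σ.symm p)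
  horb : ∀ x ∈ X, ∀ c : ↥golayCode, ∃ σ ∈ M24,
    ((x c : ↥golayCode) : GolayPt → ZMod 2) = (fun p => (c : GolayPt → ZMod 2) (σ.symm p)) ∨
    ((x c : ↥golayCode) : GolayPt → ZMod 2) =
      (fun p => (c : GolayPt → ZMod 2) (σ.symm p)) + fun _ => (1 : ZMod 2)

/-- the conclusion for one element -/
def GlGood (y : ↥golayCode ≃ₗ[ZMod 2] ↥golayCode) : Prop :=
  ∃ σ ∈ M24, ∀ c : ↥golayCode,
    ((y c : ↥golayCode) : GolayPt → ZMod 2) = (fun p => (c : GolayPt → ZMod 2) (σ.symm p)) ∨
    ((y c : ↥golayCode) : GolayPt → ZMod 2) =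
      (fun p => (c : GolayPt → ZMod 2) (σ.symm p)) + fun _ => (1 : ZMod 2)

variable {X : Subgroup (↥golayCode ≃ₗ[ZMod 2] ↥golayCode)}

theorem glPhi_ones (H : GlHyp X) {y : ↥golayCode ≃ₗ[ZMod 2] ↥golayCode} (hy : y ∈ X) :
    glPhi y 4095 = 4095 := by
  unfold glPhi
  rw [H.h1 y hy (glCw 4095) glCw_ones, glMsg_glCw (by norm_num)]

theorem glPhi_eqv (H : GlHyp X) {y : ↥golayCode ≃ₗ[ZMod 2] ↥golayCode} (hy : y ∈ X) {a b : ℕ}
    (h : glEqv a b) : glEqv (glPhi y a) (glPhi y b) := by
  rcases h with rfl | rfl
  · exact Or.inl rfl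
  · refine Or.inr ?_
    rw [glPhi_xor, glPhi_ones H hy]

theorem glPhi_wt (H : GlHyp X) {y : ↥golayCode ≃ₗ[ZMod 2] ↥golayCode} (hy : y ∈ X) (m : ℕ) :
    glWteq (glWtm (glPhi y m)) (glWtm m) := by
  obtain ⟨σ, _, h⟩ := H.horb y hy (glCw m)
  rw [glPhi_spec] at h
  have e1 : ((glCw (glPhi y m) : ↥golayCode) : GolayPt → ZMod 2) = word (enc (glPhi y m)) := rfl
  have e2 : (fun p => ((glCw m : ↥golayCode) : GolayPt → ZMod 2) (σ.symm p)) =
      permL σ (word (enc m)) := rfl
  rw [e1, e2] at h
  unfold glWtm
  rw [← card_support₂_word, ← card_support₂_word (enc m)]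
  rcases h with h | h
  · left
    rw [h, card_support₂_permL]
  · right
    rw [h, ← card_support₂_permL σ (word (enc m))]
    exact card_support₂_add_one _

theorem glExists_of_table (H : GlHyp X) {g : Equiv.Perm GolayPt} (hg : g ∈ M24) {l : List ℕ}
    (hl : IsTable l g) :
    ∃ x ∈ X, (∀ a, glPhi x a = pullMask l (enc a) % 4096) ∧
      ∀ c : ↥golayCode, ((x c : ↥golayCode) : GolayPt → ZMod 2) =
        fun p => (c : GolayPt → ZMod 2) (g p) := by
  obtain ⟨x, hx, hxc⟩ := H.hM g⁻¹ (M24.inv_mem hg)
  have hxc' : ∀ c : ↥golayCode, ((x c : ↥golayCode) : GolayPt → ZMod 2) =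
      fun p => (c : GolayPt → ZMod 2) (g p) := by
    intro c
    rw [hxc c]
    rfl
  refine ⟨x, hx, fun a => ?_, hxc'⟩
  unfold glPhi glMsg
  rw [hxc' (glCw a)]
  have : (fun p => ((glCw a : ↥golayCode) : GolayPt → ZMod 2) (g p)) =
      word (pullMask l (enc a)) := word_comp_of_isTable hl (enc a)
  rw [this, toMask_word]
  have := pullMask_lt l (enc a)
  rwa [hl.1] at this

theorem glGood_of_mul {x y : ↥golayCode ≃ₗ[ZMod 2] ↥golayCode} {g : Equiv.Perm GolayPt}
    (hg : g ∈ M24)
    (hx : ∀ c : ↥golayCode, ((x c : ↥golayCode) : GolayPt → ZMod 2) =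
        fun p => (c : GolayPt → ZMod 2) (g p))
    (h : GlGood (x * y)) : GlGood y := by
  obtain ⟨σ, hσ, hs⟩ := h
  refine ⟨g * σ, M24.mul_mem hg hσ, fun c => ?_⟩
  have hxy : (((x * y) c : ↥golayCode) : GolayPt → ZMod 2) =
      fun p => ((y c : ↥golayCode) : GolayPt → ZMod 2) (g p) := by
    rw [LinearEquiv.mul_apply, hx]
  have hy : ((y c : ↥golayCode) : GolayPt → ZMod 2) =
      fun q => (((x * y) c : ↥golayCode) : GolayPt → ZMod 2) (g.symm q) := by
    funext q
    rw [hxy]
    simp
  rcases hs c with h | h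
  · left
    rw [hy, h]
    rfl
  · right
    rw [hy, h]
    rfl

theorem glGood_of_fix_all (y : ↥golayCode ≃ₗ[ZMod 2] ↥golayCode)
    (h : ∀ m < 4096, glEqv (glPhi y m) m) : GlGood y := by
  refine ⟨1, M24.one_mem, fun c => ?_⟩
  have hc : c = glCw (glMsg c) := (glCw_glMsg c).symm
  have hyc : y c = glCw (glPhi y (glMsg c)) := by
    conv_lhs => rw [hc]
    exact glPhi_spec y _
  rcases h (glMsg c) (glMsg_lt c) with h | h
  · left
    rw [hyc, h, ← hc]
    rfl
  · right
    rw [hyc, h, glCw_xor, ← hc]
    show (c : GolayPt → ZMod 2) + ((glCw 4095 : ↥golayCode) : GolayPt → ZMod 2) = _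
    rw [glCw_ones]
    rfl

theorem glFix_encAux {y : ↥golayCode ≃ₗ[ZMod 2] ↥golayCode} (rs : List ℕ)
    (hrs : ∀ r ∈ rs, glEqv (glPhi y r) r) (s : ℕ) :
    glEqv (glPhi y (encAux rs s)) (encAux rs s) := by
  induction rs generalizing s with
  | nil =>
    simp only [encAux]
    rw [glPhi_zero]
    exact glEqv_refl 0
  | cons r rs ih =>
    simp only [encAux]
    rw [glPhi_xor]
    apply glEqv_xor
    · rcases Nat.mod_two_eq_zero_or_one s with h | h
      · rw [h, Nat.zero_mul, glPhi_zero]
        exact glEqv_refl 0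
      · rw [h, Nat.one_mul]
        exact hrs r List.mem_cons_self
    · exact ih (fun r' hr' => hrs r' (List.mem_cons_of_mem _ hr')) _

theorem encAux_lt_4096 (rs : List ℕ) (hrs : ∀ r ∈ rs, r < 4096) (s : ℕ) : encAux rs s < 4096 := by
  induction rs generalizing s with
  | nil => simp [encAux]
  | cons r rs ih =>
    simp only [encAux]
    apply Nat.xor_lt_two_pow (n := 12)
    · rcases Nat.mod_two_eq_zero_or_one s with h | h
      · rw [h, Nat.zero_mul]; norm_num
      · rw [h, Nat.one_mul]
        exact hrs r List.mem_cons_self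
    · exact ih (fun r' hr' => hrs r' (List.mem_cons_of_mem _ hr')) _

/-! ### the final step -/

theorem glGood_final (H : GlHyp X) (base sel : List ℕ)
    (hchk : allLt 4096 (fun m => encAux (4095 :: base) (encAux sel m) == m) = true) :
    ∀ y ∈ X, (∀ b ∈ base, glEqv (glPhi y b) b) → GlGood y := by
  intro y hy hfix
  apply glGood_of_fix_all
  intro m hm
  have h := eq_of_beq (allLt_spec hchk m hm)
  rw [← h]
  apply glFix_encAux
  intro r hr
  rcases List.mem_cons.mp hr with rfl | hr
  · rw [glPhi_ones H hy]
    exact glEqv_refl _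
  · exact hfix r hr

/-! ### stages -/

/-- the weight classes of the messages, two bits each: `2` for weight 12, `1` for weights 8 and 16,
`0` for weights 0 and 24 -/
def glK : ℕ := 90895683047476547091103345181699348927652651574161857057868996938378025075851870243842515722011316569309491369883666994308568339313618081611466525853958077161916667288128236387868358164908038375562433606660746027652062063809398209585168587032542985968424102218636431089239820898423394065938859639179585904398595059920198463655243307160569478908068656025532172853683685243473260785440230770213789019709692783485559322511417569373344355125064166912641877099435441692049757294667251593893935067516052870991038555189221908311447923138402681375814328315281295186306594470467686195714885271901628927029002827451603924750549766032460701321843537682126746991623205840794812510727214975043112383908632981819935166392597239195434464084326222612037847705352189908889679541965112825192876627783303579635888065850932491739490368362527006213353579215650594115149642628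518413482473989091543890435189424190132172311775654975201867362335885730202041012243939274856080127078590740573910143802735325899788540850622105806138430060764138652992514008564747116976284478205333630523769964567785365946116131118722119248182541025761452365928784871897423069486408151643170781797509869372055524337915849556915434264772711988942205975711258861320829141805933471300735477695533474302463206712155034814935574027673178458090697135254734584012343048806227732637458204211421899423739719825427960707062012641379971436382105759477777604922437332235959344286457973469892105702341859516088396657087438222685577965488929952569619412891236767906184864673150361071944186147261426228701129025149407555629621507821033748819676431143740492803206723630689105759479643876586803619864643178926024359349693408051164419122800916527867998202808274986713971864930327731227621829550641108376222736440933664570197746292225400063963262424777048522017615908744110773261707520316534916440715430538118487563237099921542482573994302784320308437745533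247313388852369522628132049953968193282635993276325238571589567877212580901967568915313737764489670654202863422042207053916065703830578288859017667809965493021798738403013270102441024225968701281823682529236223790049887519592858714986422931113823010843286548804586820353265890651819040780606422347126945677251313798256424953130398349650981852908872964304503946261137094476285249095392356778251304669575958021258975042333782579800186486404599813782460353848707622651105235174534151784127855715126330959849480661032296665049091021074737828992029284755309262764684730235704660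

/-- the weight class of a message -/
def glCls (m : ℕ) : ℕ := (glK >>> (2 * m)) % 4

/-- the weight class of a weight -/
def glClsOfWt (u : ℕ) : ℕ := if u = 12 then 2 else if u = 8 then 1 else if u = 16 then 1 else 0

theorem glCls_aux : allLt 4096 (fun m => glCls m == glClsOfWt (wt (enc m))) = true := by
  decide +kernel

theorem glCls_eq_of_wteq {a b : ℕ} (ha : a < 4096) (hb : b < 4096)
    (h : glWteq (glWtm a) (glWtm b)) : glCls a = glCls b := by
  have key : ∀ u v : ℕ, (u = 0 ∨ u = 8 ∨ u = 12 ∨ u = 16 ∨ u = 24) →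
      (v = 0 ∨ v = 8 ∨ v = 12 ∨ v = 16 ∨ v = 24) → (u = v ∨ u + v = 24) →
      glClsOfWt u = glClsOfWt v := by
    rintro u v (rfl | rfl | rfl | rfl | rfl) (rfl | rfl | rfl | rfl | rfl) h <;>
      first | rfl | (exfalso; omega)
  rw [eq_of_beq (allLt_spec glCls_aux a ha), eq_of_beq (allLt_spec glCls_aux b hb)]
  exact key _ _ (enc_wt ha) (enc_wt hb) h

/-- a cheap test that a table is a permutation of `0..23` -/
def glIsPerm (l : List ℕ) : Bool :=
  l.length == 24 && l.foldr (fun j acc => acc ||| 2 ^ j) 0 == 16777215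

theorem testBit_foldr_or (l : List ℕ) (k : ℕ) :
    (l.foldr (fun j acc => acc ||| 2 ^ j) 0).testBit k = true ↔ k ∈ l := by
  induction l with
  | nil => simp
  | cons j js ih =>
    rw [List.foldr_cons, Nat.testBit_or, Bool.or_eq_true, ih, Nat.testBit_two_pow, List.mem_cons,
      decide_eq_true_eq]
    constructor
    · rintro (h | h)
      · exact Or.inr h
      · exact Or.inl h.symm
    · rintro (h | h)
      · exact Or.inr h.symm
      · exact Or.inl h

theorem glIsPerm_mem {l : List ℕ} (h : glIsPerm l = true) (k : ℕ) : k ∈ l ↔ k < 24 := by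
  unfold glIsPerm at h
  rw [Bool.and_eq_true] at h
  rw [← testBit_foldr_or, eq_of_beq h.2]
  have : (16777215 : ℕ) = 2 ^ 24 - 1 := by norm_num
  rw [this, Nat.testBit_two_pow_sub_one, decide_eq_true_eq]

/-- the function of a table -/
def glTabFun (l : List ℕ) (p : GolayPt) : GolayPt := pt (l.getD (idx p) 0)

theorem glTabFun_bijective {l : List ℕ} (h : glIsPerm l = true) :
    Function.Bijective (glTabFun l) := by
  have hlen : l.length = 24 := by
    unfold glIsPerm at h
    rw [Bool.and_eq_true] at h
    exact eq_of_beq h.1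
  rw [← Finite.surjective_iff_bijective]
  intro q
  have hq : idx q ∈ l := (glIsPerm_mem h _).mpr (idx_lt q)
  obtain ⟨i, hi, hiq⟩ := List.getElem_of_mem hq
  refine ⟨pt i, ?_⟩
  unfold glTabFun
  rw [idx_pt (by rw [← hlen]; exact hi), List.getD_eq_getElem _ _ hi, hiq, pt_idx]

/-- the permutation of a table -/
noncomputable def glTabPerm (l : List ℕ) (h : glIsPerm l = true) : Equiv.Perm GolayPt :=
  Equiv.ofBijective (glTabFun l) (glTabFun_bijective h)

theorem isTable_glTabPerm (l : List ℕ) (h : glIsPerm l = true) : IsTable l (glTabPerm l h) := by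
  have hlen : l.length = 24 := by
    have h' := h
    unfold glIsPerm at h'
    rw [Bool.and_eq_true] at h'
    exact eq_of_beq h'.1
  refine ⟨hlen, fun p => ?_⟩
  show idx (glTabFun l p) = _
  unfold glTabFun
  have hp : idx p < l.length := by rw [hlen]; exact idx_lt p
  rw [List.getD_eq_getElem _ _ hp]
  exact idx_pt ((glIsPerm_mem h _).mp (List.getElem_mem hp))

/-- the test that a table belongs to `M24`, on the twelve rows -/
def glM24chk (l : List ℕ) : Bool := rows.all fun N => enc (pullMask l N % 4096) == pullMask l N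

theorem glM24chk_rows {g : Equiv.Perm GolayPt} {l : List ℕ} (hl : IsTable l g)
    (h : glM24chk l = true) : ∀ r ∈ rows, permL g⁻¹ (word r) ∈ golayCode := by
  intro r hr
  rw [permL_inv_apply, word_comp_of_isTable hl]
  have hlt : pullMask l r < 2 ^ 24 := by
    have := pullMask_lt l r
    rwa [hl.1] at this
  rw [word_mem_golayCode_iff hlt]
  unfold glM24chk at h
  exact eq_of_beq (List.all_eq_true.mp h r hr)

theorem mem_of_glM24chk {g : Equiv.Perm GolayPt} {l : List ℕ} (hl : IsTable l g)
    (h : glM24chk l = true) : g ∈ M24 := by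
  have hC : ∀ m, word (encAux rows m) ∈ golayCode.comap (permL g⁻¹ : V →ₗ[ZMod 2] V) :=
    word_encAux_mem _ rows (fun r hr => Submodule.mem_comap.mpr (glM24chk_rows hl h r hr))
  have hinv : g⁻¹ ∈ M24 := by
    rw [mem_M24_iff_le]
    rintro _ ⟨w, hw, rfl⟩
    obtain ⟨m, _, hm⟩ := (Cfsg.Agent.Helper7.mem_golayCode_iff w).mp hw
    rw [hm]
    exact Submodule.mem_comap.mp (hC m)
  simpa using M24.inv_mem hinv

/-- the action of a table on messages -/
def glPsi (l : List ℕ) (a : ℕ) : ℕ := pullMask l (enc a) % 4096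

/-- the test of one certificate -/
def glCertOK (fixed : List ℕ) (mk : ℕ) (e : ℕ × List ℕ) : Bool :=
  glIsPerm e.2 && glM24chk e.2 &&
    glEqvb (glPsi e.2 e.1) mk && fixed.all (fun b => glEqvb (glPsi e.2 b) b)

/-- the messages served by a list of certificates, as a bit mask -/
def glCov (certs : List (ℕ × List ℕ)) : ℕ :=
  certs.foldr (fun e acc => acc ||| 2 ^ e.1 ||| 2 ^ (e.1 ^^^ 4095)) 0

theorem testBit_glCov {certs : List (ℕ × List ℕ)} {t : ℕ} (h : (glCov certs).testBit t = true) :
    ∃ e ∈ certs, e.1 = t ∨ e.1 ^^^ 4095 = t := by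
  induction certs with
  | nil => simp [glCov] at h
  | cons e es ih =>
    unfold glCov at h
    rw [List.foldr_cons, Nat.testBit_or, Nat.testBit_or, Bool.or_eq_true, Bool.or_eq_true,
      Nat.testBit_two_pow, Nat.testBit_two_pow, decide_eq_true_eq, decide_eq_true_eq] at h
    rcases h with (h | h) | h
    · obtain ⟨e', he', h'⟩ := ih h
      exact ⟨e', List.mem_cons_of_mem _ he', h'⟩
    · exact ⟨e, List.mem_cons_self, Or.inl h⟩
    · exact ⟨e, List.mem_cons_self, Or.inr h⟩

/-- the test of one stage: `cons` lists triples `(s, w, u)` with `w` the combination of the fixed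
messages selected by `s` and `u` the weight class of `mk + w`; `cov` is the mask of the served
messages -/
def glStageChk (fixed : List ℕ) (mk : ℕ) (cons : List (ℕ × ℕ × ℕ)) (certs : List (ℕ × List ℕ))
    (cov : ℕ) : Bool :=
  fixed.all (fun b => decide (b < 4096)) && decide (mk < 4096) &&
    cons.all (fun c => c.2.1 == encAux fixed c.1 && c.2.2 == glCls (mk ^^^ c.2.1)) &&
    certs.all (glCertOK fixed mk) && glCov certs == cov &&
    allLt 4096 (fun t => !(cons.all (fun c => glCls (t ^^^ c.2.1) == c.2.2)) || cov.testBit t)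

theorem glWteq_trans' {u v v' : ℕ} (h : glWteq u v) (h' : glWteq u v') : glWteq v' v := by
  unfold glWteq at *
  omega

theorem glStage (H : GlHyp X) (fixed : List ℕ) (mk : ℕ) (cons : List (ℕ × ℕ × ℕ))
    (certs : List (ℕ × List ℕ)) (cov : ℕ) (hchk : glStageChk fixed mk cons certs cov = true)
    (IH : ∀ y ∈ X, (∀ b ∈ mk :: fixed, glEqv (glPhi y b) b) → GlGood y) :
    ∀ y ∈ X, (∀ b ∈ fixed, glEqv (glPhi y b) b) → GlGood y := by
  intro y hy hfix
  unfold glStageChk at hchk
  simp only [Bool.and_eq_true] at hchk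
  obtain ⟨⟨⟨⟨⟨hb, hmk⟩, hcons⟩, hcerts⟩, hcov⟩, hall⟩ := hchk
  have hb' : ∀ b ∈ fixed, b < 4096 := fun b hb1 => of_decide_eq_true (List.all_eq_true.mp hb b hb1)
  have hmk' : mk < 4096 := of_decide_eq_true hmk
  have ht : glPhi y mk < 4096 := glPhi_lt y mk
  have hcon : cons.all (fun c => glCls (glPhi y mk ^^^ c.2.1) == c.2.2) = true := by
    rw [List.all_eq_true]
    intro c hc
    have hc' := List.all_eq_true.mp hcons c hc
    rw [Bool.and_eq_true] at hc'
    have hw : c.2.1 = encAux fixed c.1 := eq_of_beq hc'.1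
    have hu : c.2.2 = glCls (mk ^^^ c.2.1) := eq_of_beq hc'.2
    have hwlt : c.2.1 < 4096 := by rw [hw]; exact encAux_lt_4096 fixed hb' _
    have hwfix : glEqv (glPhi y c.2.1) c.2.1 := by rw [hw]; exact glFix_encAux fixed hfix _
    rw [beq_iff_eq, hu]
    -- weight of `φ (mk + w)`
    have h1 : glWteq (glWtm (glPhi y (mk ^^^ c.2.1))) (glWtm (mk ^^^ c.2.1)) := glPhi_wt H hy _
    rw [glPhi_xor] at h1
    have h2 : glEqv (glPhi y mk ^^^ glPhi y c.2.1) (glPhi y mk ^^^ c.2.1) :=
      glEqv_xor (glEqv_refl _) hwfix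
    have h3 : glWteq (glWtm (glPhi y mk ^^^ glPhi y c.2.1)) (glWtm (glPhi y mk ^^^ c.2.1)) :=
      glWteq_of_glEqv (Nat.xor_lt_two_pow (n := 12) ht hwlt) h2
    exact glCls_eq_of_wteq (Nat.xor_lt_two_pow (n := 12) ht hwlt)
      (Nat.xor_lt_two_pow (n := 12) hmk' hwlt) (glWteq_trans' h1 h3)
  have hcovt := allLt_spec hall (glPhi y mk) ht
  rw [hcon] at hcovt
  simp only [Bool.not_true, Bool.false_or] at hcovt
  rw [← eq_of_beq hcov] at hcovt
  obtain ⟨e, he, het⟩ := testBit_glCov hcovt
  have hok := List.all_eq_true.mp hcerts e he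
  unfold glCertOK at hok
  simp only [Bool.and_eq_true] at hok
  obtain ⟨⟨⟨hval, hm24⟩, hmap⟩, hfixc⟩ := hok
  have hl : IsTable e.2 (glTabPerm e.2 hval) := isTable_glTabPerm _ _
  have hg := mem_of_glM24chk hl hm24
  obtain ⟨x, hx, hphi, hxc⟩ := glExists_of_table H hg hl
  apply glGood_of_mul hg hxc
  apply IH (x * y) (X.mul_mem hx hy)
  intro b hbm
  rw [glPhi_mul]
  rcases List.mem_cons.mp hbm with rfl | hbm
  · have h1 : glEqv (glPhi y b) e.1 := by
      rcases het with h | h
      · rw [h]; exact glEqv_refl _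
      · rw [← h]; exact Or.inr rfl
    have h2 := glPhi_eqv H hx h1
    rw [hphi e.1] at h2
    exact glEqv_trans h2 (glEqv_of_glEqvb hmap)
  · have h2 := glPhi_eqv H hx (hfix b hbm)
    rw [hphi b] at h2
    exact glEqv_trans h2 (glEqv_of_glEqvb (List.all_eq_true.mp hfixc b hbm))

end Cfsg.Agent.Helper27
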