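import Cfsg.Agent.Helper27.GolayCosets
import Cfsg.Agent.Helper27.Octads

/-!
The length-23 code obtained from `Cfsg.golayCode` by deleting the extra coordinate.
-/

set_option autoImplicit false

namespace Cfsg.Agent.Helper27

open Cfsg

/-- delete the extra coordinate -/
def punct (w : GolayPt → ZMod 2) : ZMod 23 → ZMod 2 := fun x => w (some x)

/-- extend by zero at the extra coordinate -/
def extZero (u : ZMod 23 → ZMod 2) : GolayPt → ZMod 2
  | none => 0
  | some x => u x

/-- the punctured code, written as in the statements -/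
def puncturedCode : Set (ZMod 23 → ZMod 2) :=
  {u : ZMod 23 → ZMod 2 | ∃ w ∈ Cfsg.golayCode, ∀ x : ZMod 23, u x = w (some x)}

theorem punct_extZero (u : ZMod 23 → ZMod 2) : punct (extZero u) = u := rfl

theorem punct_add (v w : GolayPt → ZMod 2) : punct (v + w) = punct v + punct w := rfl

theorem punct_sub (v w : GolayPt → ZMod 2) : punct (v - w) = punct v - punct w := rfl

theorem punct_zero : punct 0 = 0 := rfl

theorem mem_puncturedCode_iff (u : ZMod 23 → ZMod 2) : u ∈ puncturedCode ↔ ∃ w ∈ golayCode, punct w = u := by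
  unfold puncturedCode
  constructor
  · rintro ⟨w, hw, h⟩
    exact ⟨w, hw, by funext x; exact (h x).symm⟩
  · rintro ⟨w, hw, rfl⟩
    exact ⟨w, hw, fun _ => rfl⟩

theorem puncturedCode_eq_image : puncturedCode = punct '' (golayCode : Set (GolayPt → ZMod 2)) := by
  ext u
  rw [mem_puncturedCode_iff]
  rfl

theorem hammingNorm_eq_punct_add (w : GolayPt → ZMod 2) :
    hammingNorm w = (if w none ≠ 0 then 1 else 0) + hammingNorm (punct w) := by
  unfold hammingNorm
  rw [Finset.card_filter, Finset.card_filter, Fintype.sum_option]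
  rfl

theorem hammingNorm_punct_le (w : GolayPt → ZMod 2) : hammingNorm (punct w) ≤ hammingNorm w := by
  rw [hammingNorm_eq_punct_add w]; omega

theorem hammingNorm_le_punct_add_one (w : GolayPt → ZMod 2) : hammingNorm w ≤ hammingNorm (punct w) + 1 := by
  rw [hammingNorm_eq_punct_add w]; split_ifs <;> omega

theorem hammingNorm_punct_wordOf (m : ℕ) : hammingNorm (punct (wordOf m)) = popc 23 m := by
  unfold hammingNorm
  rw [Finset.card_filter, popc_eq_sum]
  have : ∀ x : ZMod 23, (if punct (wordOf m) x ≠ 0 then 1 else 0) = if m.testBit (x : Fin 23).val then 1 else 0 := by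
    intro x
    have hx : gIdx (some x) = (x : Fin 23).val := rfl
    simp only [punct, wordOf, hx]
    by_cases h : m.testBit (x : Fin 23).val = true
    · simp [h]
    · simp [h]
  rw [Finset.sum_congr rfl (fun x _ => this x)]
  exact Fin.sum_univ_eq_sum_range (fun i => if m.testBit i then 1 else 0) 23

theorem punct_injOn : Set.InjOn punct (golayCode : Set (GolayPt → ZMod 2)) := by
  intro v hv w hw h
  by_contra hne
  have h1 : v - w ∈ golayCode := golayCode.sub_mem hv hw
  have h2 := eight_le_weight _ h1 (sub_ne_zero.mpr hne)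
  have h3 := hammingNorm_le_punct_add_one (v - w)
  have h4 : punct (v - w) = 0 := by rw [punct_sub, h, sub_self]
  rw [h4, hammingNorm_zero] at h3
  omega

/-- counting words of the punctured code with a property computable on masks -/
theorem ncard_punct_filter (P : (ZMod 23 → ZMod 2) → Prop) (f : ℕ → Bool)
    (h : ∀ c < 4096, (P (punct (wordOf (encode c))) ↔ f (encode c) = true)) :
    {u | u ∈ puncturedCode ∧ P u}.ncard = countRange (fun c => f (encode c)) 12 0 := by
  rw [← ncard_golay_filter (fun w => P (punct w)) f h]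
  have : {u | u ∈ puncturedCode ∧ P u} = punct '' {w | w ∈ golayCode ∧ P (punct w)} := by
    ext u
    rw [Set.mem_ofPred_eq, mem_puncturedCode_iff]
    constructor
    · rintro ⟨⟨w, hw, rfl⟩, hP⟩
      exact ⟨w, ⟨hw, hP⟩, rfl⟩
    · rintro ⟨w, ⟨hw, hP⟩, rfl⟩
      exact ⟨⟨w, hw, rfl⟩, hP⟩
  rw [this, Set.InjOn.ncard_image]
  exact punct_injOn.mono (fun w hw => hw.1)

theorem seven_le_weight_punct (u : ZMod 23 → ZMod 2) (hu : u ∈ puncturedCode) (h0 : u ≠ 0) :
    7 ≤ hammingNorm u := by
  rw [mem_puncturedCode_iff] at hu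
  obtain ⟨w, hw, rfl⟩ := hu
  have hw0 : w ≠ 0 := by
    rintro rfl
    exact h0 punct_zero
  have := eight_le_weight w hw hw0
  have := hammingNorm_le_punct_add_one w
  omega

theorem puncturedCode_sub_mem {u u' : ZMod 23 → ZMod 2} (hu : u ∈ puncturedCode) (hu' : u' ∈ puncturedCode) :
    u - u' ∈ puncturedCode := by
  rw [mem_puncturedCode_iff] at hu hu' ⊢
  obtain ⟨w, hw, rfl⟩ := hu
  obtain ⟨w', hw', rfl⟩ := hu'
  exact ⟨w - w', golayCode.sub_mem hw hw', punct_sub w w'⟩

end Cfsg.Agent.Helper27
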