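import Cfsg.Agent.Helper27.Hexacode

/-!
Monomial maps preserving the hexacode: generic algebra (composition, inverses, the group of
permutation parts, transport along field isomorphisms).
-/

set_option autoImplicit false

namespace Cfsg.Agent.Helper27

open Cfsg

section generic
variable {K : Type*} [Field K]

theorem monomialMap_add {α : Type*} (σ : Equiv.Perm α) (c : α → Kˣ) (x y : α → K) :
    monomialMap σ c (x + y) = monomialMap σ c x + monomialMap σ c y := by
  funext i
  simp [monomialMap, mul_add]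

theorem monomialMap_smul {α : Type*} (σ : Equiv.Perm α) (c : α → Kˣ) (a : K) (x : α → K) :
    monomialMap σ c (a • x) = a • monomialMap σ c x := by
  funext i
  simp [monomialMap, mul_left_comm]

theorem monomialMap_comp {α : Type*} (σ τ : Equiv.Perm α) (c d : α → Kˣ) (x : α → K) :
    monomialMap σ c (monomialMap τ d x) = monomialMap (σ * τ) (fun i => c i * d (σ.symm i)) x := by
  funext i
  simp [monomialMap, mul_assoc, Equiv.Perm.mul_def]

theorem monomialMap_one_one {α : Type*} (x : α → K) :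
    monomialMap (1 : Equiv.Perm α) (fun _ => (1 : Kˣ)) x = x := by
  funext i
  have h1 : (Equiv.symm (1 : Equiv.Perm α)) i = i := rfl
  simp [monomialMap, h1]

theorem monomialMap_injective {α : Type*} (σ : Equiv.Perm α) (c : α → Kˣ) :
    Function.Injective (monomialMap (F := K) σ c) := by
  intro x y h
  funext j
  have := congrFun h (σ j)
  simpa [monomialMap] using this

/-- the monomial map `(σ, c)` preserves the hexacode -/
def HexPres (K : Type*) [Field K] (ω : K) (σ : Equiv.Perm (Fin 6)) (c : Fin 6 → Kˣ) : Prop :=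
  ∀ x ∈ hexacode K ω, monomialMap σ c x ∈ hexacode K ω

theorem hexGen_mem (ω : K) (k : Fin 3) : hexGen ω k ∈ hexacode K ω := by
  unfold hexacode
  apply Submodule.subset_span
  fin_cases k
  · left; rfl
  · right; left; rfl
  · right; right; rfl

theorem hexPres_iff_gens (ω : K) (σ : Equiv.Perm (Fin 6)) (c : Fin 6 → Kˣ) :
    HexPres K ω σ c ↔ ∀ k : Fin 3, monomialMap σ c (hexGen ω k) ∈ hexacode K ω := by
  constructor
  · intro h k
    exact h _ (hexGen_mem ω k)
  · intro h x hx
    obtain ⟨⟨a, b, d⟩, rfl⟩ := (mem_hexacode_iff ω x).1 hx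
    simp only [hexEnc, monomialMap_add, monomialMap_smul]
    exact add_mem (add_mem (Submodule.smul_mem _ _ (h 0)) (Submodule.smul_mem _ _ (h 1)))
      (Submodule.smul_mem _ _ (h 2))

theorem HexPres.smul {ω : K} {σ : Equiv.Perm (Fin 6)} {c : Fin 6 → Kˣ} (h : HexPres K ω σ c)
    (u : Kˣ) : HexPres K ω σ (fun i => u * c i) := by
  intro x hx
  have : monomialMap σ (fun i => u * c i) x = (u : K) • monomialMap σ c x := by
    funext i
    simp [monomialMap, mul_assoc]
  rw [this]
  exact Submodule.smul_mem _ _ (h x hx)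

theorem HexPres.comp {ω : K} {σ τ : Equiv.Perm (Fin 6)} {c d : Fin 6 → Kˣ}
    (h : HexPres K ω σ c) (h' : HexPres K ω τ d) :
    HexPres K ω (σ * τ) (fun i => c i * d (σ.symm i)) := by
  intro x hx
  rw [← monomialMap_comp]
  exact h _ (h' x hx)

theorem hexPres_one (ω : K) : HexPres K ω 1 (fun _ => 1) := by
  intro x hx
  rw [monomialMap_one_one]
  exact hx

theorem HexPres.surj [Finite K] {ω : K} {σ : Equiv.Perm (Fin 6)} {c : Fin 6 → Kˣ}
    (h : HexPres K ω σ c) : ∀ y ∈ hexacode K ω, ∃ x ∈ hexacode K ω, monomialMap σ c x = y := by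
  let g : hexacode K ω → hexacode K ω := fun x => ⟨monomialMap σ c x.1, h x.1 x.2⟩
  have hg : Function.Injective g := by
    intro x y hxy
    apply Subtype.ext
    apply monomialMap_injective σ c
    exact congrArg Subtype.val hxy
  have hs := Finite.surjective_of_injective hg
  intro y hy
  obtain ⟨x, hx⟩ := hs ⟨y, hy⟩
  exact ⟨x.1, x.2, congrArg Subtype.val hx⟩

theorem HexPres.inv [Finite K] {ω : K} {σ : Equiv.Perm (Fin 6)} {c : Fin 6 → Kˣ}
    (h : HexPres K ω σ c) : HexPres K ω σ⁻¹ (fun i => (c (σ i))⁻¹) := by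
  intro y hy
  obtain ⟨x, hx, rfl⟩ := h.surj y hy
  have : monomialMap σ⁻¹ (fun i => (c (σ i))⁻¹) (monomialMap σ c x) = x := by
    funext i
    have hc : ((c (σ i) : Kˣ) : K) ≠ 0 := Units.ne_zero _
    simp [monomialMap, Equiv.Perm.inv_def, hc]
  rw [this]
  exact hx

/-- two scalings for the same permutation differ by a diagonal automorphism -/
theorem HexPres.div [Finite K] {ω : K} {σ : Equiv.Perm (Fin 6)} {c c' : Fin 6 → Kˣ}
    (h : HexPres K ω σ c) (h' : HexPres K ω σ c') :
    HexPres K ω 1 (fun i => c' i * (c i)⁻¹) := by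
  intro y hy
  obtain ⟨x, hx, rfl⟩ := h.surj y hy
  have : monomialMap 1 (fun i => c' i * (c i)⁻¹) (monomialMap σ c x) = monomialMap σ c' x := by
    funext i
    have hc : ((c i : Kˣ) : K) ≠ 0 := Units.ne_zero _
    have h1 : (Equiv.symm (1 : Equiv.Perm (Fin 6))) i = i := rfl
    simp [monomialMap, mul_assoc, h1, hc]
  rw [this]
  exact h' x hx

/-- the permutation parts of the monomial automorphisms of the hexacode -/
def hexPerm (K : Type*) [Field K] [Finite K] (ω : K) : Subgroup (Equiv.Perm (Fin 6)) where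
  carrier := {σ | ∃ c, HexPres K ω σ c}
  mul_mem' := by
    rintro σ τ ⟨c, hc⟩ ⟨d, hd⟩
    exact ⟨_, hc.comp hd⟩
  one_mem' := ⟨_, hexPres_one ω⟩
  inv_mem' := by
    rintro σ ⟨c, hc⟩
    exact ⟨_, hc.inv⟩

theorem mem_hexPerm [Finite K] (ω : K) (σ : Equiv.Perm (Fin 6)) :
    σ ∈ hexPerm K ω ↔ ∃ c, HexPres K ω σ c := Iff.rfl

end generic

section transport
variable {K F : Type*} [Field K] [Field F]

theorem monomialMap_map (ψ : K ≃+* F) (σ : Equiv.Perm (Fin 6)) (c : Fin 6 → Kˣ) (y : Fin 6 → K) :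
    monomialMap σ (fun i => Units.map (ψ : K →* F) (c i)) (fun i => ψ (y i)) =
      fun i => ψ (monomialMap σ c y i) := by
  funext i
  simp [monomialMap]

theorem hexPres_map (ψ : K ≃+* F) (ω : K) (σ : Equiv.Perm (Fin 6)) (c : Fin 6 → Kˣ) :
    HexPres F (ψ ω) σ (fun i => Units.map (ψ : K →* F) (c i)) ↔ HexPres K ω σ c := by
  have himg := hexacode_eq_image ψ ω
  have hmem : ∀ x : Fin 6 → F, x ∈ hexacode F (ψ ω) ↔
      ∃ y ∈ hexacode K ω, (fun i => ψ (y i)) = x := by
    intro x
    have : x ∈ (hexacode F (ψ ω) : Set (Fin 6 → F)) ↔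
        x ∈ (fun (x : Fin 6 → K) i => ψ (x i)) '' (hexacode K ω : Set (Fin 6 → K)) := by
      rw [himg]
    simpa using this
  constructor
  · intro h y hy
    have h1 : (fun i => ψ (y i)) ∈ hexacode F (ψ ω) := (hmem _).2 ⟨y, hy, rfl⟩
    have h2 := h _ h1
    rw [monomialMap_map] at h2
    obtain ⟨y', hy', he⟩ := (hmem _).1 h2
    have : y' = monomialMap σ c y := map_injective ψ he
    rw [← this]
    exact hy'
  · intro h x hx
    obtain ⟨y, hy, rfl⟩ := (hmem _).1 hx
    rw [monomialMap_map]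
    exact (hmem _).2 ⟨_, h y hy, rfl⟩

end transport

/-- reduction of preservation statements over a field of order 4 to the concrete model -/
theorem hexPres_transfer {F : Type*} [Field F] [Fintype F] (hF : Fintype.card F = 4) (ω : F)
    (hω : ω ^ 2 + ω + 1 = 0) :
    ∃ ω' : GF4, ω' ^ 2 + ω' + 1 = 0 ∧ ∀ (σ : Equiv.Perm (Fin 6)) (c : Fin 6 → GF4ˣ),
      HexPres F ω σ (fun i => Units.map (gf4Equiv F hF : GF4 →* F) (c i)) ↔ HexPres GF4 ω' σ c := by
  set ψ := gf4Equiv F hF with hψ
  obtain ⟨ω', rfl⟩ : ∃ ω', ψ ω' = ω := ψ.surjective ω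
  have hω' : ω' ^ 2 + ω' + 1 = 0 := by
    apply ψ.injective
    rw [map_add, map_add, map_pow, map_one, map_zero]
    exact hω
  exact ⟨ω', hω', fun σ c => hexPres_map ψ ω' σ c⟩

/-- every scaling over `F` comes from one over `GF4` -/
theorem exists_units_preimage {F : Type*} [Field F] [Fintype F] (hF : Fintype.card F = 4)
    (c : Fin 6 → Fˣ) :
    ∃ c' : Fin 6 → GF4ˣ, c = fun i => Units.map (gf4Equiv F hF : GF4 →* F) (c' i) := by
  refine ⟨fun i => Units.map ((gf4Equiv F hF).symm : F →* GF4) (c i), ?_⟩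
  funext i
  apply Units.ext
  simp

end Cfsg.Agent.Helper27
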