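import Cfsg.Agent.Helper27.HexMono

/-!
Monomial automorphisms of the hexacode over the concrete field `GF4`: kernel computations.
-/

set_option autoImplicit false

namespace Cfsg.Agent.Helper27

open Cfsg
open GF4

/-- Hermitian parity check of `y` against generator `k` (the hexacode is Hermitian self-dual) -/
def hexPar (ω : GF4) (k : Fin 3) (y : Fin 6 → GF4) : GF4 :=
  y 0 * hexGen (ω * ω) k 0 + y 1 * hexGen (ω * ω) k 1 + y 2 * hexGen (ω * ω) k 2 +
    y 3 * hexGen (ω * ω) k 3 + y 4 * hexGen (ω * ω) k 4 + y 5 * hexGen (ω * ω) k 5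

theorem hexPar_enc_w : ∀ (t : G3) (k : Fin 3), hexPar w k (hexEnc w t) = 0 := by decide +kernel
theorem hexPar_enc_w2 : ∀ (t : G3) (k : Fin 3), hexPar w2 k (hexEnc w2 t) = 0 := by decide +kernel

theorem mem_of_hexPar_w : ∀ a b c d e f : GF4, (∀ k : Fin 3, hexPar w k ![a, b, c, d, e, f] = 0) →
    ∃ t : G3, hexEnc w t = ![a, b, c, d, e, f] := by decide +kernel
theorem mem_of_hexPar_w2 : ∀ a b c d e f : GF4, (∀ k : Fin 3, hexPar w2 k ![a, b, c, d, e, f] = 0) →
    ∃ t : G3, hexEnc w2 t = ![a, b, c, d, e, f] := by decide +kernel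

theorem eq_vec6 {β : Type*} (y : Fin 6 → β) : y = ![y 0, y 1, y 2, y 3, y 4, y 5] := by
  funext i
  fin_cases i <;> rfl

theorem mem_hexacode_iff_par {ω : GF4} (hω : ω ^ 2 + ω + 1 = 0) (y : Fin 6 → GF4) :
    y ∈ hexacode GF4 ω ↔ ∀ k : Fin 3, hexPar ω k y = 0 := by
  rw [mem_hexacode_iff]
  rcases GF4.root_cases ω hω with rfl | rfl
  · constructor
    · rintro ⟨t, rfl⟩ k
      exact hexPar_enc_w t k
    · intro h
      rw [eq_vec6 y] at h ⊢
      exact mem_of_hexPar_w _ _ _ _ _ _ h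
  · constructor
    · rintro ⟨t, rfl⟩ k
      exact hexPar_enc_w2 t k
    · intro h
      rw [eq_vec6 y] at h ⊢
      exact mem_of_hexPar_w2 _ _ _ _ _ _ h

/-- the decidable form of preservation: scaling vector `a`, inverse permutation table `τ` -/
def monoChk (ω : GF4) (a : Fin 6 → GF4) (τ : Fin 6 → Fin 6) : Prop :=
  ∀ k j : Fin 3, hexPar ω j (fun i => a i * hexGen ω k (τ i)) = 0

instance (ω : GF4) (a : Fin 6 → GF4) (τ : Fin 6 → Fin 6) : Decidable (monoChk ω a τ) := by
  unfold monoChk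
  infer_instance

theorem hexPres_iff_monoChk {ω : GF4} (hω : ω ^ 2 + ω + 1 = 0) (σ : Equiv.Perm (Fin 6))
    (c : Fin 6 → GF4ˣ) :
    HexPres GF4 ω σ c ↔ monoChk ω (fun i => (c i : GF4)) (fun i => σ.symm i) := by
  rw [hexPres_iff_gens]
  unfold monoChk
  constructor
  · intro h k
    exact (mem_hexacode_iff_par hω _).1 (h k)
  · intro h k
    exact (mem_hexacode_iff_par hω _).2 (h k)

/-! ### diagonal automorphisms are scalar -/

theorem diag_w : ∀ a b c d e f : GF4, a ≠ 0 → b ≠ 0 → c ≠ 0 → d ≠ 0 → e ≠ 0 → f ≠ 0 →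
    monoChk w ![a, b, c, d, e, f] id → a = b ∧ a = c ∧ a = d ∧ a = e ∧ a = f := by decide +kernel
theorem diag_w2 : ∀ a b c d e f : GF4, a ≠ 0 → b ≠ 0 → c ≠ 0 → d ≠ 0 → e ≠ 0 → f ≠ 0 →
    monoChk w2 ![a, b, c, d, e, f] id → a = b ∧ a = c ∧ a = d ∧ a = e ∧ a = f := by decide +kernel

/-! ### no automorphism has permutation part a transposition -/

theorem transp_w : ∀ a b c d e f : GF4, a ≠ 0 → b ≠ 0 → c ≠ 0 → d ≠ 0 → e ≠ 0 → f ≠ 0 →
    ¬ monoChk w ![a, b, c, d, e, f] ![1, 0, 2, 3, 4, 5] := by decide +kernel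
theorem transp_w2 : ∀ a b c d e f : GF4, a ≠ 0 → b ≠ 0 → c ≠ 0 → d ≠ 0 → e ≠ 0 → f ≠ 0 →
    ¬ monoChk w2 ![a, b, c, d, e, f] ![1, 0, 2, 3, 4, 5] := by decide +kernel

/-! ### witnesses for the 3-cycles -/

/-- scalings for the 3-cycles `swap a b * swap b c`, for `ω = w` -/
def witW : Fin 6 → Fin 6 → Fin 6 → Fin 6 → GF4 :=
![
  ![
    ![![o, o, o, o, o, o],
      ![o, o, o, o, o, o],
      ![o, o, o, o, o, o],
      ![o, o, o, o, o, o],
      ![o, o, o, o, o, o],
      ![o, o, o, o, o, o]],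
    ![![o, o, o, o, o, o],
      ![o, o, o, o, o, o],
      ![o, o, o, o, w2, w],
      ![o, o, o, o, w, w2],
      ![o, o, w2, w, o, o],
      ![o, o, w, w2, o, o]],
    ![![o, o, o, o, o, o],
      ![o, o, o, o, w, w2],
      ![o, o, o, o, o, o],
      ![o, o, o, o, w2, w],
      ![o, w2, w, o, w2, w],
      ![o, w, w2, o, w2, w]],
    ![![o, o, o, o, o, o],
      ![o, o, o, o, w2, w],
      ![o, o, o, o, w, w2],
      ![o, o, o, o, o, o],
      ![o, w, o, w2, w, w2],
      ![o, w2, o, w, w, w2]],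
    ![![o, o, o, o, o, o],
      ![o, o, w, w2, o, o],
      ![o, w2, w2, w, w, o],
      ![o, w, w2, w, w2, o],
      ![o, o, o, o, o, o],
      ![o, o, w2, w, o, o]],
    ![![o, o, o, o, o, o],
      ![o, o, w2, w, o, o],
      ![o, w, w, w2, o, w2],
      ![o, w2, w, w2, o, w],
      ![o, o, w, w2, o, o],
      ![o, o, o, o, o, o]]],
  ![
    ![![o, o, o, o, o, o],
      ![o, o, o, o, o, o],
      ![o, o, o, o, w, w2],
      ![o, o, o, o, w2, w],
      ![o, o, w, w2, o, o],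
      ![o, o, w2, w, o, o]],
    ![![o, o, o, o, o, o],
      ![o, o, o, o, o, o],
      ![o, o, o, o, o, o],
      ![o, o, o, o, o, o],
      ![o, o, o, o, o, o],
      ![o, o, o, o, o, o]],
    ![![o, o, o, o, w2, w],
      ![o, o, o, o, o, o],
      ![o, o, o, o, o, o],
      ![o, o, o, o, w, w2],
      ![o, w2, w, w2, o, w],
      ![o, w, w2, w, w2, o]],
    ![![o, o, o, o, w, w2],
      ![o, o, o, o, o, o],
      ![o, o, o, o, w2, w],
      ![o, o, o, o, o, o],
      ![o, w, w, w2, o, w2],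
      ![o, w2, w2, w, w, o]],
    ![![o, o, w2, w, o, o],
      ![o, o, o, o, o, o],
      ![o, w2, o, w, w, w2],
      ![o, w, w2, o, w2, w],
      ![o, o, o, o, o, o],
      ![o, o, w, w2, o, o]],
    ![![o, o, w, w2, o, o],
      ![o, o, o, o, o, o],
      ![o, w, o, w2, w, w2],
      ![o, w2, w, o, w2, w],
      ![o, o, w2, w, o, o],
      ![o, o, o, o, o, o]]],
  ![
    ![![o, o, o, o, o, o],
      ![o, o, o, o, w2, w],
      ![o, o, o, o, o, o],
      ![o, o, o, o, w, w2],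
      ![o, w2, w2, w, w, o],
      ![o, w, w, w2, o, w2]],
    ![![o, o, o, o, w, w2],
      ![o, o, o, o, o, o],
      ![o, o, o, o, o, o],
      ![o, o, o, o, w2, w],
      ![o, w2, o, w, w, w2],
      ![o, w, o, w2, w, w2]],
    ![![o, o, o, o, o, o],
      ![o, o, o, o, o, o],
      ![o, o, o, o, o, o],
      ![o, o, o, o, o, o],
      ![o, o, o, o, o, o],
      ![o, o, o, o, o, o]],
    ![![o, o, o, o, w2, w],
      ![o, o, o, o, w, w2],
      ![o, o, o, o, o, o],
      ![o, o, o, o, o, o],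
      ![o, w2, w, w, w, w],
      ![o, w, w2, w2, w2, w2]],
    ![![o, w2, w, o, w2, w],
      ![o, w2, w, w2, o, w],
      ![o, o, o, o, o, o],
      ![o, w, w2, w2, w2, w2],
      ![o, o, o, o, o, o],
      ![o, w2, w, w, w, w]],
    ![![o, w, w2, o, w2, w],
      ![o, w, w2, w, w2, o],
      ![o, o, o, o, o, o],
      ![o, w2, w, w, w, w],
      ![o, w, w2, w2, w2, w2],
      ![o, o, o, o, o, o]]],
  ![
    ![![o, o, o, o, o, o],
      ![o, o, o, o, w, w2],
      ![o, o, o, o, w2, w],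
      ![o, o, o, o, o, o],
      ![o, w, w2, w, w2, o],
      ![o, w2, w, w2, o, w]],
    ![![o, o, o, o, w2, w],
      ![o, o, o, o, o, o],
      ![o, o, o, o, w, w2],
      ![o, o, o, o, o, o],
      ![o, w, w2, o, w2, w],
      ![o, w2, w, o, w2, w]],
    ![![o, o, o, o, w, w2],
      ![o, o, o, o, w2, w],
      ![o, o, o, o, o, o],
      ![o, o, o, o, o, o],
      ![o, w, w2, w2, w2, w2],
      ![o, w2, w, w, w, w]],
    ![![o, o, o, o, o, o],
      ![o, o, o, o, o, o],
      ![o, o, o, o, o, o],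
      ![o, o, o, o, o, o],
      ![o, o, o, o, o, o],
      ![o, o, o, o, o, o]],
    ![![o, w, o, w2, w, w2],
      ![o, w, w, w2, o, w2],
      ![o, w2, w, w, w, w],
      ![o, o, o, o, o, o],
      ![o, o, o, o, o, o],
      ![o, w, w2, w2, w2, w2]],
    ![![o, w2, o, w, w, w2],
      ![o, w2, w2, w, w, o],
      ![o, w, w2, w2, w2, w2],
      ![o, o, o, o, o, o],
      ![o, w2, w, w, w, w],
      ![o, o, o, o, o, o]]],
  ![
    ![![o, o, o, o, o, o],
      ![o, o, w2, w, o, o],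
      ![o, w2, w, o, w2, w],
      ![o, w, o, w2, w, w2],
      ![o, o, o, o, o, o],
      ![o, o, w, w2, o, o]],
    ![![o, o, w, w2, o, o],
      ![o, o, o, o, o, o],
      ![o, w2, w, w2, o, w],
      ![o, w, w, w2, o, w2],
      ![o, o, o, o, o, o],
      ![o, o, w2, w, o, o]],
    ![![o, w2, w2, w, w, o],
      ![o, w2, o, w, w, w2],
      ![o, o, o, o, o, o],
      ![o, w2, w, w, w, w],
      ![o, o, o, o, o, o],
      ![o, w, w2, w2, w2, w2]],
    ![![o, w, w2, w, w2, o],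
      ![o, w, w2, o, w2, w],
      ![o, w, w2, w2, w2, w2],
      ![o, o, o, o, o, o],
      ![o, o, o, o, o, o],
      ![o, w2, w, w, w, w]],
    ![![o, o, o, o, o, o],
      ![o, o, o, o, o, o],
      ![o, o, o, o, o, o],
      ![o, o, o, o, o, o],
      ![o, o, o, o, o, o],
      ![o, o, o, o, o, o]],
    ![![o, o, w2, w, o, o],
      ![o, o, w, w2, o, o],
      ![o, w2, w, w, w, w],
      ![o, w, w2, w2, w2, w2],
      ![o, o, o, o, o, o],
      ![o, o, o, o, o, o]]],
  ![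
    ![![o, o, o, o, o, o],
      ![o, o, w, w2, o, o],
      ![o, w, w2, o, w2, w],
      ![o, w2, o, w, w, w2],
      ![o, o, w2, w, o, o],
      ![o, o, o, o, o, o]],
    ![![o, o, w2, w, o, o],
      ![o, o, o, o, o, o],
      ![o, w, w2, w, w2, o],
      ![o, w2, w2, w, w, o],
      ![o, o, w, w2, o, o],
      ![o, o, o, o, o, o]],
    ![![o, w, w, w2, o, w2],
      ![o, w, o, w2, w, w2],
      ![o, o, o, o, o, o],
      ![o, w, w2, w2, w2, w2],
      ![o, w2, w, w, w, w],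
      ![o, o, o, o, o, o]],
    ![![o, w2, w, w2, o, w],
      ![o, w2, w, o, w2, w],
      ![o, w2, w, w, w, w],
      ![o, o, o, o, o, o],
      ![o, w, w2, w2, w2, w2],
      ![o, o, o, o, o, o]],
    ![![o, o, w, w2, o, o],
      ![o, o, w2, w, o, o],
      ![o, w, w2, w2, w2, w2],
      ![o, w2, w, w, w, w],
      ![o, o, o, o, o, o],
      ![o, o, o, o, o, o]],
    ![![o, o, o, o, o, o],
      ![o, o, o, o, o, o],
      ![o, o, o, o, o, o],
      ![o, o, o, o, o, o],
      ![o, o, o, o, o, o],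
      ![o, o, o, o, o, o]]]]

/-- scalings for the 3-cycles `swap a b * swap b c`, for `ω = w2` -/
def witW2 : Fin 6 → Fin 6 → Fin 6 → Fin 6 → GF4 :=
![
  ![
    ![![o, o, o, o, o, o],
      ![o, o, o, o, o, o],
      ![o, o, o, o, o, o],
      ![o, o, o, o, o, o],
      ![o, o, o, o, o, o],
      ![o, o, o, o, o, o]],
    ![![o, o, o, o, o, o],
      ![o, o, o, o, o, o],
      ![o, o, o, o, w, w2],
      ![o, o, o, o, w2, w],
      ![o, o, w, w2, o, o],
      ![o, o, w2, w, o, o]],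
    ![![o, o, o, o, o, o],
      ![o, o, o, o, w2, w],
      ![o, o, o, o, o, o],
      ![o, o, o, o, w, w2],
      ![o, w, w2, o, w, w2],
      ![o, w2, w, o, w, w2]],
    ![![o, o, o, o, o, o],
      ![o, o, o, o, w, w2],
      ![o, o, o, o, w2, w],
      ![o, o, o, o, o, o],
      ![o, w2, o, w, w2, w],
      ![o, w, o, w2, w2, w]],
    ![![o, o, o, o, o, o],
      ![o, o, w2, w, o, o],
      ![o, w, w, w2, w2, o],
      ![o, w2, w, w2, w, o],
      ![o, o, o, o, o, o],
      ![o, o, w, w2, o, o]],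
    ![![o, o, o, o, o, o],
      ![o, o, w, w2, o, o],
      ![o, w2, w2, w, o, w],
      ![o, w, w2, w, o, w2],
      ![o, o, w2, w, o, o],
      ![o, o, o, o, o, o]]],
  ![
    ![![o, o, o, o, o, o],
      ![o, o, o, o, o, o],
      ![o, o, o, o, w2, w],
      ![o, o, o, o, w, w2],
      ![o, o, w2, w, o, o],
      ![o, o, w, w2, o, o]],
    ![![o, o, o, o, o, o],
      ![o, o, o, o, o, o],
      ![o, o, o, o, o, o],
      ![o, o, o, o, o, o],
      ![o, o, o, o, o, o],
      ![o, o, o, o, o, o]],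
    ![![o, o, o, o, w, w2],
      ![o, o, o, o, o, o],
      ![o, o, o, o, o, o],
      ![o, o, o, o, w2, w],
      ![o, w, w2, w, o, w2],
      ![o, w2, w, w2, w, o]],
    ![![o, o, o, o, w2, w],
      ![o, o, o, o, o, o],
      ![o, o, o, o, w, w2],
      ![o, o, o, o, o, o],
      ![o, w2, w2, w, o, w],
      ![o, w, w, w2, w2, o]],
    ![![o, o, w, w2, o, o],
      ![o, o, o, o, o, o],
      ![o, w, o, w2, w2, w],
      ![o, w2, w, o, w, w2],
      ![o, o, o, o, o, o],
      ![o, o, w2, w, o, o]],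
    ![![o, o, w2, w, o, o],
      ![o, o, o, o, o, o],
      ![o, w2, o, w, w2, w],
      ![o, w, w2, o, w, w2],
      ![o, o, w, w2, o, o],
      ![o, o, o, o, o, o]]],
  ![
    ![![o, o, o, o, o, o],
      ![o, o, o, o, w, w2],
      ![o, o, o, o, o, o],
      ![o, o, o, o, w2, w],
      ![o, w, w, w2, w2, o],
      ![o, w2, w2, w, o, w]],
    ![![o, o, o, o, w2, w],
      ![o, o, o, o, o, o],
      ![o, o, o, o, o, o],
      ![o, o, o, o, w, w2],
      ![o, w, o, w2, w2, w],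
      ![o, w2, o, w, w2, w]],
    ![![o, o, o, o, o, o],
      ![o, o, o, o, o, o],
      ![o, o, o, o, o, o],
      ![o, o, o, o, o, o],
      ![o, o, o, o, o, o],
      ![o, o, o, o, o, o]],
    ![![o, o, o, o, w, w2],
      ![o, o, o, o, w2, w],
      ![o, o, o, o, o, o],
      ![o, o, o, o, o, o],
      ![o, w, w2, w2, w2, w2],
      ![o, w2, w, w, w, w]],
    ![![o, w, w2, o, w, w2],
      ![o, w, w2, w, o, w2],
      ![o, o, o, o, o, o],
      ![o, w2, w, w, w, w],
      ![o, o, o, o, o, o],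
      ![o, w, w2, w2, w2, w2]],
    ![![o, w2, w, o, w, w2],
      ![o, w2, w, w2, w, o],
      ![o, o, o, o, o, o],
      ![o, w, w2, w2, w2, w2],
      ![o, w2, w, w, w, w],
      ![o, o, o, o, o, o]]],
  ![
    ![![o, o, o, o, o, o],
      ![o, o, o, o, w2, w],
      ![o, o, o, o, w, w2],
      ![o, o, o, o, o, o],
      ![o, w2, w, w2, w, o],
      ![o, w, w2, w, o, w2]],
    ![![o, o, o, o, w, w2],
      ![o, o, o, o, o, o],
      ![o, o, o, o, w2, w],
      ![o, o, o, o, o, o],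
      ![o, w2, w, o, w, w2],
      ![o, w, w2, o, w, w2]],
    ![![o, o, o, o, w2, w],
      ![o, o, o, o, w, w2],
      ![o, o, o, o, o, o],
      ![o, o, o, o, o, o],
      ![o, w2, w, w, w, w],
      ![o, w, w2, w2, w2, w2]],
    ![![o, o, o, o, o, o],
      ![o, o, o, o, o, o],
      ![o, o, o, o, o, o],
      ![o, o, o, o, o, o],
      ![o, o, o, o, o, o],
      ![o, o, o, o, o, o]],
    ![![o, w2, o, w, w2, w],
      ![o, w2, w2, w, o, w],
      ![o, w, w2, w2, w2, w2],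
      ![o, o, o, o, o, o],
      ![o, o, o, o, o, o],
      ![o, w2, w, w, w, w]],
    ![![o, w, o, w2, w2, w],
      ![o, w, w, w2, w2, o],
      ![o, w2, w, w, w, w],
      ![o, o, o, o, o, o],
      ![o, w, w2, w2, w2, w2],
      ![o, o, o, o, o, o]]],
  ![
    ![![o, o, o, o, o, o],
      ![o, o, w, w2, o, o],
      ![o, w, w2, o, w, w2],
      ![o, w2, o, w, w2, w],
      ![o, o, o, o, o, o],
      ![o, o, w2, w, o, o]],
    ![![o, o, w2, w, o, o],
      ![o, o, o, o, o, o],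
      ![o, w, w2, w, o, w2],
      ![o, w2, w2, w, o, w],
      ![o, o, o, o, o, o],
      ![o, o, w, w2, o, o]],
    ![![o, w, w, w2, w2, o],
      ![o, w, o, w2, w2, w],
      ![o, o, o, o, o, o],
      ![o, w, w2, w2, w2, w2],
      ![o, o, o, o, o, o],
      ![o, w2, w, w, w, w]],
    ![![o, w2, w, w2, w, o],
      ![o, w2, w, o, w, w2],
      ![o, w2, w, w, w, w],
      ![o, o, o, o, o, o],
      ![o, o, o, o, o, o],
      ![o, w, w2, w2, w2, w2]],
    ![![o, o, o, o, o, o],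
      ![o, o, o, o, o, o],
      ![o, o, o, o, o, o],
      ![o, o, o, o, o, o],
      ![o, o, o, o, o, o],
      ![o, o, o, o, o, o]],
    ![![o, o, w, w2, o, o],
      ![o, o, w2, w, o, o],
      ![o, w, w2, w2, w2, w2],
      ![o, w2, w, w, w, w],
      ![o, o, o, o, o, o],
      ![o, o, o, o, o, o]]],
  ![
    ![![o, o, o, o, o, o],
      ![o, o, w2, w, o, o],
      ![o, w2, w, o, w, w2],
      ![o, w, o, w2, w2, w],
      ![o, o, w, w2, o, o],
      ![o, o, o, o, o, o]],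
    ![![o, o, w, w2, o, o],
      ![o, o, o, o, o, o],
      ![o, w2, w, w2, w, o],
      ![o, w, w, w2, w2, o],
      ![o, o, w2, w, o, o],
      ![o, o, o, o, o, o]],
    ![![o, w2, w2, w, o, w],
      ![o, w2, o, w, w2, w],
      ![o, o, o, o, o, o],
      ![o, w2, w, w, w, w],
      ![o, w, w2, w2, w2, w2],
      ![o, o, o, o, o, o]],
    ![![o, w, w2, w, o, w2],
      ![o, w, w2, o, w, w2],
      ![o, w, w2, w2, w2, w2],
      ![o, o, o, o, o, o],
      ![o, w2, w, w, w, w],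
      ![o, o, o, o, o, o]],
    ![![o, o, w2, w, o, o],
      ![o, o, w, w2, o, o],
      ![o, w2, w, w, w, w],
      ![o, w, w2, w2, w2, w2],
      ![o, o, o, o, o, o],
      ![o, o, o, o, o, o]],
    ![![o, o, o, o, o, o],
      ![o, o, o, o, o, o],
      ![o, o, o, o, o, o],
      ![o, o, o, o, o, o],
      ![o, o, o, o, o, o],
      ![o, o, o, o, o, o]]]]

theorem wit_w : ∀ a b c : Fin 6, a ≠ b → b ≠ c → a ≠ c → (∀ i, witW a b c i ≠ 0) ∧
    monoChk w (witW a b c) (fun i => (Equiv.swap a b * Equiv.swap b c).symm i) := by decide +kernel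
theorem wit_w2 : ∀ a b c : Fin 6, a ≠ b → b ≠ c → a ≠ c → (∀ i, witW2 a b c i ≠ 0) ∧
    monoChk w2 (witW2 a b c) (fun i => (Equiv.swap a b * Equiv.swap b c).symm i) := by decide +kernel

/-! ### the three facts over `GF4`, in terms of units -/

theorem diag_gf4 {ω : GF4} (hω : ω ^ 2 + ω + 1 = 0) (c : Fin 6 → GF4ˣ) (h : HexPres GF4 ω 1 c) :
    ∀ i j, c i = c j := by
  rw [hexPres_iff_monoChk hω] at h
  have hτ : (fun i => (1 : Equiv.Perm (Fin 6)).symm i) = id := rfl
  rw [hτ, eq_vec6 (fun i => (c i : GF4))] at h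
  have key : (c 0 : GF4) = c 1 ∧ (c 0 : GF4) = c 2 ∧ (c 0 : GF4) = c 3 ∧ (c 0 : GF4) = c 4 ∧
      (c 0 : GF4) = c 5 := by
    rcases GF4.root_cases ω hω with rfl | rfl
    · exact diag_w _ _ _ _ _ _ (Units.ne_zero _) (Units.ne_zero _) (Units.ne_zero _)
        (Units.ne_zero _) (Units.ne_zero _) (Units.ne_zero _) h
    · exact diag_w2 _ _ _ _ _ _ (Units.ne_zero _) (Units.ne_zero _) (Units.ne_zero _)
        (Units.ne_zero _) (Units.ne_zero _) (Units.ne_zero _) h
  obtain ⟨h1, h2, h3, h4, h5⟩ := key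
  have h0 : ∀ i, c i = c 0 := by
    intro i
    apply Units.ext
    fin_cases i
    · rfl
    · exact h1.symm
    · exact h2.symm
    · exact h3.symm
    · exact h4.symm
    · exact h5.symm
  intro i j
  rw [h0 i, h0 j]

theorem transp_gf4 {ω : GF4} (hω : ω ^ 2 + ω + 1 = 0) (c : Fin 6 → GF4ˣ) :
    ¬ HexPres GF4 ω (Equiv.swap 0 1) c := by
  intro h
  rw [hexPres_iff_monoChk hω] at h
  have hτ : (fun i => (Equiv.swap (0 : Fin 6) 1).symm i) = ![1, 0, 2, 3, 4, 5] := by
    funext i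
    fin_cases i <;> rfl
  rw [hτ, eq_vec6 (fun i => (c i : GF4))] at h
  rcases GF4.root_cases ω hω with rfl | rfl
  · exact transp_w _ _ _ _ _ _ (Units.ne_zero _) (Units.ne_zero _) (Units.ne_zero _)
      (Units.ne_zero _) (Units.ne_zero _) (Units.ne_zero _) h
  · exact transp_w2 _ _ _ _ _ _ (Units.ne_zero _) (Units.ne_zero _) (Units.ne_zero _)
      (Units.ne_zero _) (Units.ne_zero _) (Units.ne_zero _) h

theorem threeCycle_gf4 {ω : GF4} (hω : ω ^ 2 + ω + 1 = 0) (a b c : Fin 6) (hab : a ≠ b)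
    (hbc : b ≠ c) (hac : a ≠ c) :
    ∃ d : Fin 6 → GF4ˣ, HexPres GF4 ω (Equiv.swap a b * Equiv.swap b c) d := by
  rcases GF4.root_cases ω hω with rfl | rfl
  · obtain ⟨h0, h1⟩ := wit_w a b c hab hbc hac
    refine ⟨fun i => Units.mk0 (witW a b c i) (h0 i), ?_⟩
    rw [hexPres_iff_monoChk hω]
    exact h1
  · obtain ⟨h0, h1⟩ := wit_w2 a b c hab hbc hac
    refine ⟨fun i => Units.mk0 (witW2 a b c i) (h0 i), ?_⟩
    rw [hexPres_iff_monoChk hω]
    exact h1

/-! ### the three facts over any field of order 4 -/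

section anyfield
variable {F : Type*} [Field F] [Fintype F] (hF : Fintype.card F = 4) (ω : F)
  (hω : ω ^ 2 + ω + 1 = 0)
include hF hω

theorem hexPres_diag (c : Fin 6 → Fˣ) (h : HexPres F ω 1 c) : ∀ i j, c i = c j := by
  obtain ⟨ω', hω', ht⟩ := hexPres_transfer hF ω hω
  obtain ⟨c', rfl⟩ := exists_units_preimage hF c
  have := diag_gf4 hω' c' ((ht 1 c').1 h)
  intro i j
  show Units.map _ (c' i) = Units.map _ (c' j)
  rw [this i j]

theorem hexPres_transp (c : Fin 6 → Fˣ) : ¬ HexPres F ω (Equiv.swap 0 1) c := by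
  obtain ⟨ω', hω', ht⟩ := hexPres_transfer hF ω hω
  obtain ⟨c', rfl⟩ := exists_units_preimage hF c
  intro h
  exact transp_gf4 hω' c' ((ht _ c').1 h)

theorem hexPres_threeCycle (a b c : Fin 6) (hab : a ≠ b) (hbc : b ≠ c) (hac : a ≠ c) :
    ∃ d : Fin 6 → Fˣ, HexPres F ω (Equiv.swap a b * Equiv.swap b c) d := by
  obtain ⟨ω', hω', ht⟩ := hexPres_transfer hF ω hω
  obtain ⟨d', hd'⟩ := threeCycle_gf4 hω' a b c hab hbc hac
  exact ⟨_, (ht _ d').2 hd'⟩

/-- the permutation parts form the alternating group -/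
theorem hexPerm_eq_alternatingGroup : hexPerm F ω = alternatingGroup (Fin 6) := by
  have h1 : alternatingGroup (Fin 6) ≤ hexPerm F ω := by
    rw [← Equiv.Perm.closure_three_cycles_eq_alternating, Subgroup.closure_le]
    intro σ hσ
    have hσ3 : σ.IsThreeCycle := hσ
    obtain ⟨a, ha⟩ : σ.support.Nonempty := by
      rw [← Finset.card_pos, hσ3.card_support]
      norm_num
    have heq := hσ3.eq_swap_mul_swap_iff_mem_support.2 ha
    have hnd := hσ3.nodup_iff_mem_support.2 ha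
    have hab : a ≠ σ a := by
      intro h
      simp [← h] at hnd
    have hbc : σ a ≠ σ (σ a) := by
      intro h
      simp [← h] at hnd
    have hac : a ≠ σ (σ a) := by
      intro h
      simp [← h] at hnd
    show σ ∈ hexPerm F ω
    rw [heq]
    exact hexPres_threeCycle hF ω hω _ _ _ hab hbc hac
  have h2 : hexPerm F ω ≠ ⊤ := by
    intro h
    have : Equiv.swap (0 : Fin 6) 1 ∈ hexPerm F ω := by
      rw [h]
      exact Subgroup.mem_top _
    obtain ⟨c, hc⟩ := this
    exact hexPres_transp hF ω hω c hc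
  have hidx : (hexPerm F ω).index = 2 := by
    have hdvd : (hexPerm F ω).index ∣ 2 := by
      have := Subgroup.index_dvd_of_le h1
      rwa [alternatingGroup.index_eq_two] at this
    have hne : (hexPerm F ω).index ≠ 1 := by
      intro h
      exact h2 (Subgroup.index_eq_one.1 h)
    rcases (Nat.dvd_prime Nat.prime_two).1 hdvd with h | h
    · exact absurd h hne
    · exact h
  exact Equiv.Perm.eq_alternatingGroup_of_index_eq_two hidx

/-- the monomial automorphism group has order `1080` -/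
theorem card_hexPres :
    Nat.card {f : Equiv.Perm (Fin 6) × (Fin 6 → Fˣ) // HexPres F ω f.1 f.2} = 1080 := by
  classical
  have hsp : ∀ σ : hexPerm F ω, ∃ c, HexPres F ω σ.1 c := fun σ => σ.2
  choose cs hcs using hsp
  let Φ : hexPerm F ω × Fˣ → {f : Equiv.Perm (Fin 6) × (Fin 6 → Fˣ) // HexPres F ω f.1 f.2} :=
    fun p => ⟨(p.1.1, fun i => p.2 * cs p.1 i), (hcs p.1).smul p.2⟩
  have hinj : Function.Injective Φ := by
    rintro ⟨σ, u⟩ ⟨τ, v⟩ h
    have h1 : σ.1 = τ.1 := congrArg (fun f => f.1.1) h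
    have hστ : σ = τ := Subtype.ext h1
    subst hστ
    have h2 : (fun i => u * cs σ i) = fun i => v * cs σ i := congrArg (fun f => f.1.2) h
    have h3 := congrFun h2 0
    have : u = v := mul_right_cancel h3
    rw [this]
  have hsurj : Function.Surjective Φ := by
    rintro ⟨⟨σ, c⟩, hc⟩
    have hσ : σ ∈ hexPerm F ω := ⟨c, hc⟩
    have hdiv := (hcs ⟨σ, hσ⟩).div hc
    have hconst := hexPres_diag hF ω hω _ hdiv
    refine ⟨(⟨σ, hσ⟩, c 0 * (cs ⟨σ, hσ⟩ 0)⁻¹), ?_⟩
    apply Subtype.ext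
    apply Prod.ext
    · rfl
    · funext i
      have := hconst i 0
      show c 0 * (cs ⟨σ, hσ⟩ 0)⁻¹ * cs ⟨σ, hσ⟩ i = c i
      rw [← this]
      simp
  rw [← Nat.card_congr (Equiv.ofBijective Φ ⟨hinj, hsurj⟩), Nat.card_prod, Nat.card_units,
    hexPerm_eq_alternatingGroup hF ω hω, nat_card_alternatingGroup, Nat.card_eq_fintype_card,
    Nat.card_eq_fintype_card, hF, Fintype.card_fin]
  decide

end anyfield

end Cfsg.Agent.Helper27
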