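import Cfsg.Agent.Helper27.GF4
import Cfsg.Prelude.Def_SporadicCombinatorics

/-!
The hexacode: transport from an abstract field of order 4 to the concrete model `GF4`, and the
parametrisation of its 64 words.
-/

set_option autoImplicit false

namespace Cfsg.Agent.Helper27

open Cfsg

section generic
variable {K : Type*} [Field K]

/-- the three generators of the hexacode -/
def hexGen (ω : K) : Fin 3 → Fin 6 → K :=
  ![![ω, ω ^ 2, ω ^ 2, ω, ω ^ 2, ω], ![ω ^ 2, ω, ω, ω ^ 2, ω ^ 2, ω], ![ω ^ 2, ω, ω ^ 2, ω, ω, ω ^ 2]]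

/-- the word with given coefficients -/
def hexEnc (ω : K) (t : K × K × K) : Fin 6 → K :=
  t.1 • hexGen ω 0 + t.2.1 • hexGen ω 1 + t.2.2 • hexGen ω 2

theorem mem_hexacode_iff (ω : K) (x : Fin 6 → K) : x ∈ hexacode K ω ↔ ∃ t : K × K × K, hexEnc ω t = x := by
  unfold hexacode
  rw [Submodule.mem_span_triple]
  constructor
  · rintro ⟨a, b, c, h⟩
    exact ⟨(a, b, c), h⟩
  · rintro ⟨⟨a, b, c⟩, h⟩
    exact ⟨a, b, c, h⟩

variable {F : Type*} [Field F]

theorem map_hexEnc (f : K →+* F) (ω : K) (t : K × K × K) :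
    (fun i => f (hexEnc ω t i)) = hexEnc (f ω) (f t.1, f t.2.1, f t.2.2) := by
  funext i
  fin_cases i <;> simp [hexEnc, hexGen, map_add, map_mul, map_pow]

/-- transport of the hexacode along a ring isomorphism -/
theorem hexacode_eq_image (ψ : K ≃+* F) (ω : K) :
    (hexacode F (ψ ω) : Set (Fin 6 → F)) = (fun (x : Fin 6 → K) i => ψ (x i)) '' (hexacode K ω : Set (Fin 6 → K)) := by
  ext x
  simp only [SetLike.mem_coe, Set.mem_image, mem_hexacode_iff]
  constructor
  · rintro ⟨⟨a, b, c⟩, rfl⟩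
    refine ⟨hexEnc ω (ψ.symm a, ψ.symm b, ψ.symm c), ⟨_, rfl⟩, ?_⟩
    have := map_hexEnc (ψ : K →+* F) ω (ψ.symm a, ψ.symm b, ψ.symm c)
    simpa using this
  · rintro ⟨_, ⟨⟨a, b, c⟩, rfl⟩, rfl⟩
    refine ⟨(ψ a, ψ b, ψ c), ?_⟩
    have := map_hexEnc (ψ : K →+* F) ω (a, b, c)
    simpa using this.symm

theorem map_injective (ψ : K ≃+* F) : Function.Injective fun (x : Fin 6 → K) (i : Fin 6) => ψ (x i) := by
  intro x y h
  funext i
  exact ψ.injective (congrFun h i)

theorem weight_map [DecidableEq K] [DecidableEq F] (ψ : K ≃+* F) (x : Fin 6 → K) :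
    (Finset.univ.filter fun i => ψ (x i) ≠ 0).card = (Finset.univ.filter fun i => x i ≠ 0).card := by
  congr 1
  ext i
  simp

end generic

/-- the coefficient triples -/
abbrev G3 : Type := GF4 × GF4 × GF4

theorem hexEnc_injective_w : ∀ s t : G3, hexEnc GF4.w s = hexEnc GF4.w t → s = t := by decide +kernel
theorem hexEnc_injective_w2 : ∀ s t : G3, hexEnc GF4.w2 s = hexEnc GF4.w2 t → s = t := by decide +kernel

theorem hexEnc_injective {ω : GF4} (hω : ω ^ 2 + ω + 1 = 0) : Function.Injective (hexEnc ω) := by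
  rcases GF4.root_cases ω hω with rfl | rfl
  · exact fun s t => hexEnc_injective_w s t
  · exact fun s t => hexEnc_injective_w2 s t

/-- counting words of the hexacode over `GF4` with a decidable property -/
theorem ncard_hexacode_filter {ω : GF4} (hω : ω ^ 2 + ω + 1 = 0) (P : (Fin 6 → GF4) → Prop)
    [DecidablePred fun t : G3 => P (hexEnc ω t)] :
    {x | x ∈ hexacode GF4 ω ∧ P x}.ncard = (Finset.univ.filter fun t : G3 => P (hexEnc ω t)).card := by
  have : {x | x ∈ hexacode GF4 ω ∧ P x} =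
      hexEnc ω '' ((Finset.univ.filter fun t : G3 => P (hexEnc ω t)) : Finset G3) := by
    ext x
    simp only [Set.mem_ofPred_eq, Set.mem_image, Finset.coe_filter, Finset.mem_univ, true_and,
      mem_hexacode_iff]
    constructor
    · rintro ⟨⟨t, rfl⟩, hP⟩
      exact ⟨t, hP, rfl⟩
    · rintro ⟨t, ht, rfl⟩
      exact ⟨⟨t, rfl⟩, ht⟩
  rw [this, Set.InjOn.ncard_image (hexEnc_injective hω).injOn, Set.ncard_coe_finset]

/-- counting words of the hexacode over any field of order 4 -/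
theorem ncard_hexacode_filter' {F : Type*} [Field F] [Fintype F] (hF : Fintype.card F = 4) (ω : F)
    (hω : ω ^ 2 + ω + 1 = 0) (P : (Fin 6 → F) → Prop) :
    ∃ ω' : GF4, ω' ^ 2 + ω' + 1 = 0 ∧ gf4Equiv F hF ω' = ω ∧
      {x | x ∈ hexacode F ω ∧ P x}.ncard =
        {x | x ∈ hexacode GF4 ω' ∧ P (fun i => gf4Equiv F hF (x i))}.ncard := by
  set ψ := gf4Equiv F hF with hψ
  obtain ⟨ω', rfl⟩ : ∃ ω', ψ ω' = ω := ψ.surjective ω
  have hω' : ω' ^ 2 + ω' + 1 = 0 := by
    apply ψ.injective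
    rw [map_add, map_add, map_pow, map_one, map_zero]
    exact hω
  refine ⟨ω', hω', rfl, ?_⟩
  have : {x | x ∈ hexacode F (ψ ω') ∧ P x} =
      (fun (x : Fin 6 → GF4) i => ψ (x i)) '' {x | x ∈ hexacode GF4 ω' ∧ P (fun i => ψ (x i))} := by
    ext x
    have h := hexacode_eq_image ψ ω'
    simp only [Set.mem_ofPred_eq, Set.mem_image]
    constructor
    · rintro ⟨hx, hP⟩
      have hx' : x ∈ (hexacode F (ψ ω') : Set (Fin 6 → F)) := hx
      rw [h] at hx'
      obtain ⟨y, hy, rfl⟩ := hx'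
      exact ⟨y, ⟨hy, hP⟩, rfl⟩
    · rintro ⟨y, ⟨hy, hP⟩, rfl⟩
      refine ⟨?_, hP⟩
      have : (fun i => ψ (y i)) ∈ (hexacode F (ψ ω') : Set (Fin 6 → F)) := by
        rw [h]; exact ⟨y, hy, rfl⟩
      exact this
  rw [this, Set.InjOn.ncard_image (map_injective ψ).injOn]

end Cfsg.Agent.Helper27
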