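import Cfsg.Agent.Helper27.M22Orb

/-!
A subgroup of `M22` of order divisible by `9` cannot stabilise the two orbits of length `11` of
the multiplication by `2`.
-/

set_option autoImplicit false

namespace Cfsg.Agent.Helper27

open Cfsg Cfsg.Agent.Helper7

/-- the nonzero squares modulo `23` -/
def o1L : List ℕ := [1, 2, 3, 4, 6, 8, 9, 12, 13, 16, 18]

/-- the non-squares modulo `23` -/
def o2L : List ℕ := [5, 7, 10, 11, 14, 15, 17, 19, 20, 21, 22]

theorem o1L_spec : ∀ i ∈ o1L, i < 23 ∧ i ≠ 0 := by decide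

theorem o2L_spec : ∀ i ∈ o2L, i < 23 ∧ i ≠ 0 := by decide

theorem o1L_o2L_disj : ∀ i ∈ o1L, ∀ j ∈ o2L, i ≠ j := by decide

theorem o_cover : ∀ i < 24, i = 0 ∨ i = 23 ∨ i ∈ o1L ∨ i ∈ o2L := by decide

theorem ncard_o1 : (ptSet o1L).ncard = 11 :=
  ncard_ptSet (by decide) (fun j hj => by have := (o1L_spec j hj).1; omega)

theorem ncard_o2 : (ptSet o2L).ncard = 11 :=
  ncard_ptSet (by decide) (fun j hj => by have := (o2L_spec j hj).1; omega)

/-- a `3`-group acting on the points and stabilising a set of `11` points fixes one of them -/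
theorem exists_fixed_of_invariant {G : Type*} [Group G] [Finite G] [MulAction G GolayPt]
    (hG : IsPGroup 3 G) (X : Set GolayPt) (hX : X.ncard = 11)
    (hinv : ∀ (s : G) (x : GolayPt), x ∈ X → s • x ∈ X) :
    ∃ x ∈ X, ∀ s : G, s • x = x := by
  have : Fact (Nat.Prime 3) := ⟨by norm_num⟩
  let A : SubMulAction G GolayPt := { carrier := X, smul_mem' := fun s x hx => hinv s x hx }
  have hc : Nat.card A = 11 := by
    show Nat.card ↥X = 11
    rw [Nat.card_coe_set_eq, hX]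
  obtain ⟨x, hx⟩ := hG.nonempty_fixed_point_of_prime_not_dvd_card A (by rw [hc]; norm_num)
  refine ⟨x.1, x.2, fun s => ?_⟩
  have := hx s
  exact congrArg Subtype.val this

theorem no_two_invariant (K : Subgroup (Equiv.Perm GolayPt)) (hK : K ≤ M22p)
    (h9 : 3 ^ 2 ∣ Nat.card K)
    (h1 : ∀ g ∈ K, ∀ x ∈ ptSet o1L, g x ∈ ptSet o1L)
    (h2 : ∀ g ∈ K, ∀ x ∈ ptSet o2L, g x ∈ ptSet o2L) : False := by
  have : Fact (Nat.Prime 3) := ⟨by norm_num⟩
  obtain ⟨S, hS⟩ := Sylow.exists_subgroup_card_pow_prime 3 h9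
  have hp : IsPGroup 3 S := IsPGroup.of_card hS
  obtain ⟨x, hx, hfx⟩ := exists_fixed_of_invariant hp (ptSet o1L) ncard_o1
    (fun s x hx => h1 s.1.1 s.1.2 x hx)
  obtain ⟨y, hy, hfy⟩ := exists_fixed_of_invariant hp (ptSet o2L) ncard_o2
    (fun s x hx => h2 s.1.1 s.1.2 x hx)
  have hx' := o1L_spec _ hx
  have hy' := o2L_spec _ hy
  have hxy := o1L_o2L_disj _ hx _ hy
  have hle : (S.map K.subtype) ≤ fixG M24 [idx y, idx x, 0, 23] := by
    rintro _ ⟨s, hs, rfl⟩
    have hsM := mem_M22p.mp (hK s.2)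
    refine ⟨hsM.1, fun i hi => ?_⟩
    simp only [List.mem_cons, List.not_mem_nil, or_false] at hi
    rcases hi with rfl | rfl | rfl | rfl
    · rw [pt_idx]
      exact hfy ⟨s, hs⟩
    · rw [pt_idx]
      exact hfx ⟨s, hs⟩
    · exact hsM.2.1
    · exact hsM.2.2
  have hcard : Nat.card (S.map K.subtype) = 9 := by
    rw [Subgroup.card_map_of_injective K.subtype_injective, hS]
    norm_num
  have hdvd := Subgroup.card_dvd_of_le hle
  rw [hcard, card_fixG4 hx'.1 hy'.1 hx'.2 hy'.2 hxy] at hdvd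
  exact absurd hdvd (by norm_num)

end Cfsg.Agent.Helper27
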