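import Cfsg.Agent.Helper27.M22CaseA

/-!
Subgroups of order `7920` of `M22` containing `11:5` and fusing its two orbits: transitivity,
the point stabiliser and the divisibility of its orbit lengths by `3`.
-/

set_option autoImplicit false

namespace Cfsg.Agent.Helper27

open Cfsg Cfsg.Agent.Helper7

/-- the hypotheses of the transitive case -/
structure CBHyp (K : Subgroup (Equiv.Perm GolayPt)) : Prop where
  le : K ≤ M22p
  hc : mu23 ∈ K
  he : cubeTwist ∈ K
  card : Nat.card K = 7920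
  tr : ∃ g ∈ K, ∃ x ∈ ptSet o1L, g x ∈ ptSet o2L

theorem mu23_pow_apply (m i : ℕ) (hi : i < 24) :
    (mu23 ^ m) (pt i) = pt ((tpow tM m).getD i 0) := by
  rw [(isTable_tpow isTable_mu23 m).apply, idx_pt hi]

theorem cubeTwist_apply (i : ℕ) (hi : i < 24) : cubeTwist (pt i) = pt (tC.getD i 0) := by
  rw [isTable_cubeTwist.apply, idx_pt hi]

theorem trans_o1 : ∀ i ∈ o1L, ∀ j ∈ o1L, ∃ m < 11, (tpow tM m).getD i 0 = j := by decide +kernel

theorem trans_o2 : ∀ i ∈ o2L, ∀ j ∈ o2L, ∃ m < 11, (tpow tM m).getD i 0 = j := by decide +kernel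

namespace CBHyp

variable {K : Subgroup (Equiv.Perm GolayPt)}

theorem fix_zero (h : CBHyp K) {g : Equiv.Perm GolayPt} (hg : g ∈ K) : g (pt 0) = pt 0 :=
  (mem_M22p.mp (h.le hg)).2.1

theorem fix_last (h : CBHyp K) {g : Equiv.Perm GolayPt} (hg : g ∈ K) : g (pt 23) = pt 23 :=
  (mem_M22p.mp (h.le hg)).2.2

theorem mem_M24 (h : CBHyp K) {g : Equiv.Perm GolayPt} (hg : g ∈ K) : g ∈ M24 :=
  (mem_M22p.mp (h.le hg)).1

theorem pow_mem (h : CBHyp K) (m : ℕ) : mu23 ^ m ∈ K := K.pow_mem h.hc m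

/-- transitivity on the `22` points -/
theorem exists_map (h : CBHyp K) {j : ℕ} (hj : j ∈ o1L ∨ j ∈ o2L) :
    ∃ g ∈ K, g (pt 3) = pt j := by
  have h3 : 3 ∈ o1L := by decide
  rcases hj with hj | hj
  · obtain ⟨m, _, hm⟩ := trans_o1 3 h3 j hj
    refine ⟨mu23 ^ m, h.pow_mem m, ?_⟩
    rw [mu23_pow_apply m 3 (by norm_num), hm]
  · obtain ⟨g0, hg0, x, hx, hgx⟩ := h.tr
    obtain ⟨m1, _, hm1⟩ := trans_o1 3 h3 (idx x) hx
    obtain ⟨m2, _, hm2⟩ := trans_o2 (idx (g0 x)) hgx j hj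
    refine ⟨mu23 ^ m2 * g0 * mu23 ^ m1, K.mul_mem (K.mul_mem (h.pow_mem m2) hg0) (h.pow_mem m1), ?_⟩
    rw [Equiv.Perm.mul_apply, Equiv.Perm.mul_apply, mu23_pow_apply m1 3 (by norm_num), hm1,
      pt_idx, ← pt_idx (g0 x), mu23_pow_apply m2 _ (idx_lt _), hm2]

/-- the image of a point different from `∞` and `0` is again such a point -/
theorem idx_map_mem (h : CBHyp K) {g : Equiv.Perm GolayPt} (hg : g ∈ K) {x : GolayPt}
    (hx : idx x ∈ o1L ∨ idx x ∈ o2L) : idx (g x) ∈ o1L ∨ idx (g x) ∈ o2L := by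
  have hx0 : x ≠ pt 0 := by
    rintro rfl
    revert hx
    decide
  have hx23 : x ≠ pt 23 := by
    rintro rfl
    revert hx
    decide
  rcases o_cover (idx (g x)) (idx_lt _) with h0 | h0 | h0 | h0
  · exfalso
    apply hx0
    apply g.injective
    rw [h.fix_zero hg, ← pt_idx (g x), h0]
  · exfalso
    apply hx23
    apply g.injective
    rw [h.fix_last hg, ← pt_idx (g x), h0]
  · exact Or.inl h0
  · exact Or.inr h0

theorem orb_eq (h : CBHyp K) : orbP K (pt 3) = ptSet (o1L ++ o2L) := by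
  ext y
  rw [mem_ptSet, List.mem_append]
  constructor
  · rintro ⟨g, hg, rfl⟩
    exact h.idx_map_mem hg (Or.inl (by decide))
  · intro hy
    obtain ⟨g, hg, hgy⟩ := h.exists_map hy
    exact ⟨g, hg, by rw [hgy, pt_idx]⟩

/-- the point stabiliser -/
def Ka (K : Subgroup (Equiv.Perm GolayPt)) : Subgroup (Equiv.Perm GolayPt) := K ⊓ stabP (pt 3)

theorem card_Ka (h : CBHyp K) : Nat.card (Ka K) = 360 := by
  have h1 := card_stab_mul_orb K (pt 3)
  rw [h.orb_eq, ncard_ptSet (by decide) (by decide), h.card] at h1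
  have : (o1L ++ o2L).length = 22 := by decide
  rw [this] at h1
  unfold Ka
  omega

theorem Ka_le : Ka K ≤ K := inf_le_left

theorem Ka_fix {g : Equiv.Perm GolayPt} (hg : g ∈ Ka K) : g (pt 3) = pt 3 := hg.2

theorem cubeTwist_mem_Ka (h : CBHyp K) : cubeTwist ∈ Ka K := by
  refine ⟨h.he, ?_⟩
  show cubeTwist (pt 3) = pt 3
  rw [cubeTwist_apply 3 (by norm_num)]
  rfl

/-- the orbits of the point stabiliser have length divisible by `3` -/
theorem three_dvd_orb (h : CBHyp K) {b : GolayPt} (hb : idx b ∈ o1L ∨ idx b ∈ o2L)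
    (hb3 : idx b ≠ 3) : 3 ∣ (orbP (Ka K) b).ncard := by
  have h1 := card_stab_mul_orb (Ka K) b
  rw [h.card_Ka] at h1
  have hle : Ka K ⊓ stabP b ≤ fixG M24 [idx b, 3, 0, 23] := by
    rintro g ⟨hg, hgb⟩
    refine ⟨h.mem_M24 (Ka_le hg), fun i hi => ?_⟩
    simp only [List.mem_cons, List.not_mem_nil, or_false] at hi
    rcases hi with rfl | rfl | rfl | rfl
    · rw [pt_idx]
      exact hgb
    · exact Ka_fix hg
    · exact h.fix_zero (Ka_le hg)
    · exact h.fix_last (Ka_le hg)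
  have hb' : idx b < 23 ∧ idx b ≠ 0 := by
    rcases hb with hb | hb
    · exact o1L_spec _ hb
    · exact o2L_spec _ hb
  have hdvd := Subgroup.card_dvd_of_le hle
  rw [card_fixG4 (by norm_num : 3 < 23) hb'.1 (by norm_num) hb'.2 (Ne.symm hb3)] at hdvd
  generalize Nat.card ↥(Ka K ⊓ stabP b) = s at h1 hdvd
  generalize (orbP (Ka K) b).ncard = o at h1
  by_contra hno
  have hco : Nat.Coprime 9 o := by
    have : Nat.Coprime 3 o := (Nat.Prime.coprime_iff_not_dvd (by norm_num)).mpr hno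
    exact Nat.Coprime.pow_left 2 this
  have h9 : 9 ∣ s * o := by
    rw [h1]
    norm_num
  have h9s : 9 ∣ s := hco.dvd_of_dvd_mul_right h9
  exact absurd (h9s.trans hdvd) (by norm_num)

theorem orb_dvd (h : CBHyp K) (b : GolayPt) : (orbP (Ka K) b).ncard ∣ 360 := by
  have h1 := card_stab_mul_orb (Ka K) b
  rw [h.card_Ka] at h1
  exact Dvd.intro_left _ h1

end CBHyp

end Cfsg.Agent.Helper27
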