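import Cfsg.Agent.Helper27.M22CaseB1

/-!
Sets of points invariant under the element of order `5`, the orbits of the point stabiliser.
-/

set_option autoImplicit false

namespace Cfsg.Agent.Helper27

open Cfsg Cfsg.Agent.Helper7

/-- the four cycles of length `5` of `cubeTwist` -/
def z1L : List ℕ := [1, 18, 4, 2, 6]
def z2L : List ℕ := [5, 21, 20, 10, 7]
def z3L : List ℕ := [8, 16, 13, 9, 12]
def z4L : List ℕ := [11, 19, 22, 14, 17]

/-- a list or nothing -/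
def selL (b : Bool) (L : List ℕ) : List ℕ := if b then L else []

/-- the union of `15` and the selected cycles -/
def patL (b0 b1 b2 b3 b4 : Bool) : List ℕ :=
  selL b0 [15] ++ selL b1 z1L ++ selL b2 z2L ++ selL b3 z3L ++ selL b4 z4L

theorem cyc_cover : ∀ j < 24, j = 0 ∨ j = 3 ∨ j = 23 ∨ j = 15 ∨ j ∈ z1L ∨ j ∈ z2L ∨ j ∈ z3L ∨
    j ∈ z4L := by decide

theorem pat_fixed : ∀ b0 b1 b2 b3 b4 : Bool, 0 ∉ patL b0 b1 b2 b3 b4 ∧ 3 ∉ patL b0 b1 b2 b3 b4 ∧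
    23 ∉ patL b0 b1 b2 b3 b4 ∧ (15 ∈ patL b0 b1 b2 b3 b4 ↔ b0 = true) := by decide

theorem pat_z1 : ∀ b0 b1 b2 b3 b4 : Bool, ∀ j ∈ z1L, (j ∈ patL b0 b1 b2 b3 b4 ↔ b1 = true) := by
  decide

theorem pat_z2 : ∀ b0 b1 b2 b3 b4 : Bool, ∀ j ∈ z2L, (j ∈ patL b0 b1 b2 b3 b4 ↔ b2 = true) := by
  decide

theorem pat_z3 : ∀ b0 b1 b2 b3 b4 : Bool, ∀ j ∈ z3L, (j ∈ patL b0 b1 b2 b3 b4 ↔ b3 = true) := by
  decide

theorem pat_z4 : ∀ b0 b1 b2 b3 b4 : Bool, ∀ j ∈ z4L, (j ∈ patL b0 b1 b2 b3 b4 ↔ b4 = true) := by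
  decide

theorem pat_nodup : ∀ b0 b1 b2 b3 b4 : Bool, (patL b0 b1 b2 b3 b4).Nodup ∧
    ∀ j ∈ patL b0 b1 b2 b3 b4, j < 24 := by decide

/-- membership is constant on a cycle -/
theorem cycle_iff (X : Set GolayPt) (hinv : ∀ y ∈ X, cubeTwist y ∈ X) (a0 a1 a2 a3 a4 : ℕ)
    (h0 : a0 < 24) (h1 : a1 < 24) (h2 : a2 < 24) (h3 : a3 < 24) (h4 : a4 < 24)
    (e0 : tC.getD a0 0 = a1) (e1 : tC.getD a1 0 = a2) (e2 : tC.getD a2 0 = a3)
    (e3 : tC.getD a3 0 = a4) (e4 : tC.getD a4 0 = a0) :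
    ∀ j ∈ [a0, a1, a2, a3, a4], (pt j ∈ X ↔ pt a0 ∈ X) := by
  have step : ∀ j < 24, pt j ∈ X → pt (tC.getD j 0) ∈ X := by
    intro j hj hx
    have := hinv _ hx
    rwa [cubeTwist_apply j hj] at this
  have s0 := step a0 h0
  have s1 := step a1 h1
  have s2 := step a2 h2
  have s3 := step a3 h3
  have s4 := step a4 h4
  rw [e0] at s0
  rw [e1] at s1
  rw [e2] at s2
  rw [e3] at s3
  rw [e4] at s4
  intro j hj
  simp only [List.mem_cons, List.not_mem_nil, or_false] at hj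
  rcases hj with rfl | rfl | rfl | rfl | rfl
  · exact Iff.rfl
  · exact ⟨fun h => s4 (s3 (s2 (s1 h))), s0⟩
  · exact ⟨fun h => s4 (s3 (s2 h)), fun h => s1 (s0 h)⟩
  · exact ⟨fun h => s4 (s3 h), fun h => s2 (s1 (s0 h))⟩
  · exact ⟨s4, fun h => s3 (s2 (s1 (s0 h)))⟩

theorem z1_cyc (X : Set GolayPt) (hinv : ∀ y ∈ X, cubeTwist y ∈ X) :
    ∀ j ∈ z1L, (pt j ∈ X ↔ pt 1 ∈ X) :=
  cycle_iff X hinv 1 18 4 2 6 (by norm_num) (by norm_num) (by norm_num) (by norm_num)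
    (by norm_num) (by decide) (by decide) (by decide) (by decide) (by decide)

theorem z2_cyc (X : Set GolayPt) (hinv : ∀ y ∈ X, cubeTwist y ∈ X) :
    ∀ j ∈ z2L, (pt j ∈ X ↔ pt 5 ∈ X) :=
  cycle_iff X hinv 5 21 20 10 7 (by norm_num) (by norm_num) (by norm_num) (by norm_num)
    (by norm_num) (by decide) (by decide) (by decide) (by decide) (by decide)

theorem z3_cyc (X : Set GolayPt) (hinv : ∀ y ∈ X, cubeTwist y ∈ X) :
    ∀ j ∈ z3L, (pt j ∈ X ↔ pt 8 ∈ X) :=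
  cycle_iff X hinv 8 16 13 9 12 (by norm_num) (by norm_num) (by norm_num) (by norm_num)
    (by norm_num) (by decide) (by decide) (by decide) (by decide) (by decide)

theorem z4_cyc (X : Set GolayPt) (hinv : ∀ y ∈ X, cubeTwist y ∈ X) :
    ∀ j ∈ z4L, (pt j ∈ X ↔ pt 11 ∈ X) :=
  cycle_iff X hinv 11 19 22 14 17 (by norm_num) (by norm_num) (by norm_num) (by norm_num)
    (by norm_num) (by decide) (by decide) (by decide) (by decide) (by decide)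

/-- a set invariant under `cubeTwist` and avoiding three of its fixed points is a union of cycles -/
theorem exists_pattern (X : Set GolayPt) (hinv : ∀ y ∈ X, cubeTwist y ∈ X)
    (h0 : pt 0 ∉ X) (h3 : pt 3 ∉ X) (h23 : pt 23 ∉ X) :
    ∃ b0 b1 b2 b3 b4 : Bool, X = ptSet (patL b0 b1 b2 b3 b4) ∧ (b0 = true ↔ pt 15 ∈ X) ∧
      (b1 = true ↔ pt 1 ∈ X) ∧ (b2 = true ↔ pt 5 ∈ X) ∧ (b3 = true ↔ pt 8 ∈ X) ∧
      (b4 = true ↔ pt 11 ∈ X) := by
  classical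
  refine ⟨decide (pt 15 ∈ X), decide (pt 1 ∈ X), decide (pt 5 ∈ X), decide (pt 8 ∈ X),
    decide (pt 11 ∈ X), ?_, by simp, by simp, by simp, by simp, by simp⟩
  ext x
  rw [mem_ptSet]
  have hx : x = pt (idx x) := (pt_idx x).symm
  have hf := pat_fixed (decide (pt 15 ∈ X)) (decide (pt 1 ∈ X)) (decide (pt 5 ∈ X))
    (decide (pt 8 ∈ X)) (decide (pt 11 ∈ X))
  rcases cyc_cover (idx x) (idx_lt x) with e | e | e | e | e | e | e | e
  · rw [e]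
    rw [e] at hx
    rw [hx]
    exact ⟨fun h => absurd h h0, fun h => absurd h hf.1⟩
  · rw [e]
    rw [e] at hx
    rw [hx]
    exact ⟨fun h => absurd h h3, fun h => absurd h hf.2.1⟩
  · rw [e]
    rw [e] at hx
    rw [hx]
    exact ⟨fun h => absurd h h23, fun h => absurd h hf.2.2.1⟩
  · rw [e]
    rw [e] at hx
    rw [hx, hf.2.2.2, decide_eq_true_eq]
  · rw [pat_z1 _ _ _ _ _ _ e, decide_eq_true_eq, hx]
    exact z1_cyc X hinv _ e
  · rw [pat_z2 _ _ _ _ _ _ e, decide_eq_true_eq, hx]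
    exact z2_cyc X hinv _ e
  · rw [pat_z3 _ _ _ _ _ _ e, decide_eq_true_eq, hx]
    exact z3_cyc X hinv _ e
  · rw [pat_z4 _ _ _ _ _ _ e, decide_eq_true_eq, hx]
    exact z4_cyc X hinv _ e

theorem ncard_pat (b0 b1 b2 b3 b4 : Bool) :
    (ptSet (patL b0 b1 b2 b3 b4)).ncard = (patL b0 b1 b2 b3 b4).length :=
  ncard_ptSet (pat_nodup b0 b1 b2 b3 b4).1 (pat_nodup b0 b1 b2 b3 b4).2

end Cfsg.Agent.Helper27
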