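import Cfsg.Agent.Helper27.M22CaseB2

/-!
The orbits of the point stabiliser of a transitive subgroup of order `7920` of `M22`:
lengths `1`, `6`, `15`.
-/

set_option autoImplicit false

namespace Cfsg.Agent.Helper27

open Cfsg Cfsg.Agent.Helper7

theorem not_mem_orbP_of_fixed {H : Subgroup (Equiv.Perm GolayPt)} {x y : GolayPt}
    (hy : ∀ g ∈ H, g y = y) (hxy : x ≠ y) : y ∉ orbP H x := by
  rintro ⟨g, hg, hgx⟩
  apply hxy
  apply g.injective
  rw [hgx, hy g hg]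

theorem exists_of_mem_orbP {H : Subgroup (Equiv.Perm GolayPt)} {x y z : GolayPt}
    (hy : y ∈ orbP H x) (hz : z ∈ orbP H x) : ∃ g ∈ H, g y = z := by
  obtain ⟨g1, hg1, rfl⟩ := hy
  obtain ⟨g2, hg2, rfl⟩ := hz
  refine ⟨g2 * g1⁻¹, H.mul_mem hg2 (H.inv_mem hg1), ?_⟩
  simp

/-- the candidates for the orbit of length `6` -/
def dL (i : Fin 4) : List ℕ :=
  patL true (decide (i = 0)) (decide (i = 1)) (decide (i = 2)) (decide (i = 3))

/-- the candidates for the orbit of length `15` -/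
def gL (i : Fin 4) : List ℕ :=
  patL false (decide (i ≠ 0)) (decide (i ≠ 1)) (decide (i ≠ 2)) (decide (i ≠ 3))

/-- the first points of the four cycles -/
def hdL (i : Fin 4) : ℕ := ![1, 5, 8, 11] i

theorem dL_cases : ∀ b1 b2 b3 b4 : Bool, 3 ∣ (patL true b1 b2 b3 b4).length →
    (patL true b1 b2 b3 b4).length ∣ 360 → ∃ i : Fin 4, patL true b1 b2 b3 b4 = dL i := by
  decide

theorem gL_cases : ∀ i : Fin 4, ∀ b1 b2 b3 b4 : Bool, ![b1, b2, b3, b4] i = false →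
    3 ∣ (patL false b1 b2 b3 b4).length → ∀ j ∈ gL i, j ∈ patL false b1 b2 b3 b4 →
    patL false b1 b2 b3 b4 = gL i := by
  decide

theorem gL_spec : ∀ i : Fin 4, ∀ j ∈ gL i, j ≠ 0 ∧ j ≠ 3 ∧ j ≠ 23 ∧ (j ∈ o1L ∨ j ∈ o2L) ∧
    j ∉ dL i := by decide

theorem dL_spec : ∀ i : Fin 4, ∀ j ∈ dL i, j ≠ 0 ∧ j ≠ 3 ∧ j ≠ 23 ∧ (j ∈ o1L ∨ j ∈ o2L) := by
  decide

theorem dL_gL_cover' : ∀ i : Fin 4, ∀ j ∈ o1L ++ o2L, j = 3 ∨ j ∈ dL i ∨ j ∈ gL i := by decide

theorem dL_gL_cover (i : Fin 4) (j : ℕ) (hj : j ∈ o1L ∨ j ∈ o2L) : j = 3 ∨ j ∈ dL i ∨ j ∈ gL i :=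
  dL_gL_cover' i j (List.mem_append.mpr hj)

theorem hdL_mem : ∀ i : Fin 4, hdL i ∈ dL i ∧ hdL i < 24 := by decide

theorem dL_length : ∀ i : Fin 4, (dL i).length = 6 ∧ (dL i).Nodup ∧ ∀ j ∈ dL i, j < 24 := by
  decide

theorem gL_length : ∀ i : Fin 4, (gL i).length = 15 ∧ (gL i).Nodup ∧ ∀ j ∈ gL i, j < 24 := by
  decide

namespace CBHyp

variable {K : Subgroup (Equiv.Perm GolayPt)}

theorem Ka_fix_zero (h : CBHyp K) {g : Equiv.Perm GolayPt} (hg : g ∈ Ka K) : g (pt 0) = pt 0 :=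
  h.fix_zero (Ka_le hg)

theorem Ka_fix_last (h : CBHyp K) {g : Equiv.Perm GolayPt} (hg : g ∈ Ka K) : g (pt 23) = pt 23 :=
  h.fix_last (Ka_le hg)

theorem orb_pattern (h : CBHyp K) {x : GolayPt} (hx0 : x ≠ pt 0) (hx3 : x ≠ pt 3)
    (hx23 : x ≠ pt 23) :
    ∃ b0 b1 b2 b3 b4 : Bool, orbP (Ka K) x = ptSet (patL b0 b1 b2 b3 b4) ∧
      (b0 = true ↔ pt 15 ∈ orbP (Ka K) x) ∧ (b1 = true ↔ pt 1 ∈ orbP (Ka K) x) ∧
      (b2 = true ↔ pt 5 ∈ orbP (Ka K) x) ∧ (b3 = true ↔ pt 8 ∈ orbP (Ka K) x) ∧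
      (b4 = true ↔ pt 11 ∈ orbP (Ka K) x) :=
  exists_pattern _ (fun _ hy => orbP_invariant h.cubeTwist_mem_Ka hy)
    (not_mem_orbP_of_fixed (fun _ hg => h.Ka_fix_zero hg) hx0)
    (not_mem_orbP_of_fixed (fun _ hg => Ka_fix hg) hx3)
    (not_mem_orbP_of_fixed (fun _ hg => h.Ka_fix_last hg) hx23)

/-- the orbit of length `6` -/
theorem D_cases (h : CBHyp K) : ∃ i : Fin 4, orbP (Ka K) (pt 15) = ptSet (dL i) := by
  have h15 : idx (pt 15) = 15 := idx_pt (by norm_num)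
  have hne : ∀ j, j < 24 → j ≠ 15 → pt 15 ≠ pt j := by
    intro j hj hj15 he
    have := congrArg idx he
    rw [h15, idx_pt hj] at this
    exact hj15 this.symm
  obtain ⟨b0, b1, b2, b3, b4, hpat, hb0, -⟩ := h.orb_pattern (hne 0 (by norm_num) (by norm_num))
    (hne 3 (by norm_num) (by norm_num)) (hne 23 (by norm_num) (by norm_num))
  have hb0' : b0 = true := hb0.mpr (mem_orbP_self _ _)
  subst hb0'
  have h3 := h.three_dvd_orb (b := pt 15) (by rw [h15]; decide) (by rw [h15]; norm_num)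
  have h360 := h.orb_dvd (pt 15)
  rw [hpat, ncard_pat] at h3 h360
  obtain ⟨i, hi⟩ := dL_cases b1 b2 b3 b4 h3 h360
  exact ⟨i, by rw [hpat, hi]⟩

/-- the orbit of length `15` -/
theorem G_orbit (h : CBHyp K) (i : Fin 4) (hD : orbP (Ka K) (pt 15) = ptSet (dL i)) {x : GolayPt}
    (hx : idx x ∈ gL i) : orbP (Ka K) x = ptSet (gL i) := by
  obtain ⟨hj0, hj3, hj23, hjo, hjd⟩ := gL_spec i _ hx
  have hne : ∀ j, j < 24 → idx x ≠ j → x ≠ pt j := by
    intro j hj hjx he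
    apply hjx
    rw [he, idx_pt hj]
  obtain ⟨b0, b1, b2, b3, b4, hpat, hb0, hb1, hb2, hb3, hb4⟩ :=
    h.orb_pattern (hne 0 (by norm_num) hj0) (hne 3 (by norm_num) hj3) (hne 23 (by norm_num) hj23)
  -- the orbit is different from the orbit of length `6`
  have hnD : ∀ y, y ∈ orbP (Ka K) (pt 15) → y ∉ orbP (Ka K) x := by
    intro y hy1 hy2
    have e1 := orbP_eq_of_mem hy1
    have e2 := orbP_eq_of_mem hy2
    have hxD : x ∈ orbP (Ka K) (pt 15) := by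
      rw [← e1, e2]
      exact mem_orbP_self _ _
    rw [hD] at hxD
    exact hjd hxD
  have hb0' : b0 = false := by
    cases b0
    · rfl
    · exact absurd (hb0.mp rfl) (hnD _ (mem_orbP_self _ _))
  subst hb0'
  have hhd : pt (hdL i) ∉ orbP (Ka K) x := by
    apply hnD
    rw [hD, pt_mem_ptSet (hdL_mem i).2]
    exact (hdL_mem i).1
  have hbi : ![b1, b2, b3, b4] i = false := by
    fin_cases i
    · cases b1
      · rfl
      · exact absurd (hb1.mp rfl) hhd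
    · cases b2
      · rfl
      · exact absurd (hb2.mp rfl) hhd
    · cases b3
      · rfl
      · exact absurd (hb3.mp rfl) hhd
    · cases b4
      · rfl
      · exact absurd (hb4.mp rfl) hhd
  have h3 := h.three_dvd_orb (b := x) hjo hj3
  rw [hpat, ncard_pat] at h3
  have hxm : idx x ∈ patL false b1 b2 b3 b4 := by
    have := mem_orbP_self (Ka K) x
    rw [hpat] at this
    exact this
  rw [hpat, gL_cases i b1 b2 b3 b4 hbi h3 _ hx hxm]

end CBHyp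

end Cfsg.Agent.Helper27
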