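import Cfsg.Agent.Helper27.M22CaseB3
import Cfsg.Agent.Helper30.Rank3Deg22

/-!
The transitive case is impossible: a rank `3` action on `22` points with subdegrees `1, 6, 15`
does not exist (lemma of helper30).
-/

set_option autoImplicit false

namespace Cfsg.Agent.Helper27

open Cfsg Cfsg.Agent.Helper7

namespace CBHyp

variable {K : Subgroup (Equiv.Perm GolayPt)}

theorem contradiction (h : CBHyp K) : False := by
  classical
  obtain ⟨i, hD⟩ := h.D_cases
  -- the `22` points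
  let Ω : SubMulAction ↥K GolayPt :=
    { carrier := ptSet (o1L ++ o2L)
      smul_mem' := fun g x hx => by
        show idx (g.1 x) ∈ o1L ++ o2L
        exact List.mem_append.mpr (h.idx_map_mem g.2 (List.mem_append.mp hx)) }
  have : Fintype ↥Ω := Fintype.ofFinite _
  have hΩ : ∀ x : GolayPt, x ∈ Ω ↔ idx x ∈ o1L ∨ idx x ∈ o2L := fun x => List.mem_append
  have hsm : ∀ (g : ↥K) (x : ↥Ω), ((g • x : ↥Ω) : GolayPt) = g.1 x.1 := fun g x => rfl
  have hcard : Fintype.card ↥Ω = 22 := by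
    rw [Fintype.card_eq_nat_card]
    show Nat.card ↥(ptSet (o1L ++ o2L)) = 22
    rw [Nat.card_coe_set_eq, ncard_ptSet (by decide) (by decide)]
    rfl
  have h3 : pt 3 ∈ Ω := by
    rw [hΩ, idx_pt (by norm_num)]
    decide
  let a : ↥Ω := ⟨pt 3, h3⟩
  let Δ : Finset ↥Ω := Finset.univ.filter (fun x => x.1 ∈ orbP (Ka K) (pt 15))
  have hmemΔ : ∀ x : ↥Ω, x ∈ Δ ↔ x.1 ∈ orbP (Ka K) (pt 15) := by
    intro x
    simp [Δ]
  have hstab : ∀ g : ↥K, g • a = a → g.1 ∈ Ka K := by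
    intro g hg
    refine ⟨g.2, ?_⟩
    show g.1 (pt 3) = pt 3
    have := congrArg Subtype.val hg
    rwa [hsm] at this
  have hfix : ∀ g : Equiv.Perm GolayPt, ∀ hg : g ∈ Ka K, (⟨g, Ka_le hg⟩ : ↥K) • a = a := by
    intro g hg
    apply Subtype.ext
    rw [hsm]
    exact Ka_fix hg
  refine Cfsg.Agent.Helper30.Rank3Deg22.no_rank3_22 (H := ↥K) hcard ?_ a Δ ?_ ?_ ?_ ?_ ?_
  · -- transitivity
    intro x y
    obtain ⟨g1, hg1, e1⟩ := h.exists_map ((hΩ _).mp x.2)
    obtain ⟨g2, hg2, e2⟩ := h.exists_map ((hΩ _).mp y.2)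
    rw [pt_idx] at e1 e2
    refine ⟨⟨g2 * g1⁻¹, K.mul_mem hg2 (K.inv_mem hg1)⟩, Subtype.ext ?_⟩
    rw [hsm]
    show (g2 * g1⁻¹) x.1 = y.1
    rw [← e1, ← e2]
    simp
  · -- the orbit of length `6`
    have hsub : ∀ x : GolayPt, x ∈ orbP (Ka K) (pt 15) → x ∈ Ω := by
      intro x hx
      rw [hD] at hx
      rw [hΩ]
      exact (dL_spec i _ hx).2.2.2
    show (Finset.univ.filter (fun x : ↥Ω => x.1 ∈ orbP (Ka K) (pt 15))).card = 6
    rw [← Fintype.card_subtype, Fintype.card_eq_nat_card,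
      Nat.card_congr (Equiv.subtypeSubtypeEquivSubtype (fun {x} hx => hsub x hx))]
    show Nat.card ↥(orbP (Ka K) (pt 15)) = 6
    rw [Nat.card_coe_set_eq, hD, ncard_ptSet (dL_length i).2.1 (dL_length i).2.2]
    exact (dL_length i).1
  · -- the base point
    rw [hmemΔ, hD]
    show pt 3 ∉ ptSet (dL i)
    rw [pt_mem_ptSet (by norm_num)]
    intro h3'
    exact (dL_spec i _ h3').2.1 rfl
  · intro g hg y hy
    rw [hmemΔ] at hy ⊢
    rw [hsm]
    exact orbP_invariant (hstab g hg) hy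
  · intro y hy y' hy'
    rw [hmemΔ] at hy hy'
    obtain ⟨g, hg, hgy⟩ := exists_of_mem_orbP hy hy'
    refine ⟨⟨g, Ka_le hg⟩, hfix g hg, Subtype.ext ?_⟩
    rw [hsm]
    exact hgy
  · intro y y' hy hya hy' hya'
    rw [hmemΔ, hD] at hy hy'
    have key : ∀ z : ↥Ω, z.1 ∉ ptSet (dL i) → z ≠ a → idx z.1 ∈ gL i := by
      intro z hz hza
      rcases dL_gL_cover i _ ((hΩ _).mp z.2) with e | e | e
      · exfalso
        apply hza
        apply Subtype.ext
        show z.1 = pt 3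
        rw [← pt_idx z.1, e]
      · exact absurd e hz
      · exact e
    have e1 := h.G_orbit i hD (key y hy hya)
    have hy'm : y'.1 ∈ orbP (Ka K) y.1 := by
      rw [e1]
      exact key y' hy' hya'
    obtain ⟨g, hg, hgy⟩ := hy'm
    refine ⟨⟨g, Ka_le hg⟩, hfix g hg, Subtype.ext ?_⟩
    rw [hsm]
    exact hgy

end CBHyp


end Cfsg.Agent.Helper27
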