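import Cfsg.Agent.Helper27.M22Sylow

/-!
Orbits of subgroups of `Perm GolayPt` on points, sets of points given by lists of indices.
-/

set_option autoImplicit false

namespace Cfsg.Agent.Helper27

open Cfsg Cfsg.Agent.Helper7

/-- the orbit of a point under a group of permutations -/
def orbP (H : Subgroup (Equiv.Perm GolayPt)) (x : GolayPt) : Set GolayPt := {y | ∃ g ∈ H, g x = y}

/-- the stabiliser of a point in the symmetric group -/
def stabP (x : GolayPt) : Subgroup (Equiv.Perm GolayPt) :=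
  MulAction.stabilizer (Equiv.Perm GolayPt) x

theorem mem_stabP {g : Equiv.Perm GolayPt} {x : GolayPt} : g ∈ stabP x ↔ g x = x := Iff.rfl

theorem mem_orbP_self (H : Subgroup (Equiv.Perm GolayPt)) (x : GolayPt) : x ∈ orbP H x :=
  ⟨1, H.one_mem, rfl⟩

theorem orbP_invariant {H : Subgroup (Equiv.Perm GolayPt)} {x y : GolayPt} {g : Equiv.Perm GolayPt}
    (hg : g ∈ H) (hy : y ∈ orbP H x) : g y ∈ orbP H x := by
  obtain ⟨h, hh, rfl⟩ := hy
  exact ⟨g * h, H.mul_mem hg hh, rfl⟩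

theorem orbP_eq_of_mem {H : Subgroup (Equiv.Perm GolayPt)} {x y : GolayPt} (hy : y ∈ orbP H x) :
    orbP H y = orbP H x := by
  obtain ⟨h, hh, rfl⟩ := hy
  ext z
  constructor
  · rintro ⟨g, hg, rfl⟩
    exact ⟨g * h, H.mul_mem hg hh, rfl⟩
  · rintro ⟨g, hg, rfl⟩
    refine ⟨g * h⁻¹, H.mul_mem hg (H.inv_mem hh), ?_⟩
    simp

theorem orbP_eq_orbit (H : Subgroup (Equiv.Perm GolayPt)) (x : GolayPt) :
    orbP H x = MulAction.orbit ↥H x := by
  ext y
  constructor
  · rintro ⟨g, hg, rfl⟩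
    exact ⟨⟨g, hg⟩, rfl⟩
  · rintro ⟨g, rfl⟩
    exact ⟨g.1, g.2, rfl⟩

/-- orbit-stabiliser -/
theorem card_stab_mul_orb (H : Subgroup (Equiv.Perm GolayPt)) (x : GolayPt) :
    Nat.card ↥(H ⊓ stabP x) * (orbP H x).ncard = Nat.card H := by
  have h1 := Subgroup.card_mul_index (MulAction.stabilizer H x)
  rw [MulAction.index_stabilizer, stab_subgroup_eq, Nat.card_congr (subgroupOfEquivInf' _ _),
    ← orbP_eq_orbit] at h1
  exact h1

/-- the set of points with index in a list -/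
def ptSet (L : List ℕ) : Set GolayPt := {x | idx x ∈ L}

theorem mem_ptSet {L : List ℕ} {x : GolayPt} : x ∈ ptSet L ↔ idx x ∈ L := Iff.rfl

theorem pt_mem_ptSet {L : List ℕ} {j : ℕ} (hj : j < 24) : pt j ∈ ptSet L ↔ j ∈ L := by
  rw [mem_ptSet, idx_pt hj]

theorem ptSet_eq_coe (L : List ℕ) (hlt : ∀ j ∈ L, j < 24) :
    ptSet L = ↑((L.map pt).toFinset) := by
  ext x
  rw [mem_ptSet, Finset.mem_coe, List.mem_toFinset, List.mem_map]
  constructor
  · intro h
    exact ⟨idx x, h, pt_idx x⟩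
  · rintro ⟨j, hj, rfl⟩
    rwa [idx_pt (hlt j hj)]

theorem ncard_ptSet {L : List ℕ} (hnd : L.Nodup) (hlt : ∀ j ∈ L, j < 24) :
    (ptSet L).ncard = L.length := by
  rw [ptSet_eq_coe L hlt, Set.ncard_coe_finset, List.toFinset_card_of_nodup, List.length_map]
  apply List.Nodup.map_on _ hnd
  intro i hi j hj hij
  exact pt_injOn (hlt i hi) (hlt j hj) hij

theorem ptSet_finite (L : List ℕ) : (ptSet L).Finite := Set.toFinite _

end Cfsg.Agent.Helper27
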