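import Cfsg.Agent.Helper27.M22Base

/-!
Sylow `11`-counting for subgroups of `M22` of order `2112` and `7920`.
-/

set_option autoImplicit false

namespace Cfsg.Agent.Helper27

open Cfsg Cfsg.Agent.Helper7

theorem mu23_mem_M22p : mu23 ∈ M22p := by
  rw [mem_M22p]
  refine ⟨F23_le_M24 mu23_mem_F23, ?_, rfl⟩
  rw [mu23, muP_some, mul_zero]

theorem cubeTwist_zero : cubeTwist (some 0) = some 0 := by
  rw [isTable_cubeTwist.apply]
  decide +kernel

theorem cubeTwist_mem_M22p : cubeTwist ∈ M22p := by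
  rw [mem_M22p]
  exact ⟨cubeTwist_mem_M24, cubeTwist_zero, cubeTwist_none⟩

theorem inf_normalizer_le_NQ23 {K : Subgroup (Equiv.Perm GolayPt)} (hK : K ≤ M22p) :
    K ⊓ Subgroup.normalizer (Q23 : Set (Equiv.Perm GolayPt)) ≤ NQ23 := by
  rintro g ⟨hgK, hgN⟩
  have h := mem_M22p.mp (hK hgK)
  exact ⟨hgN, h.1, h.2.2⟩

theorem dvd_55_cases {r : ℕ} (h : r ∣ 55) : r = 1 ∨ r = 5 ∨ r = 11 ∨ r = 55 := by
  have hle : r ≤ 55 := Nat.le_of_dvd (by norm_num) h
  interval_cases r <;> simp_all <;> omega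

/-- Sylow counting for a subgroup of `M22` containing the multiplication by `2` -/
theorem sylow11_of_mem {K : Subgroup (Equiv.Perm GolayPt)} (hK : K ≤ M22p) (hc : mu23 ∈ K) :
    Nat.card K ≠ 2112 ∧ (Nat.card K = 7920 → cubeTwist ∈ K) := by
  have hdvd : Nat.card K ∣ 443520 := card_M22p ▸ Subgroup.card_dvd_of_le hK
  have h11 : ¬ 11 ^ 2 ∣ Nat.card K := fun h => absurd (h.trans hdvd) (by norm_num)
  have : Fact (Nat.Prime 11) := ⟨by norm_num⟩
  have hQK : Q23 ≤ K := Subgroup.zpowers_le.mpr hc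
  obtain ⟨n, hn, hcard⟩ := sylow_count_rel 11 Q23 K hQK card_Q23 h11
  have hle := inf_normalizer_le_NQ23 hK
  have hr : Nat.card ↥(K ⊓ Subgroup.normalizer (Q23 : Set (Equiv.Perm GolayPt))) ∣ 55 := by
    rw [← card_NQ23]
    exact Subgroup.card_dvd_of_le hle
  constructor
  · intro h
    rw [h] at hcard
    rcases dvd_55_cases hr with h1 | h1 | h1 | h1 <;> rw [h1] at hcard <;> omega
  · intro h
    rw [h] at hcard
    have h55 : Nat.card ↥(K ⊓ Subgroup.normalizer (Q23 : Set (Equiv.Perm GolayPt))) = 55 := by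
      rcases dvd_55_cases hr with h1 | h1 | h1 | h1
      · rw [h1] at hcard; omega
      · rw [h1] at hcard; omega
      · rw [h1] at hcard; omega
      · exact h1
    have heq : K ⊓ Subgroup.normalizer (Q23 : Set (Equiv.Perm GolayPt)) = NQ23 := by
      apply Subgroup.eq_of_le_of_card_ge hle
      rw [h55, card_NQ23]
    have : cubeTwist ∈ K ⊓ Subgroup.normalizer (Q23 : Set (Equiv.Perm GolayPt)) := by
      rw [heq]
      exact cubeTwist_mem_NQ23
    exact this.1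

/-- conjugating a subgroup of `M22` of order divisible by `11` so that it contains the
multiplication by `2` -/
theorem exists_conj_mem {K : Subgroup (Equiv.Perm GolayPt)} (hK : K ≤ M22p)
    (h11 : 11 ∣ Nat.card K) :
    ∃ K' : Subgroup (Equiv.Perm GolayPt), K' ≤ M22p ∧ Nat.card K' = Nat.card K ∧ mu23 ∈ K' := by
  have : Fact (Nat.Prime 11) := ⟨by norm_num⟩
  obtain ⟨x, hx⟩ := exists_prime_orderOf_dvd_card' (G := ↥K) 11 h11
  have hxM : x.1 ∈ M22p := hK x.2
  have hox : orderOf (⟨x.1, hxM⟩ : ↥M22p) = 11 := by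
    rw [Subgroup.orderOf_mk, Subgroup.orderOf_coe, hx]
  have hoa : orderOf (⟨mu23, mu23_mem_M22p⟩ : ↥M22p) = 11 := by
    rw [Subgroup.orderOf_mk, orderOf_mu23]
  have hp2 : ¬ 11 ^ 2 ∣ Nat.card ↥M22p := by
    rw [card_M22p]
    norm_num
  obtain ⟨g, hg⟩ := exists_conj_mem_zpowers' 11 _ _ hoa hox hp2
  refine ⟨K.map (MulAut.conj g.1).toMonoidHom, ?_, ?_, ?_⟩
  · rintro _ ⟨k, hk, rfl⟩
    show g.1 * k * g.1⁻¹ ∈ M22p
    exact M22p.mul_mem (M22p.mul_mem g.2 (hK hk)) (M22p.inv_mem g.2)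
  · exact Subgroup.card_map_of_injective (MulAut.conj g.1).injective
  · -- the conjugate of `x` generates `Q23`
    have hy : g.1 * x.1 * g.1⁻¹ ∈ Q23 := by
      obtain ⟨z, hz⟩ := Subgroup.mem_zpowers_iff.mp hg
      have h1 := congrArg Subtype.val hz
      rw [Subgroup.coe_zpow] at h1
      rw [Q23, Subgroup.mem_zpowers_iff]
      exact ⟨z, h1⟩
    have hoy : orderOf (g.1 * x.1 * g.1⁻¹) = 11 := by
      have : g.1 * x.1 * g.1⁻¹ = (MulAut.conj g.1) x.1 := rfl
      rw [this, MulEquiv.orderOf_eq, Subgroup.orderOf_coe, hx]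
    have hzp : Subgroup.zpowers (g.1 * x.1 * g.1⁻¹) = Q23 := by
      apply Subgroup.eq_of_le_of_card_ge (Subgroup.zpowers_le.mpr hy)
      rw [Nat.card_zpowers, hoy, card_Q23]
    have hmem : mu23 ∈ Subgroup.zpowers (g.1 * x.1 * g.1⁻¹) := by
      rw [hzp]
      exact Subgroup.mem_zpowers _
    have hle : Subgroup.zpowers (g.1 * x.1 * g.1⁻¹) ≤ K.map (MulAut.conj g.1).toMonoidHom := by
      apply Subgroup.zpowers_le.mpr
      exact ⟨x.1, x.2, rfl⟩
    exact hle hmem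

end Cfsg.Agent.Helper27
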