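import Cfsg.Agent.Helper27.PSL23
import Cfsg.Agent.Helper7.Table
import Cfsg.Agent.Helper7.M24Stab

/-!
Preparations for the maximality of `PSL(2, 23)` in `M24`: tables, the normaliser of the translations.
-/

set_option autoImplicit false

namespace Cfsg.Agent.Helper27

open Cfsg Cfsg.Agent.Helper7

/-! ### tables of arbitrary functions and the code test -/

/-- the table of a function on the 24 points -/
def tabOfFun (f : GolayPt → GolayPt) : List ℕ := (List.range 24).map fun i => idx (f (pt i))

theorem isTable_tabOfFun (g : Equiv.Perm GolayPt) : IsTable (tabOfFun g) g := by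
  refine ⟨by simp [tabOfFun], fun p => ?_⟩
  have hp : idx p < 24 := idx_lt p
  unfold tabOfFun
  rw [List.getD_eq_getElem _ _ (by simpa using hp), List.getElem_map, List.getElem_range, pt_idx]

/-- the test whether the pull-backs of the generating words along a table are code words -/
def m24chk (l : List ℕ) : Bool := gmasks.all fun N => enc (pullMask l N % 4096) == pullMask l N

theorem m24chk_of_mem {g : Equiv.Perm GolayPt} (hg : g ∈ M24) {l : List ℕ} (hl : IsTable l g) :
    m24chk l = true := by
  unfold m24chk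
  rw [List.all_eq_true]
  intro N hN
  rw [beq_iff_eq]
  have h1 : permL g⁻¹ (word N) ∈ golayCode :=
    permL_mem_of_mem_M24 (M24.inv_mem hg) (word_gmask_mem N hN)
  rw [permL_inv_apply, word_comp_of_isTable hl] at h1
  have hlt : pullMask l N < 2 ^ 24 := by
    have := pullMask_lt l N
    rwa [hl.1] at this
  exact (word_mem_golayCode_iff hlt).mp h1

theorem mem_of_m24chk {g : Equiv.Perm GolayPt} {l : List ℕ} (hl : IsTable l g)
    (h : m24chk l = true) : g ∈ M24 := by
  apply mem_M24_of_isTable hl
  intro x hx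
  unfold m24chk at h
  rw [List.all_eq_true] at h
  exact eq_of_beq (h x hx)

theorem m24chk_fun {g : Equiv.Perm GolayPt} (hg : g ∈ M24) (f : GolayPt → GolayPt)
    (hf : ∀ p, g p = f p) : m24chk (tabOfFun f) = true := by
  have : tabOfFun f = tabOfFun g := by
    unfold tabOfFun
    apply List.map_congr_left
    intro i _
    rw [hf]
  rw [this]
  exact m24chk_of_mem hg (isTable_tabOfFun g)

/-! ### membership of the generators -/

/-- the unit `2` -/
def two23 : (ZMod 23)ˣ := ⟨2, 12, by decide, by decide⟩

theorem muP_mul (u v : (ZMod 23)ˣ) : muP (u * v) = muP u * muP v := by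
  ext1 p
  cases p with
  | none => rfl
  | some k =>
    rw [Equiv.Perm.mul_apply, muP_some, muP_some, muP_some, Units.val_mul, mul_assoc]

/-- multiplication as a homomorphism -/
def muHom : (ZMod 23)ˣ →* Equiv.Perm GolayPt where
  toFun := muP
  map_one' := muP_one
  map_mul' := muP_mul

theorem muP_pow (u : (ZMod 23)ˣ) (n : ℕ) : muP (u ^ n) = muP u ^ n := map_pow muHom u n

theorem muP_inv (u : (ZMod 23)ˣ) : muP u⁻¹ = (muP u)⁻¹ := map_inv muHom u

theorem muP_two_mem : muP two23 ∈ M24 := by
  apply mem_of_m24chk (isTable_tabOfFun _)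
  decide +kernel

theorem sq_eq_two_pow : ∀ r : (ZMod 23)ˣ, ∃ j < 11, r * r = two23 ^ j := by decide +kernel

theorem muP_sq_mem_M24 (r : (ZMod 23)ˣ) : muP (r * r) ∈ M24 := by
  obtain ⟨j, _, hj⟩ := sq_eq_two_pow r
  rw [hj, muP_pow]
  exact M24.pow_mem muP_two_mem j

theorem L23_le_M24 : L23 ≤ M24 := by
  rw [L23, Subgroup.closure_le]
  rintro g ((rfl | hg) | ⟨u, ⟨r, rfl⟩, rfl⟩)
  · exact gA_mem_M24
  · rw [Set.mem_singleton_iff] at hg
    subst hg
    exact projInv_mem_M24
  · exact muP_sq_mem_M24 r

theorem F23_le_M24 : F23 ≤ M24 := F23_le_L23.trans L23_le_M24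

theorem muP_neg_one_not_mem : muP (-1) ∉ M24 := by
  intro h
  have := m24chk_of_mem h (isTable_tabOfFun _)
  revert this
  decide +kernel

/-! ### the normaliser of the group of translations -/

/-- translations as a homomorphism -/
def trHom : Multiplicative (ZMod 23) →* Equiv.Perm GolayPt where
  toFun x := trP x.toAdd
  map_one' := trP_zero
  map_mul' x y := trP_add x.toAdd y.toAdd

/-- the group of translations -/
def P23 : Subgroup (Equiv.Perm GolayPt) := Subgroup.zpowers (trP 1)

theorem mem_P23 {h : Equiv.Perm GolayPt} (hh : h ∈ P23) : ∃ a : ZMod 23, h = trP a := by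
  have hle : P23 ≤ trHom.range := Subgroup.zpowers_le.mpr ⟨Multiplicative.ofAdd 1, rfl⟩
  obtain ⟨x, hx⟩ := hle hh
  exact ⟨x.toAdd, hx.symm⟩

theorem trP_mem_P23 (a : ZMod 23) : trP a ∈ P23 := by
  have : a = ((ZMod.val a : ℕ) : ZMod 23) := (ZMod.natCast_zmod_val a).symm
  rw [this, trP_natCast]
  exact Subgroup.pow_mem _ (Subgroup.mem_zpowers _) _

theorem orderOf_trP_one : orderOf (trP 1) = 23 := by
  apply orderOf_eq_prime
  · rw [← trP_natCast]
    have : ((23 : ℕ) : ZMod 23) = 0 := by decide
    rw [this, trP_zero]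
  · intro h
    have h1 := congrArg (fun g : Equiv.Perm GolayPt => g (some 0)) h
    simp only [trP_some, Equiv.Perm.one_apply, zero_add] at h1
    exact absurd (Option.some.inj h1) (by decide)

theorem card_P23 : Nat.card P23 = 23 := by
  rw [P23, Nat.card_zpowers, orderOf_trP_one]

theorem P23_le_F23 : P23 ≤ F23 := Subgroup.zpowers_le.mpr trP_one_mem

theorem sq_or_neg_sq : ∀ u : (ZMod 23)ˣ, (∃ r, u = r * r) ∨ (∃ r, u = -(r * r)) := by
  decide +kernel

theorem some_of_fix_none {g : Equiv.Perm GolayPt} (hfix : g none = none) (t : ZMod 23) :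
    ∃ s, g (some t) = some s := by
  cases h : g (some t) with
  | none =>
    rw [← hfix] at h
    exact absurd (g.injective h) (by simp)
  | some s => exact ⟨s, rfl⟩

/-- an element of `M23` normalising the translations is affine with a square multiplier -/
theorem mem_F23_of_normalizes {g : Equiv.Perm GolayPt} (hg : g ∈ M24) (hfix : g none = none)
    (hn : g * trP 1 * g⁻¹ ∈ P23) : g ∈ F23 := by
  obtain ⟨a, ha⟩ := mem_P23 hn
  have hcomm : ∀ p, g (trP 1 p) = trP a (g p) := by
    intro p
    have h1 : g * trP 1 = trP a * g := mul_inv_eq_iff_eq_mul.mp ha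
    exact congrArg (fun f : Equiv.Perm GolayPt => f p) h1
  obtain ⟨b, hb⟩ := some_of_fix_none hfix 0
  have key : ∀ n : ℕ, g (some (n : ZMod 23)) = some (b + n * a) := by
    intro n
    induction n with
    | zero => rw [Nat.cast_zero, zero_mul, add_zero, hb]
    | succ n ih =>
      have h1 := hcomm (some (n : ZMod 23))
      rw [trP_some, ih, trP_some] at h1
      rw [Nat.cast_succ, h1]
      congr 1
      ring
  have ha0 : a ≠ 0 := by
    intro h0
    have h1 := key 1
    rw [h0, mul_zero, add_zero, ← hb, Nat.cast_one] at h1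
    exact absurd (Option.some.inj (g.injective h1)) (by decide)
  have hg_eq : g = trP b * muP (Units.mk0 a ha0) := by
    ext1 p
    cases p with
    | none => rw [hfix]; rfl
    | some t =>
      have : t = ((ZMod.val t : ℕ) : ZMod 23) := (ZMod.natCast_zmod_val t).symm
      rw [Equiv.Perm.mul_apply, muP_some, trP_some, Units.val_mk0]
      conv_lhs => rw [this]
      rw [key, ZMod.natCast_zmod_val]
      congr 1
      ring
  rcases sq_or_neg_sq (Units.mk0 a ha0) with ⟨r, hr⟩ | ⟨r, hr⟩
  · rw [hg_eq, hr]
    exact F23.mul_mem (trP_mem b) (muP_sq_mem r)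
  · exfalso
    apply muP_neg_one_not_mem
    have h1 : muP (-1) = (muP (r * r))⁻¹ * ((trP b)⁻¹ * g) := by
      rw [hg_eq, inv_mul_cancel_left, hr, ← muP_inv, ← muP_mul]
      congr 1
      rw [mul_neg, inv_mul_cancel]
    rw [h1]
    exact M24.mul_mem (M24.inv_mem (muP_sq_mem_M24 r))
      (M24.mul_mem (M24.inv_mem (F23_le_M24 (trP_mem b))) hg)

/-- an element conjugating a generator of a finite cyclic group into the group normalises it -/
theorem mem_normalizer_zpowers {G : Type*} [Group G] [Finite G] {c x : G}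
    (h : c * x * c⁻¹ ∈ Subgroup.zpowers x) :
    c ∈ Subgroup.normalizer (Subgroup.zpowers x : Set G) := by
  have hfwd : ∀ n ∈ Subgroup.zpowers x, c * n * c⁻¹ ∈ Subgroup.zpowers x := by
    intro n hn
    obtain ⟨k, rfl⟩ := Subgroup.mem_zpowers_iff.mp hn
    rw [← conj_zpow]
    exact Subgroup.zpow_mem _ h k
  let φ : Subgroup.zpowers x → Subgroup.zpowers x := fun n => ⟨c * n.1 * c⁻¹, hfwd n.1 n.2⟩
  have hinj : Function.Injective φ := by
    intro n m hnm
    apply Subtype.ext
    have : c * n.1 * c⁻¹ = c * m.1 * c⁻¹ := congrArg Subtype.val hnm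
    exact mul_left_cancel (mul_right_cancel this)
  have hsurj := Finite.surjective_of_injective hinj
  rw [Subgroup.mem_normalizer_iff]
  intro n
  constructor
  · exact hfwd n
  · intro hn
    obtain ⟨m, hm⟩ := hsurj ⟨_, hn⟩
    have : c * m.1 * c⁻¹ = c * n * c⁻¹ := congrArg Subtype.val hm
    have h2 : m.1 = n := mul_left_cancel (mul_right_cancel this)
    rw [← h2]
    exact m.2

theorem F23_le_normalizer_P23 : F23 ≤ Subgroup.normalizer (P23 : Set (Equiv.Perm GolayPt)) := by
  rw [F23, Subgroup.closure_le]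
  rintro g (rfl | ⟨u, _, rfl⟩)
  · exact Subgroup.le_normalizer (Subgroup.mem_zpowers _)
  · apply mem_normalizer_zpowers
    have : muP u * trP 1 * (muP u)⁻¹ = trP (u : ZMod 23) := by
      rw [← muP_inv]
      ext1 p
      cases p with
      | none => rfl
      | some k =>
        simp only [Equiv.Perm.mul_apply, muP_some, trP_some]
        congr 1
        rw [mul_add, ← mul_assoc, ← Units.val_mul, mul_inv_cancel, Units.val_one, one_mul, mul_one]
    show muP u * trP 1 * (muP u)⁻¹ ∈ Subgroup.zpowers (trP 1)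
    rw [this]
    exact trP_mem_P23 _

end Cfsg.Agent.Helper27
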