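import Cfsg.Agent.Helper27.M23Base

/-!
Kernel enumeration of the maps of the 24 points normalising the multiplications by squares.
-/

set_option autoImplicit false

namespace Cfsg.Agent.Helper27

open Cfsg Cfsg.Agent.Helper7

/-- discrete logarithms: `t = ± 2 ^ j` -/
def dlogT : List ℕ := [0, 0, 1, 8, 2, 6, 9, 4, 3, 5, 7, 10, 10, 7, 5, 3, 4, 9, 6, 2, 8, 1, 0]

/-- the table of squares -/
def sqT : List Bool := [false, true, true, true, true, false, true, false, true, true, false, false,
  true, true, false, false, true, false, true, false, false, false, false]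

/-- the candidate normalising maps: `± 2 ^ j ↦ v ^ j * (x or y)` -/
def candFun (v x y : ZMod 23) : GolayPt → GolayPt
  | none => none
  | some t => some (if t = 0 then 0 else
      v ^ (dlogT.getD t.val 0) * (if sqT.getD t.val false then x else y))

theorem dlog_spec : ∀ t : ZMod 23, t ≠ 0 →
    t = (if sqT.getD t.val false then 1 else -1) * 2 ^ (dlogT.getD t.val 0) := by decide +kernel

/-- the triples `(v, x, y)` for which the candidate lies in `M24` -/
def goodList : List (ℕ × ℕ × ℕ) := [(2, 1, 22), (2, 2, 21), (2, 3, 20), (2, 4, 19), (2, 6, 17), (2, 8, 15), (2, 9, 14), (2, 12, 11), (2, 13, 10), (2, 16, 7), (2, 18, 5), (6, 1, 10), (6, 2, 20), (6, 3, 7), (6, 4, 17), (6, 6, 14), (6, 8, 11), (6, 9, 21), (6, 12, 5), (6, 13, 15), (6, 16, 22), (6, 18, 19), (8, 1, 11), (8, 2, 22), (8, 3, 10), (8, 4, 21), (8, 6, 20), (8, 8, 19), (8, 9, 7), (8, 12, 17), (8, 13, 5), (8, 16, 15), (8, 18, 14), (9, 1, 17), (9, 2, 11), (9, 3, 5), (9, 4, 22), (9, 6, 10), (9, 8, 21), (9, 9, 15), (9, 12, 20), (9,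 13, 14), (9, 16, 19), (9, 18, 7), (16, 1, 7), (16, 2, 14), (16, 3, 21), (16, 4, 5), (16, 6, 19), (16, 8, 10), (16, 9, 17), (16, 12, 15), (16, 13, 22), (16, 16, 20), (16, 18, 11)]

set_option maxRecDepth 100000 in
theorem normChk : ∀ v x y : ZMod 23, m24chk (tabOfFun (candFun v x y)) = true →
    (v.val, x.val, y.val) ∈ goodList := by decide +kernel

end Cfsg.Agent.Helper27
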