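import Cfsg.Agent.Helper27.CodeEnum
import Cfsg.Agent.Helper27.OutM23

/-!
Generation of `M23` by pairs of elements: a criterion through the maximal subgroup `23:11`, the
Ree–Scott bound for generating triples, and the bounds on the number of cycles.
-/

set_option autoImplicit false

namespace Cfsg.Agent.Helper27.M23Gen

open Cfsg Cfsg.Agent.Helper7 Cfsg.Agent.Helper27.FusTab Cfsg.Agent.Helper27.FusCode
  Cfsg.Agent.Helper27.CodeEnum Cfsg.Agent.Helper27.ReeScott

theorem orderOf_conj' {G : Type*} [Group G] (g x : G) : orderOf (g * x * g⁻¹) = orderOf x := by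
  have := MulEquiv.orderOf_eq (MulAut.conj g) x
  rwa [MulAut.conj_apply] at this

theorem not_sq23 : ¬ 23 ^ (1 + 1) ∣ Nat.card M23p := by
  rw [card_M23p]; norm_num

/-- a subgroup of `M23` containing a Frobenius group `23:11` and an element of order prime to `253` is
`M23` -/
theorem gen23 (K : Subgroup (Equiv.Perm GolayPt)) (hKM : K ≤ M23p) (c d e : Equiv.Perm GolayPt)
    (hc : c ∈ K) (hd : d ∈ K) (he : e ∈ K) (hoc : orderOf c = 23) (hod : orderOf d = 11)
    (k : ℕ) (hdc : d * c = c ^ k * d) (he1 : e ≠ 1) (n : ℕ) (hen : e ^ n = 1)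
    (hn : Nat.Coprime n 253) : K = M23p := by
  have : Fact (Nat.Prime 23) := ⟨by norm_num⟩
  have hc23 : c ^ (23 ^ 1) = 1 := by rw [pow_one, ← hoc, pow_orderOf_eq_one]
  obtain ⟨g, hgM, hgc⟩ := exists_conj_mem_of_card M23p 23 P23 (P23_le_F23.trans F23_le_M23p) 1
    (by rw [card_P23, pow_one]) not_sq23 c (hKM hc) 1 hc23
  -- the conjugate subgroup
  let φ : Equiv.Perm GolayPt →* Equiv.Perm GolayPt := (MulAut.conj g).toMonoidHom
  have hφ : ∀ x, φ x = g * x * g⁻¹ := fun x => rfl
  set K' := K.map φ with hK'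
  have hmemK' : ∀ x ∈ K, g * x * g⁻¹ ∈ K' := fun x hx => Subgroup.mem_map.mpr ⟨x, hx, hφ x⟩
  have hK'M : K' ≤ M23p := by
    intro x hx
    obtain ⟨y, hy, rfl⟩ := Subgroup.mem_map.mp hx
    rw [hφ]
    exact M23p.mul_mem (M23p.mul_mem hgM (hKM hy)) (M23p.inv_mem hgM)
  set c' := g * c * g⁻¹ with hc'
  set d' := g * d * g⁻¹ with hd'
  have hoc' : orderOf c' = 23 := by rw [hc', orderOf_conj', hoc]
  have hod' : orderOf d' = 11 := by rw [hd', orderOf_conj', hod]
  have hzp : Subgroup.zpowers c' = P23 := by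
    apply Subgroup.eq_of_le_of_card_ge (Subgroup.zpowers_le.mpr hgc)
    rw [Nat.card_zpowers, hoc', card_P23]
  have hdc' : d' * c' * d'⁻¹ = c' ^ k := by
    have h0 : d * c * d⁻¹ = c ^ k := mul_inv_eq_iff_eq_mul.mpr hdc
    calc d' * c' * d'⁻¹ = g * (d * c * d⁻¹) * g⁻¹ := by rw [hc', hd']; group
      _ = c' ^ k := by rw [h0, hc', conj_pow]
  have hnorm : d' * trP 1 * d'⁻¹ ∈ P23 := by
    have h1 : trP 1 ∈ Subgroup.zpowers c' := hzp ▸ Subgroup.mem_zpowers (trP 1)
    rw [Subgroup.mem_zpowers_iff] at h1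
    obtain ⟨j, hj⟩ := h1
    rw [← hj, ← conj_zpow, hdc']
    rw [← hzp]
    exact Subgroup.zpow_mem _ (Subgroup.pow_mem _ (Subgroup.mem_zpowers c') k) j
  have hd'M : d' ∈ M23p := hK'M (hmemK' d hd)
  have hd'F : d' ∈ F23 :=
    mem_F23_of_normalizes hd'M.1 (MulAction.mem_stabilizer_iff.mp hd'M.2) hnorm
  have hc'F : c' ∈ F23 := P23_le_F23 hgc
  have hFK : F23 ≤ K' := by
    have h23 : 23 ∣ Nat.card ↥(F23 ⊓ K') := by
      rw [← hoc']
      exact Subgroup.orderOf_dvd_natCard _ ⟨hc'F, hmemK' c hc⟩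
    have h11 : 11 ∣ Nat.card ↥(F23 ⊓ K') := by
      rw [← hod']
      exact Subgroup.orderOf_dvd_natCard _ ⟨hd'F, hmemK' d hd⟩
    have h253 : 253 ∣ Nat.card ↥(F23 ⊓ K') :=
      Nat.Coprime.mul_dvd_of_dvd_of_dvd (by norm_num : Nat.Coprime 23 11) h23 h11
    have heq : F23 ⊓ K' = F23 := by
      apply Subgroup.eq_of_le_of_card_ge inf_le_left
      rw [card_F23]
      exact Nat.le_of_dvd Nat.card_pos h253
    rw [← heq]
    exact inf_le_right
  rcases F23_max K' hFK hK'M with h | h
  · exfalso
    have he'F : g * e * g⁻¹ ∈ F23 := h ▸ hmemK' e he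
    have h1 : orderOf (g * e * g⁻¹) ∣ 253 := by
      rw [← card_F23]
      exact Subgroup.orderOf_dvd_natCard _ he'F
    rw [orderOf_conj'] at h1
    have h2 : orderOf e ∣ n := orderOf_dvd_of_pow_eq_one hen
    have h3 : orderOf e ∣ Nat.gcd n 253 := Nat.dvd_gcd h2 h1
    rw [hn, Nat.dvd_one, orderOf_eq_one_iff] at h3
    exact he1 h3
  · apply le_antisymm hKM
    intro m hm
    have h1 : g * m * g⁻¹ ∈ K' := by
      rw [h]
      exact M23p.mul_mem (M23p.mul_mem hgM hm) (M23p.inv_mem hgM)
    obtain ⟨y, hy, hy2⟩ := Subgroup.mem_map.mp h1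
    rw [hφ] at hy2
    have : y = m := mul_left_cancel (mul_right_cancel hy2)
    rw [← this]
    exact hy

/-- image in the ambient group of the subgroup generated by two elements of a subgroup -/
theorem closure_pair_map {Γ : Type*} [Group Γ] (H : Subgroup Γ) (x y : H) :
    (Subgroup.closure ({x, y} : Set H)).map H.subtype = Subgroup.closure {x.1, y.1} := by
  rw [MonoidHom.map_closure, Set.image_pair]
  rfl

theorem closure_pair_eq_top_iff {Γ : Type*} [Group Γ] (H : Subgroup Γ) (x y : H) :
    Subgroup.closure ({x, y} : Set H) = ⊤ ↔ Subgroup.closure {x.1, y.1} = H := by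
  rw [← closure_pair_map]
  constructor
  · intro h
    rw [h, ← MonoidHom.range_eq_map, Subgroup.range_subtype]
  · intro h
    rw [eq_top_iff]
    intro g _
    have hg : g.1 ∈ (Subgroup.closure ({x, y} : Set H)).map H.subtype := by
      rw [h]
      exact g.2
    obtain ⟨g', hg', hgg'⟩ := Subgroup.mem_map.mp hg
    have : g' = g := Subtype.ext hgg'
    rw [← this]
    exact hg'

theorem card_golayPt : Fintype.card GolayPt = 24 := by
  rw [Fintype.card_option, ZMod.card]

theorem support_trP_one : (trP 1).support.card = 23 := by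
  have h : (trP 1).support = Finset.univ.erase (none : GolayPt) := by
    ext x
    rw [Equiv.Perm.mem_support, Finset.mem_erase]
    cases x with
    | none => simp
    | some k =>
      rw [trP_some]
      have h1 : (1 : ZMod 23) ≠ 0 := by decide
      simp [h1]
  rw [h, Finset.card_erase_of_mem (Finset.mem_univ _), Finset.card_univ, card_golayPt]

theorem cyc_trP_one : cyc (trP 1) = 2 := by
  have h := prime_cyc (trP 1) 23 (by norm_num) orderOf_trP_one
  rw [support_trP_one, card_golayPt] at h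
  generalize cyc (trP 1) = c at h ⊢
  omega

theorem orbCount_M23p_le : orbCount M23p ≤ 2 := by
  have h1 : Subgroup.zpowers (trP 1) ≤ M23p :=
    Subgroup.zpowers_le.mpr (F23_le_M23p trP_one_mem)
  have h2 := orbCount_mono h1
  have h3 : orbCount (Subgroup.zpowers (trP 1)) = 2 := cyc_trP_one
  omega

/-- the Ree–Scott bound in `M23` -/
theorem cyc_bound (X Y Z : Equiv.Perm GolayPt) (h : X * Y * Z = 1)
    (hgen : Subgroup.closure {X, Y} = M23p) : cyc X + cyc Y + cyc Z ≤ 28 := by
  have h1 := ree_scott X Y Z h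
  rw [hgen, card_golayPt] at h1
  have h2 := orbCount_M23p_le
  omega

theorem cyc_pos (X : Equiv.Perm GolayPt) : 1 ≤ cyc X := by
  unfold cyc orbCount
  have : Nonempty (MulAction.orbitRel.Quotient (Subgroup.zpowers X) GolayPt) :=
    ⟨Quotient.mk'' none⟩
  exact Nat.card_pos

theorem supp_le (X : Equiv.Perm GolayPt) : X.support.card ≤ 24 := by
  rw [← card_golayPt]
  exact Finset.card_le_univ _

theorem cyc_ge_of_order5 (X : Equiv.Perm GolayPt) (hX : orderOf X = 5) : 8 ≤ cyc X := by
  have h := prime_cyc X 5 (by norm_num) hX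
  rw [card_golayPt] at h
  have := supp_le X
  omega

theorem cyc_ge_of_order7 (X : Equiv.Perm GolayPt) (hX : orderOf X = 7) : 6 ≤ cyc X := by
  have h := prime_cyc X 7 (by norm_num) hX
  rw [card_golayPt] at h
  have := supp_le X
  omega

theorem cyc_ge_of_order2 (X : Equiv.Perm GolayPt) (hX : orderOf X = 2) (hs : X.support.card ≤ 16) :
    16 ≤ cyc X := by
  have h := prime_cyc X 2 (by norm_num) hX
  rw [card_golayPt] at h
  omega

theorem cyc_ge_of_order3 (X : Equiv.Perm GolayPt) (hX : orderOf X = 3) (hs : X.support.card ≤ 18) :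
    12 ≤ cyc X := by
  have h := prime_cyc X 3 (by norm_num) hX
  rw [card_golayPt] at h
  omega

/-- the list of fixed indices for `M23` -/
def fix23 : List ℕ := [23]

theorem hfix23 : ∀ i ∈ fix23, i < 24 := by decide

theorem M23p_eq_fix : M23p = fixG M24 fix23 := by
  ext g
  rw [M23p, Subgroup.mem_inf, mem_fixG]
  constructor
  · rintro ⟨h1, h2⟩
    refine ⟨h1, fun i hi => ?_⟩
    have hi' : i = 23 := by simpa [fix23] using hi
    subst hi'
    exact MulAction.mem_stabilizer_iff.mp h2
  · rintro ⟨h1, h2⟩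
    exact ⟨h1, MulAction.mem_stabilizer_iff.mpr (h2 23 (by simp [fix23]))⟩

theorem exists_of_chk {s : ℕ} (h : chkT fix23 (dec s) = true) : ∃ g ∈ M23p, IsCode s g := by
  rw [M23p_eq_fix]
  exact tabled_of_chkT hfix23 h

/-- bound on the number of moved points of the elements of order `p` from an explicit Sylow subgroup -/
theorem supp_le_of_sylow (p k bound : ℕ) (hp : p.Prime) (gensC L : List ℕ) (prog : List (ℕ × ℕ))
    (hgens : gensC.all (fun s => chkT fix23 (dec s)) = true)
    (hinv : gensC.all (fun s => gensC.any (fun s' => decide (dec (compU s s') = idT))) = true)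
    (hL : build gensC prog [idC] = L)
    (hclosed : L.all (fun l => gensC.all (fun s => memN (compU l s) L)) = true)
    (hnodup : nodupB L = true)
    (hlen : L.length = p ^ k) (hk : ¬ p ^ (k + 1) ∣ 10200960)
    (hsupp : L.all (fun l => Nat.beq l idC || (!(Nat.beq (powC l p) idC) ||
      Nat.ble (suppcnt l) bound)) = true)
    (X : Equiv.Perm GolayPt) (hXM : X ∈ M23p) (hX : orderOf X = p) : X.support.card ≤ bound := by
  have : Fact p.Prime := ⟨hp⟩
  have hgens' : ∀ s ∈ gensC, ∃ g ∈ M23p, IsCode s g := by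
    intro s hs
    rw [List.all_eq_true] at hgens
    exact exists_of_chk (hgens s hs)
  have hinv' : ∀ s ∈ gensC, ∃ s' ∈ gensC, dec (compU s s') = idT := by
    intro s hs
    rw [List.all_eq_true] at hinv
    have h1 := hinv s hs
    rw [List.any_eq_true] at h1
    obtain ⟨s', hs', h2⟩ := h1
    exact ⟨s', hs', of_decide_eq_true h2⟩
  have hclosed' : ∀ l ∈ L, ∀ s ∈ gensC, compU l s ∈ L := by
    intro l hl s hs
    rw [List.all_eq_true] at hclosed
    have h1 := hclosed l hl
    rw [List.all_eq_true] at h1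
    exact (memN_iff _ _).mp (h1 s hs)
  have hcard := card_closure M23p gensC L prog hgens' hinv' hL hclosed' hnodup
  have hle := closure_codedSet_le M23p gensC hgens'
  have hidL : idC ∈ L := by
    rw [← hL]
    exact subset_build gensC prog [idC] idC (List.mem_singleton_self _)
  have henum := enum_closure M23p gensC L hgens' hinv' hidL hclosed'
  have hXp : X ^ (p ^ 1) = 1 := by rw [pow_one, ← hX, pow_orderOf_eq_one]
  obtain ⟨g, _, hgX⟩ := exists_conj_mem_of_card M23p p _ hle k (hcard.trans hlen)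
    (by rw [card_M23p]; exact hk) X hXM 1 hXp
  obtain ⟨l, hl, hlc⟩ := henum _ hgX
  rw [List.all_eq_true] at hsupp
  have h1 := hsupp l hl
  rw [Bool.or_eq_true, Bool.or_eq_true] at h1
  have hne : g * X * g⁻¹ ≠ 1 := by
    intro h
    have : orderOf (g * X * g⁻¹) = 1 := by rw [h, orderOf_one]
    rw [orderOf_conj', hX] at this
    exact hp.one_lt.ne' this
  rcases h1 with h1 | h1 | h1
  · exact absurd (eq_one_of_code_eq_idC hlc (Nat.eq_of_beq_eq_true h1)) hne
  · exfalso
    have h2 := isCode_powC hlc p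
    have h3 : (g * X * g⁻¹) ^ p = 1 := by
      rw [conj_pow, ← hX, pow_orderOf_eq_one, mul_one, mul_inv_cancel]
    rw [h3] at h2
    have hpos : p = (p - 1) + 1 := by have := hp.one_lt; omega
    have hnorm : encL (dec (powC l p)) = powC l p := by
      rw [hpos, powC]
      exact norm_compU _ _
    have h4 := isCode_unique h2 isCode_one hnorm norm_idC
    rw [h4] at h1
    simp at h1
  · rw [← Equiv.Perm.card_support_conj (σ := g) (τ := X), support_card_of_isCode hlc]
    exact Nat.le_of_ble_eq_true h1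

end Cfsg.Agent.Helper27.M23Gen
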