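import Cfsg.Agent.Helper27.M23Chk
import Cfsg.Agent.Helper7.M24Chain

/-!
`PSL(2, 23)` is a maximal subgroup of `M24` and `23:11` a maximal subgroup of `M23`.
-/

set_option autoImplicit false

namespace Cfsg.Agent.Helper27

open Cfsg Cfsg.Agent.Helper7

/-! ### the normaliser of the group of square multiplications -/

/-- multiplication by `2` -/
def mu23 : Equiv.Perm GolayPt := muP two23

/-- the group of multiplications by squares -/
def Q23 : Subgroup (Equiv.Perm GolayPt) := Subgroup.zpowers mu23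

theorem mem_Q23 {h : Equiv.Perm GolayPt} (hh : h ∈ Q23) : ∃ v : (ZMod 23)ˣ, h = muP v := by
  have hle : Q23 ≤ muHom.range := Subgroup.zpowers_le.mpr ⟨two23, rfl⟩
  obtain ⟨x, hx⟩ := hle hh
  exact ⟨x, hx.symm⟩

theorem orderOf_mu23 : orderOf mu23 = 11 := by
  have : Fact (Nat.Prime 11) := ⟨by norm_num⟩
  apply orderOf_eq_prime
  · rw [mu23, ← muP_pow]
    have : two23 ^ 11 = 1 := by decide +kernel
    rw [this, muP_one]
  · intro h
    have h1 := congrArg (fun g : Equiv.Perm GolayPt => g (some 1)) h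
    simp only [mu23, muP_some, Equiv.Perm.one_apply, mul_one] at h1
    exact absurd (Option.some.inj h1) (by decide)

theorem card_Q23 : Nat.card Q23 = 11 := by
  rw [Q23, Nat.card_zpowers, orderOf_mu23]

theorem Q23_le_F23 : Q23 ≤ F23 := by
  apply Subgroup.zpowers_le.mpr
  exact Subgroup.subset_closure (Or.inr ⟨two23, by decide +kernel, rfl⟩)

theorem two23_val : ((two23 : (ZMod 23)ˣ) : ZMod 23) = 2 := rfl

/-- an element of `M23` normalising the multiplications by squares is one of the 55 candidates -/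
theorem cand_of_normalizes {g : Equiv.Perm GolayPt} (hg : g ∈ M24) (hfix : g none = none)
    (hn : g * mu23 * g⁻¹ ∈ Q23) :
    ∃ v x y : ZMod 23, (∀ p, g p = candFun v x y p) ∧ (v.val, x.val, y.val) ∈ goodList := by
  obtain ⟨v, hv⟩ := mem_Q23 hn
  have hcomm : ∀ p, g (mu23 p) = muP v (g p) := by
    intro p
    have h1 : g * mu23 = muP v * g := mul_inv_eq_iff_eq_mul.mp hv
    exact congrArg (fun f : Equiv.Perm GolayPt => f p) h1
  have hs : ∀ t, ∃ s, g (some t) = some s := some_of_fix_none hfix
  choose h hh using hs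
  have h2 : ∀ t, h (2 * t) = v * h t := by
    intro t
    have h1 := hcomm (some t)
    rw [mu23, muP_some, two23_val, hh, hh, muP_some] at h1
    exact Option.some.inj h1
  have hinj : Function.Injective h := fun a b hab => by
    have : g (some a) = g (some b) := by rw [hh, hh, hab]
    exact Option.some.inj (g.injective this)
  have hv1 : (v : ZMod 23) ≠ 1 := by
    intro h1
    have h3 := h2 1
    rw [h1, one_mul, mul_one] at h3
    exact absurd (hinj h3) (by decide)
  have h0 : h 0 = 0 := by
    have h3 := h2 0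
    rw [mul_zero] at h3
    have h4 : ((v : ZMod 23) - 1) * h 0 = 0 := by linear_combination -h3
    rcases mul_eq_zero.mp h4 with h5 | h5
    · exact absurd (sub_eq_zero.mp h5) hv1
    · exact h5
  have hpow : ∀ (s : ZMod 23) (j : ℕ), h (s * 2 ^ j) = (v : ZMod 23) ^ j * h s := by
    intro s j
    induction j with
    | zero => simp
    | succ j ih =>
      have : s * 2 ^ (j + 1) = 2 * (s * 2 ^ j) := by ring
      rw [this, h2, ih]
      ring
  have hfun : ∀ p, g p = candFun v (h 1) (h (-1)) p := by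
    intro p
    cases p with
    | none => exact hfix
    | some t =>
      rw [hh]
      show some (h t) = some _
      congr 1
      by_cases ht : t = 0
      · rw [if_pos ht, ht, h0]
      · rw [if_neg ht]
        have hd := dlog_spec t ht
        conv_lhs => rw [hd]
        rw [hpow]
        by_cases hsq : sqT.getD t.val false = true
        · simp only [hsq, if_true]
        · simp only [hsq]
          rfl
  exact ⟨v, h 1, h (-1), hfun, normChk _ _ _ (m24chk_fun hg _ hfun)⟩

/-- the normaliser of `Q23` in `M23` -/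
def NQ23 : Subgroup (Equiv.Perm GolayPt) :=
  Subgroup.normalizer (Q23 : Set (Equiv.Perm GolayPt)) ⊓
    (M24 ⊓ MulAction.stabilizer (Equiv.Perm GolayPt) (none : GolayPt))

/-- the tables of the 55 candidates -/
def goodTabs : Finset (List ℕ) :=
  (goodList.map fun e => tabOfFun (candFun (e.1 : ZMod 23) (e.2.1 : ZMod 23) (e.2.2 : ZMod 23))).toFinset

theorem card_goodTabs_le : goodTabs.card ≤ 55 := by
  unfold goodTabs
  refine (List.toFinset_card_le _).trans ?_
  rw [List.length_map]
  decide

theorem tab_mem_goodTabs {g : Equiv.Perm GolayPt} (hg : g ∈ NQ23) : tabOfFun g ∈ goodTabs := by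
  obtain ⟨hn, hM, hfix⟩ := hg
  have hmu : mu23 ∈ Q23 := Subgroup.mem_zpowers _
  have h1 : g * mu23 * g⁻¹ ∈ Q23 := (Subgroup.mem_normalizer_iff.mp hn mu23).mp hmu
  obtain ⟨v, x, y, hfun, hgood⟩ := cand_of_normalizes hM hfix h1
  unfold goodTabs
  rw [List.mem_toFinset, List.mem_map]
  refine ⟨_, hgood, ?_⟩
  simp only [ZMod.natCast_zmod_val]
  unfold tabOfFun
  apply List.map_congr_left
  intro i _
  rw [hfun]

theorem card_NQ23_le : Nat.card NQ23 ≤ 55 := by
  let τ : NQ23 → goodTabs := fun g => ⟨tabOfFun g.1, tab_mem_goodTabs g.2⟩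
  have hinj : Function.Injective τ := by
    intro g g' h
    apply Subtype.ext
    have h1 : tabOfFun g.1 = tabOfFun g'.1 := congrArg Subtype.val h
    have t1 := isTable_tabOfFun g.1
    have t2 := isTable_tabOfFun g'.1
    rw [← h1] at t2
    exact t1.inj t2
  have h1 := Nat.card_le_card_of_injective τ hinj
  have h2 : Nat.card goodTabs = goodTabs.card := by
    rw [Nat.card_eq_fintype_card, Fintype.card_coe]
  rw [h2] at h1
  exact h1.trans card_goodTabs_le

theorem Q23_le_NQ23 : Q23 ≤ NQ23 := by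
  intro g hg
  exact ⟨Subgroup.le_normalizer hg, F23_le_M24 (Q23_le_F23 hg), F23_fix_none (Q23_le_F23 hg)⟩

theorem cubeTwist_none : cubeTwist none = none := rfl

theorem cubeTwist_conj : cubeTwist * mu23 * cubeTwist⁻¹ = mu23 ^ 3 := by
  rw [mul_inv_eq_iff_eq_mul]
  have t1 := isTable_cubeTwist.mul (isTable_tabOfFun mu23)
  have t2 := (isTable_tabOfFun (mu23 ^ 3)).mul isTable_cubeTwist
  have : compT tC (tabOfFun (mu23 : Equiv.Perm GolayPt)) = compT (tabOfFun ((mu23 ^ 3 : Equiv.Perm GolayPt))) tC := by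
    decide +kernel
  rw [this] at t1
  exact t1.inj t2

theorem cubeTwist_mem_NQ23 : cubeTwist ∈ NQ23 := by
  refine ⟨?_, cubeTwist_mem_M24, cubeTwist_none⟩
  apply mem_normalizer_zpowers
  show cubeTwist * mu23 * cubeTwist⁻¹ ∈ Subgroup.zpowers mu23
  rw [cubeTwist_conj]
  exact Subgroup.pow_mem _ (Subgroup.mem_zpowers _) _

theorem orderOf_cubeTwist : orderOf cubeTwist = 5 := by
  have : Fact (Nat.Prime 5) := ⟨by norm_num⟩
  apply orderOf_eq_prime
  · have t2 := isTable_cubeTwist.mul isTable_cubeTwist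
    have t3 := t2.mul isTable_cubeTwist
    have t4 := t3.mul isTable_cubeTwist
    have t5 := t4.mul isTable_cubeTwist
    have h1 : compT (compT (compT (compT tC tC) tC) tC) tC = idT := by decide +kernel
    rw [h1] at t5
    have h2 : cubeTwist ^ 5 = cubeTwist * cubeTwist * cubeTwist * cubeTwist * cubeTwist := by
      simp [pow_succ]
    rw [h2]
    exact t5.inj isTable_one
  · intro h
    have h1 := isTable_cubeTwist.apply (some 1)
    rw [h] at h1
    revert h1
    decide +kernel

theorem card_NQ23 : Nat.card NQ23 = 55 := by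
  have h11 : 11 ∣ Nat.card NQ23 := by
    have := Subgroup.card_dvd_of_le Q23_le_NQ23
    rwa [card_Q23] at this
  have h5 : 5 ∣ Nat.card NQ23 := by
    have hle : Subgroup.zpowers cubeTwist ≤ NQ23 := Subgroup.zpowers_le.mpr cubeTwist_mem_NQ23
    have := Subgroup.card_dvd_of_le hle
    rwa [Nat.card_zpowers, orderOf_cubeTwist] at this
  have h55 : 55 ∣ Nat.card NQ23 :=
    Nat.Coprime.mul_dvd_of_dvd_of_dvd (by norm_num : Nat.Coprime 5 11) h5 h11
  have hle := card_NQ23_le
  have hpos : 0 < Nat.card NQ23 := Nat.card_pos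
  obtain ⟨k, hk⟩ := h55
  omega

/-! ### Sylow counting -/

theorem sylow_count {G : Type*} [Group G] [Finite G] (p : ℕ) [Fact p.Prime] (P : Subgroup G)
    (hP : Nat.card P = p) (hp2 : ¬ p ^ 2 ∣ Nat.card G) :
    ∃ n, n % p = 1 ∧ Nat.card G = Nat.card (Subgroup.normalizer (P : Set G)) * n := by
  have hpp : p.Prime := Fact.out
  have hdvd : p ∣ Nat.card G := hP ▸ Subgroup.card_subgroup_dvd_card P
  have hpos : Nat.card G ≠ 0 := Nat.card_pos.ne'
  have hfac : (Nat.card G).factorization p = 1 := by
    have h1 : 0 < (Nat.card G).factorization p := hpp.factorization_pos_of_dvd hpos hdvd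
    have h2 : (Nat.card G).factorization p < 2 := by
      by_contra h
      rw [not_lt] at h
      exact hp2 ((pow_dvd_pow p h).trans (Nat.ordProj_dvd _ _))
    omega
  let S : Sylow p G := Sylow.ofCard P (by rw [hP, hfac, pow_one])
  refine ⟨Nat.card (Sylow p G), ?_, ?_⟩
  · have h1 := card_sylow_modEq_one p G
    have hp1 : 1 < p := hpp.one_lt
    unfold Nat.ModEq at h1
    rw [Nat.mod_eq_of_lt hp1] at h1
    exact h1
  · rw [S.card_eq_index_normalizer]
    exact (Subgroup.card_mul_index _).symm

theorem sylow_count_rel {G : Type*} [Group G] [Finite G] (p : ℕ) [Fact p.Prime]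
    (P K : Subgroup G) (hPK : P ≤ K) (hP : Nat.card P = p) (hp2 : ¬ p ^ 2 ∣ Nat.card K) :
    ∃ n, n % p = 1 ∧
      Nat.card K = Nat.card ↥(K ⊓ Subgroup.normalizer (P : Set G)) * n := by
  have hP' : Nat.card (P.subgroupOf K) = p := by
    rw [Nat.card_congr (Subgroup.subgroupOfEquivOfLe hPK).toEquiv, hP]
  obtain ⟨n, hn, hcard⟩ := sylow_count p (P.subgroupOf K) hP' hp2
  refine ⟨n, hn, ?_⟩
  rw [hcard, ← Subgroup.subgroupOf_normalizer_eq hPK, Nat.card_congr (subgroupOfEquivInf' _ _)]

theorem arith23 : ∀ j < 1754, (23 * j + 1) ∣ 40320 →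
    ((23 * (23 * j + 1)) % 11 = 1 ∨
      ((23 * (23 * j + 1)) % 5 = 0 ∧ (23 * (23 * j + 1) / 5) % 11 = 1)) →
    j = 0 ∨ j = 1753 := by decide +kernel

/-- `M23` as a group of permutations -/
def M23p : Subgroup (Equiv.Perm GolayPt) :=
  M24 ⊓ MulAction.stabilizer (Equiv.Perm GolayPt) (none : GolayPt)

theorem card_M23p : Nat.card M23p = 10200960 := by
  have h := card_stabilizer_m24 none
  rw [stab_subgroup_eq, Nat.card_congr (subgroupOfEquivInf' _ _)] at h
  exact h

theorem F23_le_M23p : F23 ≤ M23p := fun _ hg => ⟨F23_le_M24 hg, F23_fix_none hg⟩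

/-- `23:11` is a maximal subgroup of `M23` -/
theorem F23_max (K : Subgroup (Equiv.Perm GolayPt)) (hFK : F23 ≤ K) (hKM : K ≤ M23p) :
    K = F23 ∨ K = M23p := by
  have hdvd : Nat.card K ∣ 10200960 := card_M23p ▸ Subgroup.card_dvd_of_le hKM
  have h23 : ¬ 23 ^ 2 ∣ Nat.card K := fun h => absurd (h.trans hdvd) (by norm_num)
  have h11 : ¬ 11 ^ 2 ∣ Nat.card K := fun h => absurd (h.trans hdvd) (by norm_num)
  have : Fact (Nat.Prime 11) := ⟨by norm_num⟩
  obtain ⟨n, hn, hc⟩ := sylow_count_rel 23 P23 K (P23_le_F23.trans hFK) card_P23 h23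
  obtain ⟨m, hm, hc'⟩ := sylow_count_rel 11 Q23 K (Q23_le_F23.trans hFK) card_Q23 h11
  have hNP : K ⊓ Subgroup.normalizer (P23 : Set (Equiv.Perm GolayPt)) = F23 := by
    apply le_antisymm
    · rintro g ⟨hgK, hgN⟩
      have h1 := hKM hgK
      exact mem_F23_of_normalizes h1.1 h1.2
        ((Subgroup.mem_normalizer_iff.mp hgN _).mp (Subgroup.mem_zpowers _))
    · exact le_inf hFK F23_le_normalizer_P23
  rw [hNP, card_F23] at hc
  have hR1 : Nat.card ↥(K ⊓ Subgroup.normalizer (Q23 : Set (Equiv.Perm GolayPt))) ∣ 55 := by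
    rw [← card_NQ23]
    apply Subgroup.card_dvd_of_le
    rintro g ⟨hgK, hgN⟩
    exact ⟨hgN, hKM hgK⟩
  have hR2 : 11 ∣ Nat.card ↥(K ⊓ Subgroup.normalizer (Q23 : Set (Equiv.Perm GolayPt))) := by
    rw [← card_Q23]
    apply Subgroup.card_dvd_of_le
    exact le_inf (Q23_le_F23.trans hFK) Subgroup.le_normalizer
  generalize Nat.card ↥(K ⊓ Subgroup.normalizer (Q23 : Set (Equiv.Perm GolayPt))) = r at hc' hR1 hR2
  have hr : r = 11 ∨ r = 55 := by
    have hr55 : r ≤ 55 := Nat.le_of_dvd (by norm_num) hR1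
    obtain ⟨k, rfl⟩ := hR2
    have hk : k ≤ 5 := by omega
    interval_cases k
    · simp at hR1
    · left; rfl
    · exact absurd hR1 (by norm_num)
    · exact absurd hR1 (by norm_num)
    · exact absurd hR1 (by norm_num)
    · right; rfl
  have hn40320 : n ∣ 40320 := by
    rw [hc] at hdvd
    have : (253 : ℕ) * n ∣ 253 * 40320 := hdvd
    exact Nat.dvd_of_mul_dvd_mul_left (by norm_num) this
  have hnle : n ≤ 40320 := Nat.le_of_dvd (by norm_num) hn40320
  have hj : n = 23 * (n / 23) + 1 := by omega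
  have hjlt : n / 23 < 1754 := by omega
  have harith := arith23 (n / 23) hjlt (hj ▸ hn40320) (by
    rw [← hj]
    rcases hr with rfl | rfl
    · left; omega
    · right; omega)
  have hcard : Nat.card K = 253 ∨ Nat.card K = 10200960 := by
    rcases harith with h | h
    · left; omega
    · right; omega
  rcases hcard with h | h
  · left
    symm
    apply Subgroup.eq_of_le_of_card_ge hFK
    rw [card_F23, h]
  · right
    apply Subgroup.eq_of_le_of_card_ge hKM
    rw [card_M23p, h]

/-! ### maximality of `PSL(2, 23)` -/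

theorem card_of_transitive (K : Subgroup (Equiv.Perm GolayPt))
    (htrans : ∀ p : GolayPt, ∃ g ∈ K, g none = p) :
    Nat.card ↥(K ⊓ MulAction.stabilizer (Equiv.Perm GolayPt) (none : GolayPt)) * 24 = Nat.card K := by
  have h1 := Subgroup.card_mul_index (MulAction.stabilizer K (none : GolayPt))
  have horb : MulAction.orbit K (none : GolayPt) = Set.univ := by
    ext p
    simp only [Set.mem_univ, iff_true]
    obtain ⟨g, hg, rfl⟩ := htrans p
    exact ⟨⟨g, hg⟩, rfl⟩
  rw [MulAction.index_stabilizer, horb, Set.ncard_univ, stab_subgroup_eq,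
    Nat.card_congr (subgroupOfEquivInf' _ _)] at h1
  have h24 : Nat.card GolayPt = 24 := by
    rw [Nat.card_eq_fintype_card]
    rfl
  rw [h24] at h1
  exact h1

/-- `PSL(2, 23)` is a maximal subgroup of `M24` -/
theorem L23_max (K : Subgroup (Equiv.Perm GolayPt)) (hLK : L23 ≤ K) (hKM : K ≤ M24) :
    K = L23 ∨ K = M24 := by
  have htrans : ∀ p : GolayPt, ∃ g ∈ K, g none = p := by
    intro p
    obtain ⟨g, hg, h⟩ := L23_transitive p
    exact ⟨g, hLK hg, h⟩
  have hcard := card_of_transitive K htrans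
  have hF : F23 ≤ K ⊓ MulAction.stabilizer (Equiv.Perm GolayPt) (none : GolayPt) :=
    fun g hg => ⟨hLK (F23_le_L23 hg), F23_fix_none hg⟩
  have hM : K ⊓ MulAction.stabilizer (Equiv.Perm GolayPt) (none : GolayPt) ≤ M23p :=
    fun g hg => ⟨hKM hg.1, hg.2⟩
  rcases F23_max _ hF hM with h | h
  · left
    symm
    apply Subgroup.eq_of_le_of_card_ge hLK
    rw [← hcard, h, card_F23, card_L23]
  · right
    apply Subgroup.eq_of_le_of_card_ge hKM
    rw [← hcard, h, card_M23p, card_M24]

/-! ### transport to subgroups of subgroups -/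

theorem isCoatom_subgroupOf {G : Type*} [Group G] {A H : Subgroup G} (hAH : A ≤ H) (hne : A ≠ H)
    (hmax : ∀ K : Subgroup G, A ≤ K → K ≤ H → K = A ∨ K = H) : IsCoatom (A.subgroupOf H) := by
  constructor
  · intro h
    rw [Subgroup.subgroupOf_eq_top] at h
    exact hne (le_antisymm hAH h)
  · intro K' hlt
    have hK' : (K'.map H.subtype).subgroupOf H = K' :=
      Subgroup.comap_map_eq_self_of_injective H.subtype_injective K'
    have hA : A ≤ K'.map H.subtype := by
      rw [← Subgroup.map_subgroupOf_eq_of_le hAH]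
      exact Subgroup.map_mono hlt.le
    rcases hmax _ hA (Subgroup.map_subtype_le K') with h | h
    · exfalso
      rw [h] at hK'
      exact hlt.ne hK'
    · rw [← hK', h, Subgroup.subgroupOf_self]

theorem L23_coatom : IsCoatom (L23.subgroupOf M24) := by
  apply isCoatom_subgroupOf L23_le_M24
  · intro h
    have := card_L23
    rw [h, card_M24] at this
    exact absurd this (by norm_num)
  · intro K h1 h2
    exact L23_max K h1 h2

theorem stab_M24_eq : MulAction.stabilizer M24 (none : GolayPt) = M23p.subgroupOf M24 := by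
  rw [stab_subgroup_eq, M23p, Subgroup.inf_subgroupOf_left]

theorem F23_coatom : IsCoatom ((F23.subgroupOf M24).subgroupOf
    (MulAction.stabilizer M24 (none : GolayPt))) := by
  have hMle : M23p ≤ M24 := inf_le_left
  apply isCoatom_subgroupOf
  · rw [stab_M24_eq]
    intro g hg
    exact F23_le_M23p hg
  · intro h
    rw [stab_M24_eq] at h
    have h2 := congrArg (fun S : Subgroup M24 => S.map M24.subtype) h
    simp only [Subgroup.map_subgroupOf_eq_of_le F23_le_M24,
      Subgroup.map_subgroupOf_eq_of_le hMle] at h2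
    have := card_F23
    rw [h2, card_M23p] at this
    exact absurd this (by norm_num)
  · intro K₁ h1 h2
    have hK₁ : (K₁.map M24.subtype).subgroupOf M24 = K₁ :=
      Subgroup.comap_map_eq_self_of_injective M24.subtype_injective K₁
    have hF : F23 ≤ K₁.map M24.subtype := by
      rw [← Subgroup.map_subgroupOf_eq_of_le F23_le_M24]
      exact Subgroup.map_mono h1
    have hM : K₁.map M24.subtype ≤ M23p := by
      rw [← Subgroup.map_subgroupOf_eq_of_le hMle, ← stab_M24_eq]
      exact Subgroup.map_mono h2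
    rcases F23_max _ hF hM with h | h
    · left
      rw [← hK₁, h]
    · right
      rw [← hK₁, h, stab_M24_eq]

end Cfsg.Agent.Helper27
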