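import Cfsg.Agent.Helper27.M23Gen

/-!
Certificates for generating triples of `M23`: a pair of coded elements `x`, `y` with words giving an
element of order `23`, an element of order `11` normalising it, and an element of order prime to `253`.
-/

set_option autoImplicit false

namespace Cfsg.Agent.Helper27.M23Tri

open Cfsg Cfsg.Agent.Helper7 Cfsg.Agent.Helper27.FusTab Cfsg.Agent.Helper27.FusCode
  Cfsg.Agent.Helper27.CodeEnum Cfsg.Agent.Helper27.ReeScott Cfsg.Agent.Helper27.M23Gen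

/-- the code of a word in two letters (`0` for the first, anything else for the second) -/
def evalW (cx cy : ℕ) : List ℕ → ℕ
  | [] => idC
  | i :: w => compU (Nat.rec cx (fun _ _ => cy) i) (evalW cx cy w)

theorem isCode_evalW {cx cy : ℕ} {X Y : Equiv.Perm GolayPt} (hx : IsCode cx X) (hy : IsCode cy Y) :
    ∀ w : List ℕ, ∃ g ∈ Subgroup.closure ({X, Y} : Set (Equiv.Perm GolayPt)), IsCode (evalW cx cy w) g
  | [] => ⟨1, Subgroup.one_mem _, isCode_one⟩
  | i :: w => by
    obtain ⟨g, hg, hgc⟩ := isCode_evalW hx hy w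
    cases i with
    | zero =>
      exact ⟨X * g, Subgroup.mul_mem _ (Subgroup.subset_closure (by simp)) hg, isCode_mul hx hgc⟩
    | succ j =>
      exact ⟨Y * g, Subgroup.mul_mem _ (Subgroup.subset_closure (by simp)) hg, isCode_mul hy hgc⟩

/-- the check of a certificate -/
def chkRow (p q r cx cy : ℕ) (wc wd we : List ℕ) (k n : ℕ) : Bool :=
  chkT fix23 (dec cx) && (chkT fix23 (dec cy) &&
  (Nat.beq (powC cx p) idC && (!(Nat.beq (compU cx idC) idC) &&
  (Nat.beq (powC cy q) idC && (!(Nat.beq (compU cy idC) idC) &&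
  (Nat.beq (powC (compU cx cy) r) idC && (!(Nat.beq (compU (compU cx cy) idC) idC) &&
  (Nat.beq (powC (evalW cx cy wc) 23) idC && (!(Nat.beq (compU (evalW cx cy wc) idC) idC) &&
  (Nat.beq (powC (evalW cx cy wd) 11) idC && (!(Nat.beq (compU (evalW cx cy wd) idC) idC) &&
  (Nat.beq (compU (evalW cx cy wd) (evalW cx cy wc))
      (compU (powC (evalW cx cy wc) k) (evalW cx cy wd)) &&
  (Nat.beq (powC (evalW cx cy we) n) idC && (!(Nat.beq (compU (evalW cx cy we) idC) idC) &&
  Nat.beq (Nat.gcd n 253) 1))))))))))))))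

theorem ne_of_not_beq {a b : ℕ} (h : (!(Nat.beq a b)) = true) : a ≠ b := by
  intro hab
  rw [hab] at h
  simp at h

theorem exists_triple (p q r cx cy : ℕ) (wc wd we : List ℕ) (k n : ℕ) (hp : p.Prime) (hq : q.Prime)
    (hr : r.Prime) (h : chkRow p q r cx cy wc wd we k n = true) :
    ∃ x y z : Spor.M23, orderOf x = p ∧ orderOf y = q ∧ orderOf z = r ∧ x * y * z = 1 ∧
      Subgroup.closure {x, y} = ⊤ := by
  unfold chkRow at h
  simp only [Bool.and_eq_true] at h
  obtain ⟨h1, h2, h3, h4, h5, h6, h7, h8, h9, h10, h11, h12, h13, h14, h15, h16⟩ := h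
  obtain ⟨X, hXM, hX⟩ := exists_of_chk h1
  obtain ⟨Y, hYM, hY⟩ := exists_of_chk h2
  have hoX : orderOf X = p := orderOf_of_code hX p hp (Nat.eq_of_beq_eq_true h3) (ne_of_not_beq h4)
  have hoY : orderOf Y = q := orderOf_of_code hY q hq (Nat.eq_of_beq_eq_true h5) (ne_of_not_beq h6)
  have hoXY : orderOf (X * Y) = r :=
    orderOf_of_code (isCode_mul hX hY) r hr (Nat.eq_of_beq_eq_true h7) (ne_of_not_beq h8)
  set K := Subgroup.closure ({X, Y} : Set (Equiv.Perm GolayPt)) with hK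
  have hKM : K ≤ M23p := by
    rw [hK, Subgroup.closure_le]
    rintro g (rfl | hg)
    · exact hXM
    · rw [Set.mem_singleton_iff] at hg
      rw [hg]
      exact hYM
  obtain ⟨c, hcK, hc⟩ := isCode_evalW hX hY wc
  obtain ⟨d, hdK, hd⟩ := isCode_evalW hX hY wd
  obtain ⟨e, heK, he⟩ := isCode_evalW hX hY we
  have hoc : orderOf c = 23 :=
    orderOf_of_code hc 23 (by norm_num) (Nat.eq_of_beq_eq_true h9) (ne_of_not_beq h10)
  have hod : orderOf d = 11 :=
    orderOf_of_code hd 11 (by norm_num) (Nat.eq_of_beq_eq_true h11) (ne_of_not_beq h12)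
  have hdc : d * c = c ^ k * d := by
    have e1 := isCode_mul hd hc
    have e2 := isCode_mul (isCode_powC hc k) hd
    rw [Nat.eq_of_beq_eq_true h13] at e1
    exact isCode_inj e1 e2
  have hen : e ^ n = 1 := eq_one_of_code_eq_idC (isCode_powC he n) (Nat.eq_of_beq_eq_true h14)
  have he1 : e ≠ 1 := ne_one_of_compU_ne he (ne_of_not_beq h15)
  have hgen : K = M23p :=
    gen23 K hKM c d e hcK hdK heK hoc hod k hdc he1 n hen (Nat.eq_of_beq_eq_true h16)
  refine ⟨⟨X, hXM⟩, ⟨Y, hYM⟩, (⟨X, hXM⟩ * ⟨Y, hYM⟩ : Spor.M23)⁻¹, ?_, ?_, ?_, ?_, ?_⟩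
  · rw [← hoX]
    exact Subgroup.orderOf_mk X hXM
  · rw [← hoY]
    exact Subgroup.orderOf_mk Y hYM
  · rw [orderOf_inv, ← hoXY]
    exact Subgroup.orderOf_mk (X * Y) (M23p.mul_mem hXM hYM)
  · exact mul_inv_cancel _
  · exact (closure_pair_eq_top_iff M23p ⟨X, hXM⟩ ⟨Y, hYM⟩).mpr hgen

end Cfsg.Agent.Helper27.M23Tri
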