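import Cfsg.Agent.Helper27.M23Tri

/-! Certificates for the generating triples of `M23`. Generated. -/

set_option autoImplicit false
set_option maxRecDepth 100000

namespace Cfsg.Agent.Helper27.M23TriData

open Cfsg Cfsg.Agent.Helper7 Cfsg.Agent.Helper27.FusTab Cfsg.Agent.Helper27.FusCode
  Cfsg.Agent.Helper27.CodeEnum Cfsg.Agent.Helper27.M23Gen Cfsg.Agent.Helper27.M23Tri

set_option Elab.async false in
theorem ex_2_5_11 : ∃ x y z : Spor.M23, orderOf x = 2 ∧ orderOf y = 5 ∧ orderOf z = 11 ∧ x * y * z = 1 ∧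
  Subgroup.closure {x, y} = ⊤ :=
  exists_triple 2 5 11 970076220132446284830085442418361792 976585711763999354831143553725779630 [0, 1, 0, 1,
  1, 1] [1, 0, 1, 0, 1, 0, 1, 1, 1, 0, 1, 1, 0, 1, 1, 1, 0, 1, 1] [0] 2 2 (by norm_num) (by norm_num)
  (by norm_num) (by decide +kernel)

set_option Elab.async false in
theorem ex_2_5_23 : ∃ x y z : Spor.M23, orderOf x = 2 ∧ orderOf y = 5 ∧ orderOf z = 23 ∧ x * y * z = 1 ∧
  Subgroup.closure {x, y} = ⊤ :=
  exists_triple 2 5 23 984154666587151352246361999701084480 957263327806161797141701185704663440 [0, 1] [1, 0,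
  1, 1, 1, 0, 1, 0, 1, 0, 1, 1, 1, 1, 0, 1, 1, 1, 0, 1, 0, 1, 1, 0, 1, 0, 1, 0] [0] 2 2 (by norm_num)
  (by norm_num) (by norm_num) (by decide +kernel)

set_option Elab.async false in
theorem ex_2_7_7 : ∃ x y z : Spor.M23, orderOf x = 2 ∧ orderOf y = 7 ∧ orderOf z = 7 ∧ x * y * z = 1 ∧
  Subgroup.closure {x, y} = ⊤ :=
  exists_triple 2 7 7 984194560199829098639614076839364832 965341855942020866323516619067835443 [0, 1, 1] [1,
  0, 1, 0, 1, 1, 0, 1, 0, 1, 1, 1, 0, 1, 1, 0, 1, 0, 1, 0, 1, 1, 0, 1] [0] 8 2 (by norm_num) (by norm_num)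
  (by norm_num) (by decide +kernel)

set_option Elab.async false in
theorem ex_2_7_11 : ∃ x y z : Spor.M23, orderOf x = 2 ∧ orderOf y = 7 ∧ orderOf z = 11 ∧ x * y * z = 1 ∧
  Subgroup.closure {x, y} = ⊤ :=
  exists_triple 2 7 11 967925532004275896583617805147146799 963538821702070086734339806377026081 [0, 1, 0, 1,
  0, 1, 1] [0, 1, 0, 1, 1, 1, 1, 1, 1, 0, 1, 1, 0, 1, 0, 1, 0, 1, 1, 1, 1, 0, 1] [0] 18 2 (by norm_num)
  (by norm_num) (by norm_num) (by decide +kernel)

set_option Elab.async false in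
theorem ex_2_7_23 : ∃ x y z : Spor.M23, orderOf x = 2 ∧ orderOf y = 7 ∧ orderOf z = 23 ∧ x * y * z = 1 ∧
  Subgroup.closure {x, y} = ⊤ :=
  exists_triple 2 7 23 983559999797887166677954208941412978 984073762215326006911124790430682151 [0, 1] [1, 1,
  1, 0, 1, 1, 1, 0, 1, 1, 0, 1, 1, 1, 0, 1, 1, 0] [0] 8 2 (by norm_num) (by norm_num) (by norm_num) (by
  decide +kernel)

set_option Elab.async false in
theorem ex_2_11_11 : ∃ x y z : Spor.M23, orderOf x = 2 ∧ orderOf y = 11 ∧ orderOf z = 11 ∧ x * y * z = 1 ∧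
  Subgroup.closure {x, y} = ⊤ :=
  exists_triple 2 11 11 984552032958177751189591002348376108 961436212769293897149317659401175692 [0, 1, 0, 1,
  0, 1, 1, 1, 1] [1, 1, 1, 0, 1, 0, 1, 0, 1, 0, 1, 1, 1, 1, 0, 1, 1, 1, 1, 1] [0] 13 2 (by norm_num)
  (by norm_num) (by norm_num) (by decide +kernel)

set_option Elab.async false in
theorem ex_2_11_23 : ∃ x y z : Spor.M23, orderOf x = 2 ∧ orderOf y = 11 ∧ orderOf z = 23 ∧ x * y * z = 1 ∧
  Subgroup.closure {x, y} = ⊤ :=
  exists_triple 2 11 23 984800158037861133023609821212228658 970500805414534517179178272811135209 [0, 1] [1,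
  0, 1, 1, 1, 1, 0, 1, 1, 1, 0, 1, 0, 1, 1, 1, 0] [0] 18 2 (by norm_num) (by norm_num) (by norm_num) (by
  decide +kernel)

set_option Elab.async false in
theorem ex_2_23_23 : ∃ x y z : Spor.M23, orderOf x = 2 ∧ orderOf y = 23 ∧ orderOf z = 23 ∧ x * y * z = 1 ∧
  Subgroup.closure {x, y} = ⊤ :=
  exists_triple 2 23 23 957112453940316917409650805275432648 978884240723939657090766759025431013 [1] [0, 1,
  0, 1, 0, 1, 1, 0, 1, 0, 1, 1, 1, 1, 0, 1, 1, 1, 0, 1, 1, 1, 0, 1, 1, 0] [0] 8 2 (by norm_num) (by norm_num)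
  (by norm_num) (by decide +kernel)

set_option Elab.async false in
theorem ex_3_3_11 : ∃ x y z : Spor.M23, orderOf x = 3 ∧ orderOf y = 3 ∧ orderOf z = 11 ∧ x * y * z = 1 ∧
  Subgroup.closure {x, y} = ⊤ :=
  exists_triple 3 3 11 968862369237536158273575590329289920 962510114146618560344930927761572914 [0, 0, 1] [0,
  1, 0, 1, 0, 1, 0, 0, 1, 0, 1, 1, 0, 1, 0, 1, 1, 0, 1, 1, 0, 1, 0] [0] 13 3 (by norm_num) (by norm_num)
  (by norm_num) (by decide +kernel)

set_option Elab.async false in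
theorem ex_3_3_23 : ∃ x y z : Spor.M23, orderOf x = 3 ∧ orderOf y = 3 ∧ orderOf z = 23 ∧ x * y * z = 1 ∧
  Subgroup.closure {x, y} = ⊤ :=
  exists_triple 3 3 23 977048378103348584562181161936374950 965022247634578731362003491268265216 [0, 1] [1, 0,
  1, 0, 1, 0, 0, 1, 0, 1, 0, 1, 0, 0, 1, 1, 0, 1, 0, 1, 0] [0] 3 3 (by norm_num) (by norm_num) (by norm_num)
  (by decide +kernel)

set_option Elab.async false in
theorem ex_3_5_5 : ∃ x y z : Spor.M23, orderOf x = 3 ∧ orderOf y = 5 ∧ orderOf z = 5 ∧ x * y * z = 1 ∧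
  Subgroup.closure {x, y} = ⊤ :=
  exists_triple 3 5 5 957995713235891219764762639314995302 966158338413392302584762106486315093 [0, 0, 1] [0,
  1, 0, 1, 0, 0, 1, 1, 0, 1, 1, 0, 1, 1, 0, 0, 1, 1, 0, 0] [0] 18 3 (by norm_num) (by norm_num) (by norm_num)
  (by decide +kernel)

set_option Elab.async false in
theorem ex_3_5_7 : ∃ x y z : Spor.M23, orderOf x = 3 ∧ orderOf y = 5 ∧ orderOf z = 7 ∧ x * y * z = 1 ∧
  Subgroup.closure {x, y} = ⊤ :=
  exists_triple 3 5 7 984535318203027028948063771681655072 971495795773405637279026871166686671 [0, 1, 0, 1,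
  1, 1] [1, 0, 0, 1, 0, 0, 1, 0, 1, 1, 1, 0, 1, 1, 0, 0, 1, 1, 0] [0] 12 3 (by norm_num) (by norm_num)
  (by norm_num) (by decide +kernel)

set_option Elab.async false in
theorem ex_3_5_11 : ∃ x y z : Spor.M23, orderOf x = 3 ∧ orderOf y = 5 ∧ orderOf z = 11 ∧ x * y * z = 1 ∧
  Subgroup.closure {x, y} = ⊤ :=
  exists_triple 3 5 11 984690205098700393227486562217242048 967334912401823657690885153098140757 [0, 0, 1, 1,
  0, 1, 0, 1] [0, 0, 1, 1, 0, 0, 1, 1, 1, 1, 0, 0, 1, 0, 1, 0, 1, 1, 1] [0] 16 3 (by norm_num) (by norm_num)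
  (by norm_num) (by decide +kernel)

set_option Elab.async false in
theorem ex_3_5_23 : ∃ x y z : Spor.M23, orderOf x = 3 ∧ orderOf y = 5 ∧ orderOf z = 23 ∧ x * y * z = 1 ∧
  Subgroup.closure {x, y} = ⊤ :=
  exists_triple 3 5 23 970007014727113220940369571134212132 967415810595031000573097016368894578 [0, 1] [1, 0,
  0, 1, 0, 0, 1, 1, 1, 0, 1, 1, 1] [0] 8 3 (by norm_num) (by norm_num) (by norm_num) (by decide +kernel)

set_option Elab.async false in
theorem ex_3_7_7 : ∃ x y z : Spor.M23, orderOf x = 3 ∧ orderOf y = 7 ∧ orderOf z = 7 ∧ x * y * z = 1 ∧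
  Subgroup.closure {x, y} = ⊤ :=
  exists_triple 3 7 7 983297065911370347373923297728235825 970150932705477149017593976504720938 [0, 0, 1, 1,
  1] [1, 1, 0, 0, 1, 0, 1, 1, 0, 1, 1, 0, 1, 0, 0, 1, 0, 1, 0, 0] [0] 2 3 (by norm_num) (by norm_num)
  (by norm_num) (by decide +kernel)

set_option Elab.async false in
theorem ex_3_7_11 : ∃ x y z : Spor.M23, orderOf x = 3 ∧ orderOf y = 7 ∧ orderOf z = 11 ∧ x * y * z = 1 ∧
  Subgroup.closure {x, y} = ⊤ :=
  exists_triple 3 7 11 965335754376573696769028650212402211 958370051774862543368785211908174353 [0, 0, 1] [1,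
  0, 1, 1, 0, 0, 1, 1, 1, 0, 0, 1, 1, 1, 0, 1, 0, 0] [0] 13 3 (by norm_num) (by norm_num) (by norm_num) (by
  decide +kernel)

set_option Elab.async false in
theorem ex_3_7_23 : ∃ x y z : Spor.M23, orderOf x = 3 ∧ orderOf y = 7 ∧ orderOf z = 23 ∧ x * y * z = 1 ∧
  Subgroup.closure {x, y} = ⊤ :=
  exists_triple 3 7 23 960145485648894383666183662144372864 975142072683155464898369323918440034 [0, 1] [1, 0,
  0, 1, 1, 0, 1, 0, 1, 1, 1, 0, 1, 0, 1, 1, 1, 1] [0] 16 3 (by norm_num) (by norm_num) (by norm_num) (by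
  decide +kernel)

set_option Elab.async false in
theorem ex_3_11_11 : ∃ x y z : Spor.M23, orderOf x = 3 ∧ orderOf y = 11 ∧ orderOf z = 11 ∧ x * y * z = 1 ∧
  Subgroup.closure {x, y} = ⊤ :=
  exists_triple 3 11 11 984185585109186287441327681892963844 967935180568852542208068307517836308 [0, 0, 1]
  [1, 1, 0, 1, 0, 1, 0, 0, 1, 1, 0, 0, 1, 1, 0, 1, 0, 0] [0] 6 3 (by norm_num) (by norm_num) (by norm_num) (by
  decide +kernel)

set_option Elab.async false in
theorem ex_3_11_23 : ∃ x y z : Spor.M23, orderOf x = 3 ∧ orderOf y = 11 ∧ orderOf z = 23 ∧ x * y * z = 1 ∧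
  Subgroup.closure {x, y} = ⊤ :=
  exists_triple 3 11 23 977027252640463066618712904786348256 958203877545157408464114906800266859 [0, 1] [1,
  0, 1, 1, 1, 1, 1, 1, 0, 1, 1, 0, 1, 1, 0, 1, 0] [0] 8 3 (by norm_num) (by norm_num) (by norm_num) (by
  decide +kernel)

set_option Elab.async false in
theorem ex_3_23_23 : ∃ x y z : Spor.M23, orderOf x = 3 ∧ orderOf y = 23 ∧ orderOf z = 23 ∧ x * y * z = 1 ∧
  Subgroup.closure {x, y} = ⊤ :=
  exists_triple 3 23 23 964558652482113448950660423953688625 959539699649740263750986316491821378 [1] [0, 0,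
  1, 0, 1, 1, 1, 0, 1, 1, 1, 1, 1, 0, 1, 0, 0, 1, 0, 1, 0] [0] 13 3 (by norm_num) (by norm_num) (by norm_num)
  (by decide +kernel)

set_option Elab.async false in
theorem ex_5_5_5 : ∃ x y z : Spor.M23, orderOf x = 5 ∧ orderOf y = 5 ∧ orderOf z = 5 ∧ x * y * z = 1 ∧
  Subgroup.closure {x, y} = ⊤ :=
  exists_triple 5 5 5 971250559071395046103218953081948649 984474768161185731602042060765876331 [0, 0, 1, 1,
  0, 1] [1, 1, 0, 0, 1, 0, 0, 0, 1, 1, 0, 0, 1, 0, 0] [0] 9 5 (by norm_num) (by norm_num) (by norm_num) (by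
  decide +kernel)

set_option Elab.async false in
theorem ex_5_5_7 : ∃ x y z : Spor.M23, orderOf x = 5 ∧ orderOf y = 5 ∧ orderOf z = 7 ∧ x * y * z = 1 ∧
  Subgroup.closure {x, y} = ⊤ :=
  exists_triple 5 5 7 967771929893096960281716045474629967 967937053518721680788913346838626481 [0, 0, 1] [0,
  1, 0, 0, 0, 0, 1, 1, 1, 0, 0, 1, 1, 0, 1, 1] [0] 13 5 (by norm_num) (by norm_num) (by norm_num) (by
  decide +kernel)

set_option Elab.async false in
theorem ex_5_5_11 : ∃ x y z : Spor.M23, orderOf x = 5 ∧ orderOf y = 5 ∧ orderOf z = 11 ∧ x * y * z = 1 ∧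
  Subgroup.closure {x, y} = ⊤ :=
  exists_triple 5 5 11 960154824186254915697271571263765025 984150744247582021192325330039614473 [0, 1, 1] [1,
  1, 0, 1, 1, 0, 1, 0, 0, 1, 0, 1, 0, 0, 1, 0] [0] 18 5 (by norm_num) (by norm_num) (by norm_num) (by
  decide +kernel)

set_option Elab.async false in
theorem ex_5_5_23 : ∃ x y z : Spor.M23, orderOf x = 5 ∧ orderOf y = 5 ∧ orderOf z = 23 ∧ x * y * z = 1 ∧
  Subgroup.closure {x, y} = ⊤ :=
  exists_triple 5 5 23 982208073575210658647249102026324102 972345826722053290381170178691217675 [0, 1] [1, 0,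
  0, 1, 1, 0, 1, 0, 0, 1, 0, 1, 0, 0, 1, 1] [0] 2 5 (by norm_num) (by norm_num) (by norm_num) (by
  decide +kernel)

set_option Elab.async false in
theorem ex_5_7_7 : ∃ x y z : Spor.M23, orderOf x = 5 ∧ orderOf y = 7 ∧ orderOf z = 7 ∧ x * y * z = 1 ∧
  Subgroup.closure {x, y} = ⊤ :=
  exists_triple 5 7 7 980915168975945374996013220662617800 959771885746032634999221360366629966 [0, 0, 1] [1,
  1, 1, 0, 1, 0, 0, 0, 1, 1, 1, 1, 0] [0] 6 5 (by norm_num) (by norm_num) (by norm_num) (by decide +kernel)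

set_option Elab.async false in
theorem ex_5_7_11 : ∃ x y z : Spor.M23, orderOf x = 5 ∧ orderOf y = 7 ∧ orderOf z = 11 ∧ x * y * z = 1 ∧
  Subgroup.closure {x, y} = ⊤ :=
  exists_triple 5 7 11 970010327647242596145723628683637253 961443313323895027957876633480804457 [0, 0, 1, 0,
  1, 1, 1] [0, 0, 0, 0, 1, 0, 1, 1, 1, 0, 0, 1] [0] 4 5 (by norm_num) (by norm_num) (by norm_num) (by
  decide +kernel)

set_option Elab.async false in
theorem ex_5_7_23 : ∃ x y z : Spor.M23, orderOf x = 5 ∧ orderOf y = 7 ∧ orderOf z = 23 ∧ x * y * z = 1 ∧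
  Subgroup.closure {x, y} = ⊤ :=
  exists_triple 5 7 23 962733343348804445563585170077469776 968566880363962294413509084445083915 [0, 1] [1, 0,
  1, 0, 1, 1, 1, 0, 1, 1, 1, 0, 0, 1, 1, 0] [0] 3 5 (by norm_num) (by norm_num) (by norm_num) (by
  decide +kernel)

set_option Elab.async false in
theorem ex_5_11_11 : ∃ x y z : Spor.M23, orderOf x = 5 ∧ orderOf y = 11 ∧ orderOf z = 11 ∧ x * y * z = 1 ∧
  Subgroup.closure {x, y} = ⊤ :=
  exists_triple 5 11 11 961290137962585958781402780510028918 975381122702102927347433973503113814 [0, 0, 1, 1]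
  [1, 0, 1, 1, 0, 0, 1, 0, 1, 0, 1, 0] [0] 13 5 (by norm_num) (by norm_num) (by norm_num) (by decide +kernel)

set_option Elab.async false in
theorem ex_5_11_23 : ∃ x y z : Spor.M23, orderOf x = 5 ∧ orderOf y = 11 ∧ orderOf z = 23 ∧ x * y * z = 1 ∧
  Subgroup.closure {x, y} = ⊤ :=
  exists_triple 5 11 23 959366863346024200747117664329601381 979600040913856520708287361170680324 [0, 1] [0,
  0, 0, 1, 1, 0, 1, 0, 0, 1, 1, 1] [0] 13 5 (by norm_num) (by norm_num) (by norm_num) (by decide +kernel)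

set_option Elab.async false in
theorem ex_5_23_23 : ∃ x y z : Spor.M23, orderOf x = 5 ∧ orderOf y = 23 ∧ orderOf z = 23 ∧ x * y * z = 1 ∧
  Subgroup.closure {x, y} = ⊤ :=
  exists_triple 5 23 23 979625274837048679796572381267760401 974880680817283285451607234336916844 [1] [0, 1,
  1, 1, 0, 1, 0, 0, 0, 1, 1, 0, 0, 0, 1, 1, 1, 0] [0] 16 5 (by norm_num) (by norm_num) (by norm_num) (by
  decide +kernel)

set_option Elab.async false in
theorem ex_7_7_7 : ∃ x y z : Spor.M23, orderOf x = 7 ∧ orderOf y = 7 ∧ orderOf z = 7 ∧ x * y * z = 1 ∧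
  Subgroup.closure {x, y} = ⊤ :=
  exists_triple 7 7 7 976972521970777414955013865667544139 964976803485456577313274021589658660 [0, 0, 1, 1,
  1] [0, 1, 0, 0, 1, 0, 0, 1, 0, 1, 1, 0, 0, 0, 0, 1, 1] [0] 3 7 (by norm_num) (by norm_num) (by norm_num) (by
  decide +kernel)

set_option Elab.async false in
theorem ex_7_7_11 : ∃ x y z : Spor.M23, orderOf x = 7 ∧ orderOf y = 7 ∧ orderOf z = 11 ∧ x * y * z = 1 ∧
  Subgroup.closure {x, y} = ⊤ :=
  exists_triple 7 7 11 982811542212438150825545678889505324 966565855580770299855858539470439892 [0, 0, 0, 0,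
  0, 0, 1] [0, 1, 0, 0, 1, 1, 0, 0, 0, 1, 1, 0, 0, 1, 0] [0] 16 7 (by norm_num) (by norm_num) (by norm_num)
  (by decide +kernel)

set_option Elab.async false in
theorem ex_7_7_23 : ∃ x y z : Spor.M23, orderOf x = 7 ∧ orderOf y = 7 ∧ orderOf z = 23 ∧ x * y * z = 1 ∧
  Subgroup.closure {x, y} = ⊤ :=
  exists_triple 7 7 23 957464278090130513300677412929938502 962565732706428757094919068336098432 [0, 1] [0, 0,
  1, 1, 1, 0, 1, 0, 0, 0, 0, 1, 0] [0] 3 7 (by norm_num) (by norm_num) (by norm_num) (by decide +kernel)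

set_option Elab.async false in
theorem ex_7_11_11 : ∃ x y z : Spor.M23, orderOf x = 7 ∧ orderOf y = 11 ∧ orderOf z = 11 ∧ x * y * z = 1 ∧
  Subgroup.closure {x, y} = ⊤ :=
  exists_triple 7 11 11 976662935248951683613584017586702575 976707422125257114524602492678247008 [0, 0, 1]
  [1, 0, 1, 1, 0, 0, 0, 1, 0, 1, 1, 0, 1, 1, 0] [0] 12 7 (by norm_num) (by norm_num) (by norm_num) (by
  decide +kernel)

set_option Elab.async false in
theorem ex_7_11_23 : ∃ x y z : Spor.M23, orderOf x = 7 ∧ orderOf y = 11 ∧ orderOf z = 23 ∧ x * y * z = 1 ∧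
  Subgroup.closure {x, y} = ⊤ :=
  exists_triple 7 11 23 961928242794751435963900274737750574 967905234171825635524155602258635852 [0, 1] [1,
  1, 1, 0, 0, 1, 0, 1, 1, 1, 0] [0] 12 7 (by norm_num) (by norm_num) (by norm_num) (by decide +kernel)

set_option Elab.async false in
theorem ex_7_23_23 : ∃ x y z : Spor.M23, orderOf x = 7 ∧ orderOf y = 23 ∧ orderOf z = 23 ∧ x * y * z = 1 ∧
  Subgroup.closure {x, y} = ⊤ :=
  exists_triple 7 23 23 967175069627492604146572423583663249 964956011238953688173520220026635565 [1] [0, 1,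
  1, 1, 0, 0, 1, 1, 1, 1, 1, 0, 0, 0, 1, 0, 0] [0] 12 7 (by norm_num) (by norm_num) (by norm_num) (by
  decide +kernel)

set_option Elab.async false in
theorem ex_11_11_11 : ∃ x y z : Spor.M23, orderOf x = 11 ∧ orderOf y = 11 ∧ orderOf z = 11 ∧ x * y * z = 1 ∧
  Subgroup.closure {x, y} = ⊤ :=
  exists_triple 11 11 11 970560344094836835939992989586493447 962653257067623955335874586218640463 [0, 0, 0,
  1, 1, 0, 1] [0, 1, 1, 0, 1, 0, 1, 0, 1, 1, 1, 1] [0, 0, 0, 1] 16 14 (by norm_num) (by norm_num)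
  (by norm_num) (by decide +kernel)

set_option Elab.async false in
theorem ex_11_11_23 : ∃ x y z : Spor.M23, orderOf x = 11 ∧ orderOf y = 11 ∧ orderOf z = 23 ∧ x * y * z = 1 ∧
  Subgroup.closure {x, y} = ⊤ :=
  exists_triple 11 11 23 973162276210145982803313418432944257 962211974837919440575507066891471349 [0, 1] [1,
  0, 0, 0, 1, 0, 0, 1, 1, 0, 1, 1, 0, 0, 0] [0, 0, 1] 2 8 (by norm_num) (by norm_num) (by norm_num) (by
  decide +kernel)

set_option Elab.async false in
theorem ex_11_23_23 : ∃ x y z : Spor.M23, orderOf x = 11 ∧ orderOf y = 23 ∧ orderOf z = 23 ∧ x * y * z = 1 ∧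
  Subgroup.closure {x, y} = ⊤ :=
  exists_triple 11 23 23 972304933330467981565369839986878471 981802133787340218772506878838846607 [1] [0, 0,
  1, 0, 1, 0, 0, 0, 1, 1, 0, 1, 1, 0] [0, 0, 1] 6 8 (by norm_num) (by norm_num) (by norm_num) (by
  decide +kernel)

set_option Elab.async false in
theorem ex_23_23_23 : ∃ x y z : Spor.M23, orderOf x = 23 ∧ orderOf y = 23 ∧ orderOf z = 23 ∧ x * y * z = 1 ∧
  Subgroup.closure {x, y} = ⊤ :=
  exists_triple 23 23 23 975003731938310980431428972606664917 977922839200102678076710396197255745 [0] [1, 0,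
  1, 0, 1, 1, 1, 1, 1, 0, 1, 1, 0, 1, 1] [0, 0, 1] 16 5 (by norm_num) (by norm_num) (by norm_num) (by
  decide +kernel)

end Cfsg.Agent.Helper27.M23TriData
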