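import Mathlib

/-!
Generic bit-mask model of finite sets: a type `α` indexed by the numbers `0 .. n-1`.
-/

set_option autoImplicit false

namespace Cfsg.Agent.Helper27

/-- an indexing of a type by the numbers below `n` -/
structure PtIndex (α : Type*) (n : ℕ) where
  idx : α → ℕ
  pt : ℕ → α
  idx_lt : ∀ a, idx a < n
  pt_idx : ∀ a, pt (idx a) = a
  idx_pt : ∀ i, i < n → idx (pt i) = i

namespace PtIndex

variable {α : Type*} {n : ℕ} (I : PtIndex α n)

theorem idx_injective : Function.Injective I.idx := by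
  intro a b h
  rw [← I.pt_idx a, ← I.pt_idx b, h]

theorem sum_eq {M : Type*} [AddCommMonoid M] [Fintype α] (f : α → M) :
    ∑ a, f a = ∑ i ∈ Finset.range n, f (I.pt i) := by
  symm
  apply Finset.sum_bij (fun i _ => I.pt i)
  · intro i _; exact Finset.mem_univ _
  · intro i hi j hj h
    rw [Finset.mem_range] at hi hj
    rw [← I.idx_pt i hi, ← I.idx_pt j hj, h]
  · intro a _
    exact ⟨I.idx a, Finset.mem_range.mpr (I.idx_lt a), I.pt_idx a⟩
  · intro i _; rfl

/-- the set of points with a given bit mask -/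
def setOf [Fintype α] (m : ℕ) : Finset α := Finset.univ.filter fun a => m.testBit (I.idx a) = true

/-- the mask of a set of points -/
def maskOfSet [DecidableEq α] (s : Finset α) : ℕ := Nat.ofBits fun i : Fin n => decide (I.pt i ∈ s)

variable [Fintype α]

theorem mem_setOf (m : ℕ) (a : α) : a ∈ I.setOf m ↔ m.testBit (I.idx a) = true := by
  simp [setOf]

theorem setOf_and [DecidableEq α] (a b : ℕ) : I.setOf (a &&& b) = I.setOf a ∩ I.setOf b := by
  ext p
  simp [mem_setOf, Nat.testBit_and]

theorem setOf_or [DecidableEq α] (a b : ℕ) : I.setOf (a ||| b) = I.setOf a ∪ I.setOf b := by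
  ext p
  simp [mem_setOf, Nat.testBit_or]

theorem setOf_zero : I.setOf 0 = ∅ := by
  ext p
  simp [mem_setOf]

omit [Fintype α] in
theorem maskOfSet_lt [DecidableEq α] (s : Finset α) : I.maskOfSet s < 2 ^ n := Nat.ofBits_lt_two_pow _

theorem setOf_maskOfSet [DecidableEq α] (s : Finset α) : I.setOf (I.maskOfSet s) = s := by
  ext p
  have h := I.idx_lt p
  simp [mem_setOf, maskOfSet, Nat.testBit_ofBits_lt _ _ h, I.pt_idx]

theorem testBit_eq_of_setOf_eq {a b : ℕ} (h : I.setOf a = I.setOf b) (i : ℕ) (hi : i < n) :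
    a.testBit i = b.testBit i := by
  have h1 : (I.pt i ∈ I.setOf a) ↔ (I.pt i ∈ I.setOf b) := by rw [h]
  simp only [mem_setOf, I.idx_pt i hi] at h1
  cases ha : a.testBit i <;> cases hb : b.testBit i <;> simp_all

theorem eq_of_setOf_eq {a b : ℕ} (ha : a < 2 ^ n) (hb : b < 2 ^ n) (h : I.setOf a = I.setOf b) : a = b := by
  apply Nat.eq_of_testBit_eq
  intro i
  by_cases hi : i < n
  · exact I.testBit_eq_of_setOf_eq h i hi
  · have hn : 2 ^ n ≤ 2 ^ i := Nat.pow_le_pow_right (by norm_num) (by omega)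
    rw [Nat.testBit_lt_two_pow (lt_of_lt_of_le ha hn), Nat.testBit_lt_two_pow (lt_of_lt_of_le hb hn)]

theorem maskOfSet_setOf [DecidableEq α] {a : ℕ} (ha : a < 2 ^ n) : I.maskOfSet (I.setOf a) = a :=
  I.eq_of_setOf_eq (I.maskOfSet_lt _) ha (I.setOf_maskOfSet _)

end PtIndex

/-- population count of the lowest `k` bits -/
def popcnt : ℕ → ℕ → ℕ
  | 0, _ => 0
  | k + 1, m => m % 2 + popcnt k (m / 2)

theorem popcnt_eq_sum (k m : ℕ) : popcnt k m = ∑ i ∈ Finset.range k, if m.testBit i then 1 else 0 := by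
  induction k generalizing m with
  | zero => simp [popcnt]
  | succ k ih =>
    rw [popcnt, ih, Finset.sum_range_succ']
    simp only [Nat.testBit_succ]
    rw [add_comm]
    congr 1
    rw [Nat.testBit_zero]
    rcases Nat.mod_two_eq_zero_or_one m with h | h <;> simp [h]

theorem PtIndex.card_setOf {α : Type*} {n : ℕ} (I : PtIndex α n) [Fintype α] (m : ℕ) :
    (I.setOf m).card = popcnt n m := by
  rw [popcnt_eq_sum, PtIndex.setOf, Finset.card_filter, I.sum_eq]
  apply Finset.sum_congr rfl
  intro i hi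
  rw [I.idx_pt i (Finset.mem_range.mp hi)]

end Cfsg.Agent.Helper27
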