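import Cfsg.Agent.Helper27.HexMono

/-!
Monomial maps preserving an arbitrary linear code: composition, inverses, the group of permutation
parts (generalising `HexMono`).
-/

set_option autoImplicit false

namespace Cfsg.Agent.Helper27

open Cfsg

section generic
variable {K : Type*} [Field K] {α : Type*}

/-- the monomial map `(σ, c)` preserves the code `C` -/
def MonoPres (C : Submodule K (α → K)) (σ : Equiv.Perm α) (c : α → Kˣ) : Prop :=
  ∀ x ∈ C, monomialMap σ c x ∈ C

variable {C : Submodule K (α → K)}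

theorem MonoPres.smul {σ : Equiv.Perm α} {c : α → Kˣ} (h : MonoPres C σ c) (u : Kˣ) :
    MonoPres C σ (fun i => u * c i) := by
  intro x hx
  have : monomialMap σ (fun i => u * c i) x = (u : K) • monomialMap σ c x := by
    funext i
    simp [monomialMap, mul_assoc]
  rw [this]
  exact Submodule.smul_mem _ _ (h x hx)

theorem MonoPres.comp {σ τ : Equiv.Perm α} {c d : α → Kˣ} (h : MonoPres C σ c)
    (h' : MonoPres C τ d) : MonoPres C (σ * τ) (fun i => c i * d (σ.symm i)) := by
  intro x hx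
  rw [← monomialMap_comp]
  exact h _ (h' x hx)

theorem monoPres_one (C : Submodule K (α → K)) : MonoPres C 1 (fun _ => 1) := by
  intro x hx
  rw [monomialMap_one_one]
  exact hx

theorem MonoPres.surj [Finite K] [Finite α] {σ : Equiv.Perm α} {c : α → Kˣ}
    (h : MonoPres C σ c) : ∀ y ∈ C, ∃ x ∈ C, monomialMap σ c x = y := by
  let g : C → C := fun x => ⟨monomialMap σ c x.1, h x.1 x.2⟩
  have hg : Function.Injective g := by
    intro x y hxy
    apply Subtype.ext
    apply monomialMap_injective σ c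
    exact congrArg Subtype.val hxy
  have hs := Finite.surjective_of_injective hg
  intro y hy
  obtain ⟨x, hx⟩ := hs ⟨y, hy⟩
  exact ⟨x.1, x.2, congrArg Subtype.val hx⟩

theorem MonoPres.inv [Finite K] [Finite α] {σ : Equiv.Perm α} {c : α → Kˣ}
    (h : MonoPres C σ c) : MonoPres C σ⁻¹ (fun i => (c (σ i))⁻¹) := by
  intro y hy
  obtain ⟨x, hx, rfl⟩ := h.surj y hy
  have : monomialMap σ⁻¹ (fun i => (c (σ i))⁻¹) (monomialMap σ c x) = x := by
    funext i
    have hc : ((c (σ i) : Kˣ) : K) ≠ 0 := Units.ne_zero _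
    simp [monomialMap, Equiv.Perm.inv_def, hc]
  rw [this]
  exact hx

/-- two scalings for the same permutation differ by a diagonal automorphism -/
theorem MonoPres.div [Finite K] [Finite α] {σ : Equiv.Perm α} {c c' : α → Kˣ}
    (h : MonoPres C σ c) (h' : MonoPres C σ c') :
    MonoPres C 1 (fun i => c' i * (c i)⁻¹) := by
  intro y hy
  obtain ⟨x, hx, rfl⟩ := h.surj y hy
  have : monomialMap 1 (fun i => c' i * (c i)⁻¹) (monomialMap σ c x) = monomialMap σ c' x := by
    funext i
    have hc : ((c i : Kˣ) : K) ≠ 0 := Units.ne_zero _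
    have h1 : (Equiv.symm (1 : Equiv.Perm α)) i = i := rfl
    simp [monomialMap, mul_assoc, h1, hc]
  rw [this]
  exact h' x hx

/-- the permutation parts of the monomial automorphisms of `C` -/
def monoPerm (C : Submodule K (α → K)) [Finite K] [Finite α] : Subgroup (Equiv.Perm α) where
  carrier := {σ | ∃ c, MonoPres C σ c}
  mul_mem' := by
    rintro σ τ ⟨c, hc⟩ ⟨d, hd⟩
    exact ⟨_, hc.comp hd⟩
  one_mem' := ⟨_, monoPres_one C⟩
  inv_mem' := by
    rintro σ ⟨c, hc⟩
    exact ⟨_, hc.inv⟩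

theorem mem_monoPerm [Finite K] [Finite α] (σ : Equiv.Perm α) :
    σ ∈ monoPerm C ↔ ∃ c, MonoPres C σ c := Iff.rfl

/-- the monomial group has `|Kˣ|` times as many elements as its group of permutation parts, as soon
as the diagonal automorphisms are scalar -/
theorem card_monoPres [Finite K] [Finite α] [Nonempty α]
    (hD : ∀ c : α → Kˣ, MonoPres C 1 c → ∀ i j, c i = c j) :
    Nat.card {f : Equiv.Perm α × (α → Kˣ) // MonoPres C f.1 f.2} =
      Nat.card (monoPerm C) * Nat.card Kˣ := by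
  classical
  obtain ⟨a₀⟩ := ‹Nonempty α›
  have hsp : ∀ σ : monoPerm C, ∃ c, MonoPres C σ.1 c := fun σ => σ.2
  choose cs hcs using hsp
  let Φ : monoPerm C × Kˣ → {f : Equiv.Perm α × (α → Kˣ) // MonoPres C f.1 f.2} :=
    fun p => ⟨(p.1.1, fun i => p.2 * cs p.1 i), (hcs p.1).smul p.2⟩
  have hinj : Function.Injective Φ := by
    rintro ⟨σ, u⟩ ⟨τ, v⟩ h
    have h1 : σ.1 = τ.1 := congrArg (fun f => f.1.1) h
    have hστ : σ = τ := Subtype.ext h1
    subst hστ
    have h2 : (fun i => u * cs σ i) = fun i => v * cs σ i := congrArg (fun f => f.1.2) h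
    have h3 := congrFun h2 a₀
    have : u = v := mul_right_cancel h3
    rw [this]
  have hsurj : Function.Surjective Φ := by
    rintro ⟨⟨σ, c⟩, hc⟩
    have hσ : σ ∈ monoPerm C := ⟨c, hc⟩
    have hdiv := (hcs ⟨σ, hσ⟩).div hc
    have hconst := hD _ hdiv
    refine ⟨(⟨σ, hσ⟩, c a₀ * (cs ⟨σ, hσ⟩ a₀)⁻¹), ?_⟩
    apply Subtype.ext
    apply Prod.ext
    · rfl
    · funext i
      have := hconst i a₀
      show c a₀ * (cs ⟨σ, hσ⟩ a₀)⁻¹ * cs ⟨σ, hσ⟩ i = c i
      rw [← this]
      simp
  rw [← Nat.card_congr (Equiv.ofBijective Φ ⟨hinj, hsurj⟩), Nat.card_prod]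

end generic

end Cfsg.Agent.Helper27
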