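import Cfsg.Agent.Helper27.OrbitSel

/-!
# Configurations (points + octad) under `M24`: stabilisers, transport to the base configuration
-/

set_option autoImplicit false

namespace Cfsg.Agent.Helper27

open Cfsg Cfsg.Agent.Helper26 Cfsg.Agent.Helper92 Cfsg.Agent.Helper7
open scoped Pointwise

theorem pt_eq_gPt (i : ℕ) (h : i < 24) : pt i = gPt i := by
  apply idx_injective
  rw [idx_pt h, idx_eq_gIdx, gIdx_gPt i h]

/-- stabiliser in `M24` of the points with indices in `is` and of the set with mask `o` -/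
def confStab (is : List ℕ) (o : ℕ) : Subgroup (Equiv.Perm GolayPt) where
  carrier := {g | g ∈ M24 ∧ (∀ i ∈ is, g (gPt i) = gPt i) ∧ g • setOf o = setOf o}
  mul_mem' := by
    rintro a b ⟨ha, ha1, ha2⟩ ⟨hb, hb1, hb2⟩
    refine ⟨M24.mul_mem ha hb, ?_, ?_⟩
    · intro i hi
      rw [Equiv.Perm.mul_apply, hb1 i hi, ha1 i hi]
    · rw [mul_smul, hb2, ha2]
  one_mem' := ⟨M24.one_mem, fun _ _ => rfl, one_smul _ _⟩
  inv_mem' := by
    rintro a ⟨ha, ha1, ha2⟩
    refine ⟨M24.inv_mem ha, ?_, ?_⟩
    · intro i hi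
      rw [Equiv.Perm.inv_eq_iff_eq, ha1 i hi]
    · rw [inv_smul_eq_iff, ha2]

theorem mem_confStab {is : List ℕ} {o : ℕ} {g : Equiv.Perm GolayPt} :
    g ∈ confStab is o ↔ g ∈ M24 ∧ (∀ i ∈ is, g (gPt i) = gPt i) ∧ g • setOf o = setOf o := Iff.rfl

/-- kernel check that a generator fixes the configuration -/
def genFixes (is : List ℕ) (o : ℕ) (g : GenData) : Bool :=
  is.all (fun i => Nat.beq (g.t.getD i 0) i) && Nat.beq (g.app o) o

theorem perm_mem_confStab {g : GenData} (hok : g.ok = true) {is : List ℕ} {o : ℕ}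
    (his : ∀ i ∈ is, i < 24) (ho : o < 2 ^ 24) (hf : genFixes is o g = true) :
    g.perm ∈ confStab is o := by
  unfold genFixes at hf
  rw [Bool.and_eq_true, List.all_eq_true] at hf
  refine ⟨GenData.perm_mem hok, ?_, ?_⟩
  · intro i hi
    have := Nat.eq_of_beq_eq_true (hf.1 i hi)
    show permOfTabs g.t g.s (gPt i) = gPt i
    rw [permOfTabs_gPt (GenData.ok_inv hok) i (his i hi), this]
  · rw [GenData.smul_setOf hok o ho, Nat.eq_of_beq_eq_true hf.2]

theorem gens_mem_confStab {gens : List GenData} {is : List ℕ} {o : ℕ}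
    (his : ∀ i ∈ is, i < 24) (ho : o < 2 ^ 24)
    (h : gens.all (fun g => g.ok && genFixes is o g) = true) :
    ∀ g ∈ gens, g.ok = true ∧ g.perm ∈ confStab is o := by
  intro g hg
  rw [List.all_eq_true] at h
  have := h g hg
  rw [Bool.and_eq_true] at this
  exact ⟨this.1, perm_mem_confStab this.1 his ho this.2⟩

/-- two selected code words in the same class are conjugate under `H` -/
theorem exists_smul_of_selCert (H : Subgroup (Equiv.Perm GolayPt)) (gens : List GenData)
    (hH : ∀ g ∈ gens, g.ok = true ∧ g.perm ∈ H) (sv : ℕ) (sel : ℕ → Bool) (cls rep : ℕ → ℕ) (D : ℕ)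
    (hcheck : allRange (selCheckFn gens sv sel cls rep D) 12 0 = true)
    {c c' : ℕ} (hc : c < 4096) (hc' : c' < 4096) (hs : sel (encode c) = true)
    (hs' : sel (encode c') = true) (hcls : cls (encode c) = cls (encode c')) :
    ∃ g ∈ H, g • setOf (encode c) = setOf (encode c') := by
  obtain ⟨a, ha, ea⟩ := selCert_sound H gens hH sv sel cls rep D hcheck c hc hs
  obtain ⟨b, hb, eb⟩ := selCert_sound H gens hH sv sel cls rep D hcheck c' hc' hs'
  refine ⟨b⁻¹ * a, H.mul_mem (H.inv_mem hb) ha, ?_⟩
  rw [mul_smul, ea, hcls, ← eb, inv_smul_smul]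

/-- a bijection of set systems induced by a permutation preserves cardinalities -/
theorem ncard_eq_of_smul (a : Equiv.Perm GolayPt) (S T : Set (Finset GolayPt))
    (h : ∀ s, s ∈ S ↔ a • s ∈ T) : S.ncard = T.ncard := by
  have hT : T = (fun s : Finset GolayPt => a • s) '' S := by
    ext t
    simp only [Set.mem_image]
    constructor
    · intro ht
      refine ⟨a⁻¹ • t, ?_, smul_inv_smul a t⟩
      rw [h, smul_inv_smul]
      exact ht
    · rintro ⟨s, hs, rfl⟩
      exact (h s).1 hs
  rw [hT, Set.InjOn.ncard_image]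
  intro s _ s' _ hss
  exact smul_left_cancel a hss

theorem mem_smul_iff (a : Equiv.Perm GolayPt) (x : GolayPt) (s : Finset GolayPt) :
    a x ∈ a • s ↔ x ∈ s := by
  rw [← Equiv.Perm.smul_def, Finset.smul_mem_smul_finset_iff]

theorem card_smul_inter (a : Equiv.Perm GolayPt) (s t : Finset GolayPt) :
    ((a • s) ∩ (a • t)).card = (s ∩ t).card := by
  rw [← Finset.smul_finset_inter, Finset.card_smul_finset]

theorem smul_mem_octads_iff {a : Equiv.Perm GolayPt} (ha : a ∈ M24) (s : Finset GolayPt) :
    a • s ∈ octads ↔ s ∈ octads := by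
  constructor
  · intro h
    have := smul_mem_octads (M24.inv_mem ha) h
    rwa [inv_smul_smul] at this
  · exact smul_mem_octads ha

/-- a duplicate-free list of at most five points of an octad extends to five points of it -/
theorem exists_extend {o : Finset GolayPt} (ho : o ∈ octads) (l : List GolayPt) (hl : l.Nodup)
    (hlo : ∀ p ∈ l, p ∈ o) (h5 : l.length ≤ 5) :
    ∃ r : List GolayPt, (l ++ r).Nodup ∧ (l ++ r).length = 5 ∧ ∀ p ∈ l ++ r, p ∈ o := by
  have hcard : o.card = 8 := ((Helper27.mem_octads_iff o).1 ho).2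
  set rest := (o \ l.toFinset).toList with hrest
  have hrl : 5 - l.length ≤ rest.length := by
    rw [hrest, Finset.length_toList]
    have h1 : (o \ l.toFinset).card = o.card - l.toFinset.card := by
      rw [Finset.card_sdiff_of_subset]
      intro p hp
      exact hlo p (List.mem_toFinset.1 hp)
    rw [h1, hcard, List.toFinset_card_of_nodup hl]
    omega
  refine ⟨rest.take (5 - l.length), ?_, ?_, ?_⟩
  · rw [List.nodup_append]
    refine ⟨hl, (Finset.nodup_toList _).sublist (List.take_sublist _ _), ?_⟩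
    intro a ha b hb hab
    subst hab
    have := List.mem_of_mem_take hb
    rw [hrest, Finset.mem_toList, Finset.mem_sdiff] at this
    exact this.2 (List.mem_toFinset.2 ha)
  · rw [List.length_append, List.length_take, min_eq_left hrl]
    omega
  · intro p hp
    rcases List.mem_append.1 hp with hp | hp
    · exact hlo p hp
    · have := List.mem_of_mem_take hp
      rw [hrest, Finset.mem_toList, Finset.mem_sdiff] at this
      exact this.1

/-- the image of an octad containing the preimages of the base points is the standard octad -/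
theorem smul_eq_std {o : Finset GolayPt} (ho : o ∈ octads) {a : Equiv.Perm GolayPt} (ha : a ∈ M24)
    (F : List GolayPt) (hFo : ∀ p ∈ F, p ∈ o) (hF : F.map (⇑a) = base5) :
    a • o = setOf 5279 := by
  apply octad_eq_of_five setOf_5279_mem_octads (smul_mem_octads ha ho) base5.toFinset
  · rw [List.toFinset_card_of_nodup base5_nodup]
    decide
  · intro p hp
    exact base5_subset p (List.mem_toFinset.1 hp)
  · intro p hp
    rw [List.mem_toFinset, ← hF, List.mem_map] at hp
    obtain ⟨q, hq, rfl⟩ := hp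
    exact (mem_smul_iff a q o).2 (hFo q hq)

/-- flags (points of an octad): transport to the base -/
theorem exists_to_base_in {o : Finset GolayPt} (ho : o ∈ octads) (l : List GolayPt) (hl : l.Nodup)
    (hlo : ∀ p ∈ l, p ∈ o) (h5 : l.length ≤ 5) :
    ∃ a ∈ M24, a • o = setOf 5279 ∧ ∃ r : List GolayPt, (l ++ r).map (⇑a) = base5 := by
  obtain ⟨r, hnd, hlen, hmem⟩ := exists_extend ho l hl hlo h5
  obtain ⟨a, ha, hmap⟩ := exists_map_list (l ++ r) base5 hnd base5_nodup (by rw [hlen]; rfl)
    (by omega)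
  exact ⟨a, ha, smul_eq_std ho ha _ hmem hmap, r, hmap⟩

/-- antiflags (points of an octad and a point outside): transport to the base -/
theorem exists_to_base_out {o : Finset GolayPt} (ho : o ∈ octads) (l : List GolayPt) (hl : l.Nodup)
    (hlo : ∀ p ∈ l, p ∈ o) (h5 : l.length ≤ 5) (x : GolayPt) (hx : x ∉ o) :
    ∃ a ∈ M24, a • o = setOf 5279 ∧ a x = pt 5 ∧ ∃ r : List GolayPt, (l ++ r).map (⇑a) = base5 := by
  obtain ⟨r, hnd, hlen, hmem⟩ := exists_extend ho l hl hlo h5
  have hxF : x ∉ l ++ r := fun h => hx (hmem x h)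
  have hx' : pt 5 ∉ base5 := by decide
  obtain ⟨a, ha, hmap, hax⟩ := exists_map_six (l ++ r) base5 hnd base5_nodup hlen rfl x (pt 5) hxF hx'
    (by
      constructor
      · rintro ⟨o', ho', hF, hxo'⟩
        exfalso
        have : o' = o := octad_eq_of_five ho ho' (l ++ r).toFinset
          (by rw [List.toFinset_card_of_nodup hnd, hlen])
          (fun p hp => hmem p (List.mem_toFinset.1 hp))
          (fun p hp => hF p (List.mem_toFinset.1 hp))
        exact hx (this ▸ hxo')
      · intro h
        exfalso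
        rw [base5_special_iff] at h
        revert h
        decide)
  exact ⟨a, ha, smul_eq_std ho ha _ hmem hmap, hax, r, hmap⟩

/-- conjugating an element of the stabiliser of the base configuration back -/
theorem conj_back {a g : Equiv.Perm GolayPt} (ha : a ∈ M24) {is : List ℕ} {o₀ : ℕ}
    (hg : g ∈ confStab is o₀) {o : Finset GolayPt} (hao : a • o = setOf o₀) :
    (a⁻¹ * g * a) ∈ M24 ∧ (a⁻¹ * g * a) • o = o ∧
      (∀ i ∈ is, ∀ x, a x = gPt i → (a⁻¹ * g * a) x = x) ∧
      ∀ o' o'' : Finset GolayPt, g • (a • o') = a • o'' → (a⁻¹ * g * a) • o' = o'' := by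
  obtain ⟨hgM, hgp, hgo⟩ := hg
  refine ⟨M24.mul_mem (M24.mul_mem (M24.inv_mem ha) hgM) ha, ?_, ?_, ?_⟩
  · rw [mul_smul, mul_smul, hao, hgo, ← hao, inv_smul_smul]
  · intro i hi x hx
    rw [Equiv.Perm.mul_apply, Equiv.Perm.mul_apply, hx, hgp i hi, ← hx]
    simp
  · intro o' o'' h
    rw [mul_smul, mul_smul, h, inv_smul_smul]

/-- class of a mask and intersection with the standard octad -/
theorem popc_land_5279 (m : ℕ) : popc 24 (Nat.land m 5279) = (setOf 5279 ∩ setOf m).card := by
  rw [Finset.inter_comm]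
  exact popc_and_eq m 5279

theorem gPt_mem_setOf (i : ℕ) (hi : i < 24) (m : ℕ) : gPt i ∈ setOf m ↔ Nat.testBit m i = true := by
  rw [mem_setOf, gIdx_gPt i hi]

end Cfsg.Agent.Helper27
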