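import Cfsg.Agent.Helper26.OrbitCert
import Cfsg.Agent.Helper26.FivePt

/-!
# Orbit certificates with an arbitrary selection predicate and class function on masks

Generalises `Helper26.wtCert_sound`: every code word mask `m` with `sel m = true` is moved by the
subgroup generated by `gens` to the representative `rep (cls m)`.  Also: counting octads with a
property that is computable on masks, and transport of configurations under a permutation.
-/

set_option autoImplicit false

namespace Cfsg.Agent.Helper27

open Cfsg Cfsg.Agent.Helper26 Cfsg.Agent.Helper92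
open scoped Pointwise

/-- the check for the code word with information bits `c` -/
def selCheckFn (gens : List GenData) (sv : ℕ) (sel : ℕ → Bool) (cls rep : ℕ → ℕ) (D : ℕ) (c : ℕ) :
    Bool :=
  strictN (fun m =>
    cond (sel m)
      (strictN (fun r =>
        Nat.beq (iterS gens sv (fun x => Nat.land x 4095) (fun x => Nat.beq x r) D m) r)
        (rep (cls m)))
      true) (encode c)

theorem selCert_sound (H : Subgroup (Equiv.Perm GolayPt)) (gens : List GenData)
    (hH : ∀ g ∈ gens, g.ok = true ∧ g.perm ∈ H) (sv : ℕ) (sel : ℕ → Bool) (cls rep : ℕ → ℕ) (D : ℕ)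
    (hcheck : allRange (selCheckFn gens sv sel cls rep D) 12 0 = true) :
    ∀ c < 4096, sel (encode c) = true →
      ∃ h ∈ H, h • setOf (encode c) = setOf (rep (cls (encode c))) := by
  intro c hc hsel
  have h := forall_lt_of_allRange _ 12 hcheck c hc
  unfold selCheckFn at h
  rw [strictN_eq, hsel, cond_true, strictN_eq] at h
  have h' := Nat.eq_of_beq_eq_true h
  obtain ⟨g, hg, e⟩ := iterS_sound H gens hH sv (fun x => Nat.land x 4095)
    (fun x => Nat.beq x (rep (cls (encode c)))) D (encode c) (encode_lt c)
  refine ⟨g, hg, ?_⟩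
  rw [e, h']

/-- counting octads with a property that is computable on masks -/
theorem ncard_octads_filter (P : Finset GolayPt → Prop) (f : ℕ → Bool)
    (h : ∀ c < 4096, popc 24 (encode c) = 8 → (P (setOf (encode c)) ↔ f (encode c) = true)) :
    {o | o ∈ octads ∧ P o}.ncard =
      countRange (fun c => Nat.beq (popc 24 (encode c)) 8 && f (encode c)) 12 0 := by
  have hset : {o | o ∈ octads ∧ P o} =
      support₂ '' {w | w ∈ golayCode ∧ (hammingNorm w = 8 ∧ P (support₂ w))} := by
    ext o
    simp only [Set.mem_ofPred_eq, Set.mem_image]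
    constructor
    · rintro ⟨ho, hP⟩
      rw [mem_octads_iff] at ho
      exact ⟨indWord o, ⟨ho.1, by rw [hammingNorm_indWord]; exact ho.2, by
        rw [support₂_indWord]; exact hP⟩, support₂_indWord o⟩
    · rintro ⟨w, ⟨hw, h8, hP⟩, rfl⟩
      refine ⟨?_, hP⟩
      rw [mem_octads_iff, indWord_support₂]
      exact ⟨hw, h8⟩
  rw [hset, Set.InjOn.ncard_image support₂_injective.injOn]
  apply ncard_golay_filter (fun w => hammingNorm w = 8 ∧ P (support₂ w))
    (fun m => Nat.beq (popc 24 m) 8 && f m)
  intro c hc
  rw [hammingNorm_wordOf, support₂_wordOf, Bool.and_eq_true]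
  constructor
  · rintro ⟨h8, hP⟩
    exact ⟨by rw [h8]; rfl, (h c hc h8).1 hP⟩
  · rintro ⟨h8, hf⟩
    have h8' := Nat.eq_of_beq_eq_true h8
    exact ⟨h8', (h c hc h8').2 hf⟩

end Cfsg.Agent.Helper27
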