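import Cfsg.Agent.Helper27.OutGen
import Cfsg.Agent.Helper27.M23Base

/-!
All automorphisms are inner for a finite group generated by `A`, `C`, `D`, where `A` has prime
order `p` with `p ^ 2` not dividing the group order, `A` and `C` are self-centralising, `C`
normalises `⟨A⟩`, `D` normalises `⟨C⟩`, and an automorphism fixing `C`, `D` and `⟨A⟩` fixes `A`.
-/

set_option autoImplicit false

namespace Cfsg.Agent.Helper27

theorem mem_inn_of_mul_mem {G : Type*} [Group G] (T : G) (ψ : MulAut G)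
    (h : MulAut.conj T * ψ ∈ (MulAut.conj : G →* MulAut G).range) :
    ψ ∈ (MulAut.conj : G →* MulAut G).range := by
  have e : ψ = (MulAut.conj T)⁻¹ * (MulAut.conj T * ψ) := by group
  rw [e]
  exact Subgroup.mul_mem _ (Subgroup.inv_mem _ ⟨T, rfl⟩) h

theorem commute_of_mem_zpowers {G : Type*} [Group G] {a x y : G} (hx : x ∈ Subgroup.zpowers a)
    (hy : y ∈ Subgroup.zpowers a) : x * y = y * x := by
  obtain ⟨m, rfl⟩ := Subgroup.mem_zpowers_iff.mp hx
  obtain ⟨n, rfl⟩ := Subgroup.mem_zpowers_iff.mp hy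
  exact ((Commute.refl a).zpow_zpow m n).eq

theorem conj_mem_zpowers_of_normalizes {G : Type*} [Group G] [Finite G] {a c : G} {s : ℕ}
    (h : c * a * c⁻¹ = a ^ s) {T x : G} (hT : T ∈ Subgroup.zpowers c)
    (hx : x ∈ Subgroup.zpowers a) : T * x * T⁻¹ ∈ Subgroup.zpowers a := by
  have hc : c ∈ Subgroup.normalizer (Subgroup.zpowers a : Set G) := by
    apply mem_normalizer_zpowers
    rw [h]
    exact Subgroup.pow_mem _ (Subgroup.mem_zpowers _) _
  have hTn : T ∈ Subgroup.normalizer (Subgroup.zpowers a : Set G) :=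
    (Subgroup.zpowers_le.mpr hc) hT
  exact (Subgroup.mem_normalizer_iff.mp hTn x).mp hx

theorem inn_eq_top_of_chain {G : Type*} [Group G] [Finite G] (p : ℕ) [Fact p.Prime]
    (A C D : G) (s k : ℕ)
    (hoA : orderOf A = p) (hp2 : ¬ p ^ 2 ∣ Nat.card G)
    (hcA : ∀ g : G, g * A = A * g → g ∈ Subgroup.zpowers A)
    (hCA : C * A * C⁻¹ = A ^ s)
    (hnA : ∀ z ∈ Subgroup.zpowers A, ∃ T ∈ Subgroup.zpowers A, T * (C * z) * T⁻¹ = C)
    (hcC : ∀ g : G, g * C = C * g → g ∈ Subgroup.zpowers C)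
    (hDC : D * C * D⁻¹ = C ^ k)
    (hnC : ∀ z ∈ Subgroup.zpowers C, ∃ T ∈ Subgroup.zpowers C, T * (D * z) * T⁻¹ = D)
    (hgen : Subgroup.closure ({A, C, D} : Set G) = ⊤)
    (hfin : ∀ ψ : MulAut G, ψ A ∈ Subgroup.zpowers A → ψ C = C → ψ D = D → ψ A = A) :
    (MulAut.conj : G →* MulAut G).range = ⊤ := by
  have hpp : p.Prime := Fact.out
  -- step 3
  have R3 : ∀ ψ : MulAut G, ψ A ∈ Subgroup.zpowers A → ψ C = C → ψ D = D →
      ψ ∈ (MulAut.conj : G →* MulAut G).range := by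
    intro ψ h1 h2 h3
    have h4 := hfin ψ h1 h2 h3
    rw [eq_one_of_fix_gens A C D hgen ψ h4 h2 h3]
    exact Subgroup.one_mem _
  -- step 2
  have R2 : ∀ ψ : MulAut G, ψ A ∈ Subgroup.zpowers A → ψ C = C →
      ψ ∈ (MulAut.conj : G →* MulAut G).range := by
    intro ψ h1 h2
    have e1 : ψ D * C * (ψ D)⁻¹ = C ^ k := by
      have := congrArg ψ hDC
      rwa [map_mul, map_mul, map_inv, map_pow, h2] at this
    have hZ : (D⁻¹ * ψ D) * C = C * (D⁻¹ * ψ D) := by
      have e2 : ψ D * C = C ^ k * ψ D := by rw [← e1]; group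
      have e3 : D * C = C ^ k * D := by rw [← hDC]; group
      have e4 : D⁻¹ * C ^ k = C * D⁻¹ := by
        rw [inv_mul_eq_iff_eq_mul, ← mul_assoc, e3, mul_inv_cancel_right]
      rw [mul_assoc, e2, ← mul_assoc, e4, mul_assoc]
    have hZm := hcC _ hZ
    obtain ⟨T, hT, hTD⟩ := hnC _ hZm
    apply mem_inn_of_mul_mem T
    apply R3
    · rw [MulAut.mul_apply, MulAut.conj_apply]
      exact conj_mem_zpowers_of_normalizes hCA hT h1
    · rw [MulAut.mul_apply, MulAut.conj_apply, h2,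
        commute_of_mem_zpowers hT (Subgroup.mem_zpowers C), mul_inv_cancel_right]
    · rw [MulAut.mul_apply, MulAut.conj_apply]
      rw [mul_inv_cancel_left] at hTD
      exact hTD
  -- step 1
  have R1 : ∀ ψ : MulAut G, ψ A ∈ Subgroup.zpowers A →
      ψ ∈ (MulAut.conj : G →* MulAut G).range := by
    intro ψ h1
    set x := ψ A with hx
    have hox : orderOf x = p := by rw [hx, MulEquiv.orderOf_eq, hoA]
    have hzp : Subgroup.zpowers x = Subgroup.zpowers A := by
      apply Subgroup.eq_of_le_of_card_ge (Subgroup.zpowers_le.mpr h1)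
      rw [Nat.card_zpowers, Nat.card_zpowers, hox, hoA]
    have hAx : A ∈ Subgroup.zpowers x := by rw [hzp]; exact Subgroup.mem_zpowers A
    have e0 : C * x * C⁻¹ = x ^ s := by
      obtain ⟨z, hz⟩ := Subgroup.mem_zpowers_iff.mp h1
      rw [← hz, ← conj_zpow, hCA, ← zpow_natCast, ← zpow_natCast, ← zpow_mul, ← zpow_mul,
        mul_comm]
    have e1 : ψ C * x * (ψ C)⁻¹ = x ^ s := by
      have := congrArg ψ hCA
      rwa [map_mul, map_mul, map_inv, map_pow] at this
    have hZx : (C⁻¹ * ψ C) * x = x * (C⁻¹ * ψ C) := by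
      have e2 : ψ C * x = x ^ s * ψ C := by rw [← e1]; group
      have e3 : C * x = x ^ s * C := by rw [← e0]; group
      have e4 : C⁻¹ * x ^ s = x * C⁻¹ := by
        rw [inv_mul_eq_iff_eq_mul, ← mul_assoc, e3, mul_inv_cancel_right]
      rw [mul_assoc, e2, ← mul_assoc, e4, mul_assoc]
    have hZ : (C⁻¹ * ψ C) * A = A * (C⁻¹ * ψ C) := by
      obtain ⟨z, hz⟩ := Subgroup.mem_zpowers_iff.mp hAx
      rw [← hz]
      exact ((show Commute (C⁻¹ * ψ C) x from hZx).zpow_right z).eq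
    have hZm := hcA _ hZ
    obtain ⟨T, hT, hTC⟩ := hnA _ hZm
    apply mem_inn_of_mul_mem T
    apply R2
    · rw [MulAut.mul_apply, MulAut.conj_apply, ← hx, commute_of_mem_zpowers hT h1,
        mul_inv_cancel_right]
      exact h1
    · rw [MulAut.mul_apply, MulAut.conj_apply]
      rw [mul_inv_cancel_left] at hTC
      exact hTC
  rw [eq_top_iff]
  intro φ _
  obtain ⟨g, hg⟩ := exists_conj_mem_zpowers p A hoA hp2 φ
  apply mem_inn_of_mul_mem g
  apply R1
  rw [MulAut.mul_apply, MulAut.conj_apply]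
  exact hg

end Cfsg.Agent.Helper27
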