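import Mathlib

/-!
Abstract lemmas for proving that all automorphisms of a finite group are inner: Sylow normalisation
of the image of an element of prime order, word maps, automorphisms fixing a generating set.
-/

set_option autoImplicit false

namespace Cfsg.Agent.Helper27

/-- If `a` has prime order `p` and `p ^ 2` does not divide the order of the group, then every
automorphism maps `a` into a conjugate of the group generated by `a`. -/
theorem exists_conj_mem_zpowers {G : Type*} [Group G] [Finite G] (p : ℕ) [Fact p.Prime] (a : G)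
    (ha : orderOf a = p) (hp2 : ¬ p ^ 2 ∣ Nat.card G) (φ : MulAut G) :
    ∃ g : G, g * φ a * g⁻¹ ∈ Subgroup.zpowers a := by
  have hpp : p.Prime := Fact.out
  have hcard : Nat.card (Subgroup.zpowers a) = p := by rw [Nat.card_zpowers, ha]
  have hcard' : Nat.card (Subgroup.zpowers (φ a)) = p := by
    rw [Nat.card_zpowers, MulEquiv.orderOf_eq, ha]
  have hdvd : p ∣ Nat.card G := hcard ▸ Subgroup.card_subgroup_dvd_card _
  have hpos : Nat.card G ≠ 0 := Nat.card_pos.ne'
  have hfac : (Nat.card G).factorization p = 1 := by
    have h1 : 0 < (Nat.card G).factorization p := hpp.factorization_pos_of_dvd hpos hdvd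
    have h2 : (Nat.card G).factorization p < 2 := by
      by_contra h
      rw [not_lt] at h
      exact hp2 ((pow_dvd_pow p h).trans (Nat.ordProj_dvd _ _))
    omega
  let S1 : Sylow p G := Sylow.ofCard (Subgroup.zpowers a) (by rw [hcard, hfac, pow_one])
  let S2 : Sylow p G := Sylow.ofCard (Subgroup.zpowers (φ a)) (by rw [hcard', hfac, pow_one])
  obtain ⟨g, hg⟩ := MulAction.exists_smul_eq G S2 S1
  refine ⟨g, ?_⟩
  have h1 : φ a ∈ (S2 : Subgroup G) := Subgroup.mem_zpowers _
  have h2 : g * φ a * g⁻¹ ∈ ((g • S2 : Sylow p G) : Subgroup G) := by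
    rw [Sylow.coe_subgroup_smul]
    exact Subgroup.smul_mem_pointwise_smul _ _ _ h1
  rw [hg] at h2
  exact h2

/-- the letter `k` of three -/
def pick3 {G : Type*} (x y z : G) (k : Fin 3) : G :=
  if k = 0 then x else if k = 1 then y else z

/-- words in three letters -/
def evalW3 {G : Type*} [Group G] (x y z : G) : List (Fin 3) → G
  | [] => 1
  | k :: w => pick3 x y z k * evalW3 x y z w

theorem map_pick3 {G H : Type*} (f : G → H) (x y z : G) (k : Fin 3) :
    f (pick3 x y z k) = pick3 (f x) (f y) (f z) k := by
  unfold pick3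
  split_ifs <;> rfl

theorem map_evalW3 {G H : Type*} [Group G] [Group H] (f : G →* H) (x y z : G)
    (w : List (Fin 3)) : f (evalW3 x y z w) = evalW3 (f x) (f y) (f z) w := by
  induction w with
  | nil => simp [evalW3]
  | cons k w ih => rw [evalW3, evalW3, map_mul, ih, map_pick3 (⇑f)]

/-- an automorphism fixing three generators is trivial -/
theorem eq_one_of_fix_gens {G : Type*} [Group G] (x y z : G)
    (hgen : Subgroup.closure ({x, y, z} : Set G) = ⊤) (φ : MulAut G)
    (hx : φ x = x) (hy : φ y = y) (hz : φ z = z) : φ = 1 := by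
  have hEq : Set.EqOn ((φ : G ≃* G) : G →* G) (MonoidHom.id G)
      (Subgroup.closure ({x, y, z} : Set G)) := by
    apply MonoidHom.eqOn_closure
    intro u hu
    rcases hu with rfl | rfl | hu
    · exact hx
    · exact hy
    · rw [Set.mem_singleton_iff] at hu
      subst hu
      exact hz
  ext u
  exact hEq (by rw [hgen]; trivial)

end Cfsg.Agent.Helper27
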