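import Cfsg.Agent.Helper27.OutM23

/-!
All automorphisms of `M24` are inner.
-/

set_option autoImplicit false

namespace Cfsg.Agent.Helper27

open Cfsg Cfsg.Agent.Helper7

/-- an element of order `10` normalising the multiplications by squares -/
noncomputable def d24 : Equiv.Perm GolayPt := cubeTwist * projInv

/-- its table -/
def tD24 : List ℕ := compT tC tB

theorem isTable_d24 : IsTable tD24 d24 := isTable_cubeTwist.mul isTable_projInv

theorem d24_mem_M24 : d24 ∈ M24 := M24.mul_mem cubeTwist_mem_M24 projInv_mem_M24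

theorem d24_pow_ten : d24 ^ 10 = 1 := by
  have t := isTable_tpow isTable_d24 10
  have e : tpow tD24 10 = idT := by decide +kernel
  rw [e] at t
  exact t.inj isTable_one

theorem d24_sq_ne_one : d24 ^ 2 ≠ 1 := by
  intro h
  have t := isTable_tpow isTable_d24 2
  rw [h] at t
  have e := IsTable.eq_of_eq t isTable_one
  revert e
  decide +kernel

theorem d24_none : d24 none = some 0 := by
  rw [isTable_d24.apply]
  decide +kernel

theorem closure_M24 :
    Subgroup.closure ({trP 1, mu23, d24} : Set (Equiv.Perm GolayPt)) = M24 := by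
  set K := Subgroup.closure ({trP 1, mu23, d24} : Set (Equiv.Perm GolayPt)) with hK
  have hA : trP 1 ∈ K := Subgroup.subset_closure (by simp)
  have hC : mu23 ∈ K := Subgroup.subset_closure (by simp)
  have hD : d24 ∈ K := Subgroup.subset_closure (by simp)
  have hKM : K ≤ M24 := by
    rw [hK, Subgroup.closure_le]
    rintro g (rfl | rfl | hg)
    · exact F23_le_M24 trP_one_mem
    · exact F23_le_M24 mu23_mem_F23
    · rw [Set.mem_singleton_iff] at hg
      rw [hg]
      exact d24_mem_M24
  have hFK : F23 ≤ K := F23_le_of_mem hA hC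
  have htrans : ∀ p : GolayPt, ∃ g ∈ K, g none = p := by
    intro p
    cases p with
    | none => exact ⟨1, K.one_mem, rfl⟩
    | some t =>
      refine ⟨trP t * d24, K.mul_mem (hFK (trP_mem t)) hD, ?_⟩
      rw [Equiv.Perm.mul_apply, d24_none, trP_some, zero_add]
  have hcard := card_of_transitive K htrans
  have hF : F23 ≤ K ⊓ MulAction.stabilizer (Equiv.Perm GolayPt) (none : GolayPt) :=
    fun g hg => ⟨hFK hg, F23_fix_none hg⟩
  have hM : K ⊓ MulAction.stabilizer (Equiv.Perm GolayPt) (none : GolayPt) ≤ M23p :=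
    fun g hg => ⟨hKM hg.1, hg.2⟩
  rcases F23_max _ hF hM with h | h
  · exfalso
    rw [h, card_F23] at hcard
    have h1 : (⟨d24, hD⟩ : ↥K) ^ Nat.card K = 1 := pow_card_eq_one'
    have h2 : d24 ^ Nat.card K = 1 := by
      have := congrArg Subtype.val h1
      rwa [Subgroup.coe_pow] at this
    rw [← hcard, show 253 * 24 = 10 * 607 + 2 by norm_num, pow_add, pow_mul, d24_pow_ten,
      one_pow, one_mul] at h2
    exact d24_sq_ne_one h2
  · apply Subgroup.eq_of_le_of_card_ge hKM
    rw [← hcard, h, card_M23p, card_M24]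

/-- the relators used for `M24` -/
def rels24 : List (List (Fin 3) × ℕ) := [([2, 0, 1], 10), ([2, 1, 0, 0, 1], 14)]

theorem inn_M24_eq_top : Cfsg.Inn ↥M24 = ⊤ := by
  apply inn_eq_top_of_data M24 d24 tD24 8 rels24
  · exact F23_le_M24 trP_one_mem
  · exact F23_le_M24 mu23_mem_F23
  · exact d24_mem_M24
  · exact isTable_d24
  · rw [card_M24]
    norm_num
  · intro g hg h
    exact mem_Q23_of_commute hg h
  · exact closure_M24
  · decide +kernel
  · decide +kernel
  · decide +kernel
  · decide +kernel

theorem card_out_M24 : Nat.card (Cfsg.Out ↥M24) = 1 := by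
  show (Cfsg.Inn ↥M24).index = 1
  rw [inn_M24_eq_top, Subgroup.index_top]

end Cfsg.Agent.Helper27
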