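import Cfsg.Agent.Helper27.OutChain
import Cfsg.Agent.Helper27.M23Max

/-!
Inner automorphisms of subgroups of `M24` containing `23:11`: tables of words, the centralisers
of the elements of order `23` and `11`, and the instantiation of `inn_eq_top_of_chain`.
-/

set_option autoImplicit false

namespace Cfsg.Agent.Helper27

open Cfsg Cfsg.Agent.Helper7

/-! ### tables of powers and words -/

/-- powers of a table -/
def tpow (l : List ℕ) : ℕ → List ℕ
  | 0 => idT
  | n + 1 => compT l (tpow l n)

theorem isTable_tpow {l : List ℕ} {g : Equiv.Perm GolayPt} (h : IsTable l g) (n : ℕ) :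
    IsTable (tpow l n) (g ^ n) := by
  induction n with
  | zero =>
    rw [tpow, pow_zero]
    exact isTable_one
  | succ n ih =>
    rw [tpow, pow_succ']
    exact h.mul ih

/-- the table of a word -/
def evalT3 (x y z : List ℕ) : List (Fin 3) → List ℕ
  | [] => idT
  | k :: w => compT (pick3 x y z k) (evalT3 x y z w)

theorem isTable_pick3 {tx ty tz : List ℕ} {x y z : Equiv.Perm GolayPt} (hx : IsTable tx x)
    (hy : IsTable ty y) (hz : IsTable tz z) (k : Fin 3) :
    IsTable (pick3 tx ty tz k) (pick3 x y z k) := by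
  unfold pick3
  split_ifs
  · exact hx
  · exact hy
  · exact hz

theorem isTable_evalW3 {tx ty tz : List ℕ} {x y z : Equiv.Perm GolayPt} (hx : IsTable tx x)
    (hy : IsTable ty y) (hz : IsTable tz z) (w : List (Fin 3)) :
    IsTable (evalT3 tx ty tz w) (evalW3 x y z w) := by
  induction w with
  | nil => exact isTable_one
  | cons k w ih =>
    rw [evalT3, evalW3]
    exact (isTable_pick3 hx hy hz k).mul ih

theorem IsTable.eq_of_eq {l l' : List ℕ} {g : Equiv.Perm GolayPt} (h : IsTable l g)
    (h' : IsTable l' g) : l = l' := by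
  rw [h.eq_map, ← h'.eq_map]

/-- the relators hold for the tables -/
def relsHold (tx ty tz : List ℕ) (rels : List (List (Fin 3) × ℕ)) : Bool :=
  rels.all fun r => tpow (evalT3 tx ty tz r.1) r.2 == idT

theorem relsHold_iff {tx ty tz : List ℕ} {x y z : Equiv.Perm GolayPt} (hx : IsTable tx x)
    (hy : IsTable ty y) (hz : IsTable tz z) (rels : List (List (Fin 3) × ℕ)) :
    relsHold tx ty tz rels = true ↔ ∀ r ∈ rels, evalW3 x y z r.1 ^ r.2 = 1 := by
  unfold relsHold
  rw [List.all_eq_true]
  refine forall₂_congr fun r _ => ?_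
  have ht := isTable_tpow (isTable_evalW3 hx hy hz r.1) r.2
  rw [beq_iff_eq]
  constructor
  · intro e
    rw [e] at ht
    exact ht.inj isTable_one
  · intro e
    rw [e] at ht
    exact IsTable.eq_of_eq ht isTable_one

/-! ### the generators -/

/-- the table of the multiplication by `2` -/
def tM : List ℕ := [0, 2, 4, 6, 8, 10, 12, 14, 16, 18, 20, 22, 1, 3, 5, 7, 9, 11, 13, 15, 17, 19,
  21, 23]

set_option maxRecDepth 100000 in
theorem isTable_mu23 : IsTable tM mu23 := by
  refine ⟨rfl, ?_⟩
  decide +kernel

theorem isTable_trP_one : IsTable tA (trP 1) := isTable_gA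

theorem mu23_pow_eleven : mu23 ^ 11 = 1 := by
  have := pow_orderOf_eq_one mu23
  rwa [orderOf_mu23] at this

theorem trP_one_pow : (trP 1) ^ 23 = 1 := by
  have := pow_orderOf_eq_one (trP 1)
  rwa [orderOf_trP_one] at this

theorem exists_lt_pow_of_mem_zpowers {G : Type*} [Group G] {a x : G} {n : ℕ} (hn : 0 < n)
    (ha : a ^ n = 1) (hx : x ∈ Subgroup.zpowers a) : ∃ j < n, x = a ^ j := by
  obtain ⟨z, rfl⟩ := Subgroup.mem_zpowers_iff.mp hx
  have h1 : a ^ z = a ^ (z % (n : ℤ)) := zpow_eq_zpow_emod' z ha
  have hn' : (0 : ℤ) < n := by exact_mod_cast hn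
  have h2 : 0 ≤ z % (n : ℤ) := Int.emod_nonneg z hn'.ne'
  have h3 : z % (n : ℤ) < n := Int.emod_lt_of_pos z hn'
  obtain ⟨j, hj⟩ := Int.eq_ofNat_of_zero_le h2
  refine ⟨j, ?_, ?_⟩
  · rw [hj] at h3
    exact_mod_cast h3
  · rw [h1, hj, zpow_natCast]

/-! ### the centraliser of the translation -/

theorem eq_trP_of_commute {g : Equiv.Perm GolayPt} (h : g * trP 1 = trP 1 * g) :
    ∃ b, g = trP b := by
  have hcomm : ∀ p, g (trP 1 p) = trP 1 (g p) :=
    fun p => congrArg (fun f : Equiv.Perm GolayPt => f p) h
  have hfix : g none = none := by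
    have h1 := hcomm none
    rw [trP_none] at h1
    cases hgn : g none with
    | none => rfl
    | some t =>
      rw [hgn, trP_some] at h1
      have h2 : t = t + 1 := Option.some.inj h1
      have h3 : (1 : ZMod 23) = 0 := by linear_combination -h2
      exact absurd h3 (by decide)
  obtain ⟨b, hb⟩ := some_of_fix_none hfix 0
  have key : ∀ n : ℕ, g (some (n : ZMod 23)) = some (b + n) := by
    intro n
    induction n with
    | zero => rw [Nat.cast_zero, add_zero, hb]
    | succ n ih =>
      have h1 := hcomm (some (n : ZMod 23))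
      rw [trP_some, ih, trP_some] at h1
      rw [Nat.cast_succ, h1]
      congr 1
      ring
  refine ⟨b, ?_⟩
  ext1 p
  cases p with
  | none => rw [hfix]; rfl
  | some t =>
    have : t = ((ZMod.val t : ℕ) : ZMod 23) := (ZMod.natCast_zmod_val t).symm
    rw [trP_some]
    conv_lhs => rw [this]
    rw [key, ZMod.natCast_zmod_val, add_comm]

theorem trP_eq_pow (b : ZMod 23) : trP b = trP 1 ^ b.val := by
  rw [← trP_natCast, ZMod.natCast_zmod_val]

theorem trP_conj_mu23 (b : ZMod 23) : trP (2 * b) * (mu23 * trP b) * (trP (2 * b))⁻¹ = mu23 := by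
  rw [mul_inv_eq_iff_eq_mul]
  ext1 p
  cases p with
  | none => rfl
  | some t =>
    simp only [Equiv.Perm.mul_apply, trP_some, mu23, muP_some, two23_val]
    congr 1
    ring

theorem mu23_conj_trP : mu23 * trP 1 * mu23⁻¹ = trP 1 ^ 2 := by
  rw [mul_inv_eq_iff_eq_mul]
  have t1 := isTable_mu23.mul isTable_trP_one
  have t2 := (isTable_tpow isTable_trP_one 2).mul isTable_mu23
  have e : compT tM tA = compT (tpow tA 2) tM := by decide +kernel
  rw [e] at t1
  exact t1.inj t2

/-! ### the centraliser of the multiplication -/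

/-- the candidates as a list of tables -/
def goodTabL : List (List ℕ) :=
  goodList.map fun e => tabOfFun (candFun (e.1 : ZMod 23) (e.2.1 : ZMod 23) (e.2.2 : ZMod 23))

theorem mem_goodTabL {l : List ℕ} (h : l ∈ goodTabs) : l ∈ goodTabL := by
  unfold goodTabs at h
  exact List.mem_toFinset.mp h

/-- the tables of the powers of the multiplication -/
def powTabs : List (List ℕ) := (List.range 11).map (tpow tM)

theorem centChk : ∀ l ∈ goodTabL, compT l tM = compT tM l → l ∈ powTabs := by decide +kernel

theorem centChk' : ∀ l ∈ goodTabL, compT l tM ≠ compT (tpow tM 10) l := by decide +kernel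

theorem mem_Q23_of_isTable_mem {g : Equiv.Perm GolayPt} {l : List ℕ} (hl : IsTable l g)
    (h : l ∈ powTabs) : g ∈ Q23 := by
  unfold powTabs at h
  rw [List.mem_map] at h
  obtain ⟨i, _, hi⟩ := h
  have t := isTable_tpow isTable_mu23 i
  rw [hi] at t
  rw [hl.inj t]
  exact Subgroup.pow_mem _ (Subgroup.mem_zpowers _) _

theorem mem_NQ23_of_conj {g : Equiv.Perm GolayPt} (hg : g ∈ M24) (hfix : g none = none)
    (h : g * mu23 * g⁻¹ ∈ Q23) : g ∈ NQ23 := by
  refine ⟨?_, hg, hfix⟩
  apply mem_normalizer_zpowers
  exact h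

/-- the centraliser of the multiplication in `M23` -/
theorem mem_Q23_of_commute_fix {g : Equiv.Perm GolayPt} (hg : g ∈ M24) (hfix : g none = none)
    (h : g * mu23 = mu23 * g) : g ∈ Q23 := by
  have hN : g ∈ NQ23 := by
    apply mem_NQ23_of_conj hg hfix
    rw [h, mul_inv_cancel_right]
    exact Subgroup.mem_zpowers _
  have h1 := mem_goodTabL (tab_mem_goodTabs hN)
  have tg := isTable_tabOfFun g
  have e : compT (tabOfFun g) tM = compT tM (tabOfFun g) := by
    have t1 := tg.mul isTable_mu23
    have t2 := isTable_mu23.mul tg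
    rw [h] at t1
    exact IsTable.eq_of_eq t1 t2
  exact mem_Q23_of_isTable_mem tg (centChk _ h1 e)

theorem projInv_conj_mu23 : projInv * mu23 = mu23 ^ 10 * projInv := by
  have t1 := isTable_projInv.mul isTable_mu23
  have t2 := (isTable_tpow isTable_mu23 10).mul isTable_projInv
  have e : compT tB tM = compT (tpow tM 10) tB := by decide +kernel
  rw [e] at t1
  exact t1.inj t2

theorem fix_mu23 {p : GolayPt} (h : mu23 p = p) : p = none ∨ p = some 0 := by
  cases p with
  | none => left; rfl
  | some t =>
    right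
    rw [mu23, muP_some, two23_val] at h
    have h1 : 2 * t = t := Option.some.inj h
    have h2 : t = 0 := by linear_combination h1
    rw [h2]

/-- the centraliser of the multiplication in `M24` -/
theorem mem_Q23_of_commute {g : Equiv.Perm GolayPt} (hg : g ∈ M24)
    (h : g * mu23 = mu23 * g) : g ∈ Q23 := by
  have hcomm : ∀ p, g (mu23 p) = mu23 (g p) :=
    fun p => congrArg (fun f : Equiv.Perm GolayPt => f p) h
  have h0 : mu23 (g none) = g none := by
    rw [← hcomm]
    rfl
  have h1 : mu23 (g (some 0)) = g (some 0) := by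
    rw [← hcomm]
    congr 1
  rcases fix_mu23 h0 with hn | hn
  · exact mem_Q23_of_commute_fix hg hn h
  · exfalso
    have hs : g (some 0) = none := by
      rcases fix_mu23 h1 with hs | hs
      · exact hs
      · exact absurd (g.injective (hs.trans hn.symm)) (Option.some_ne_none _)
    have hg' : g * projInv ∈ M24 := M24.mul_mem hg projInv_mem_M24
    have hfix : (g * projInv) none = none := by
      rw [Equiv.Perm.mul_apply, projInv_none, hs]
    have hc : (g * projInv) * mu23 = mu23 ^ 10 * (g * projInv) := by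
      rw [mul_assoc, projInv_conj_mu23, ← mul_assoc, ← mul_assoc]
      congr 1
      exact ((show Commute g mu23 from h).pow_right 10).eq
    have hN : g * projInv ∈ NQ23 := by
      apply mem_NQ23_of_conj hg' hfix
      rw [hc, mul_inv_cancel_right]
      exact Subgroup.pow_mem _ (Subgroup.mem_zpowers _) _
    have h2 := mem_goodTabL (tab_mem_goodTabs hN)
    have tg := isTable_tabOfFun (g * projInv)
    have e : compT (tabOfFun (g * projInv)) tM = compT (tpow tM 10) (tabOfFun (g * projInv)) := by
      have t1 := tg.mul isTable_mu23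
      have t2 := (isTable_tpow isTable_mu23 10).mul tg
      rw [hc] at t1
      exact IsTable.eq_of_eq t1 t2
    exact centChk' _ h2 e

end Cfsg.Agent.Helper27
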