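import Cfsg.Agent.Helper27.OutMathieu
import Cfsg.Prelude.Def_KGroupFacts

/-!
All automorphisms are inner for a subgroup of `M24` generated by the translation, the
multiplication by `2` and an element normalising the latter, given table certificates.
-/

set_option autoImplicit false

namespace Cfsg.Agent.Helper27

open Cfsg Cfsg.Agent.Helper7

theorem closure_subtype_eq_top {G : Type*} [Group G] (H : Subgroup G) (x y z : G)
    (hx : x ∈ H) (hy : y ∈ H) (hz : z ∈ H)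
    (hgen : Subgroup.closure ({x, y, z} : Set G) = H) :
    Subgroup.closure ({⟨x, hx⟩, ⟨y, hy⟩, ⟨z, hz⟩} : Set ↥H) = ⊤ := by
  apply Subgroup.map_injective H.subtype_injective
  rw [MonoidHom.map_closure, ← MonoidHom.range_eq_map, Subgroup.range_subtype]
  rw [Set.image_insert_eq, Set.image_insert_eq, Set.image_singleton]
  exact hgen

theorem inn_eq_top_of_data (H : Subgroup (Equiv.Perm GolayPt)) (d : Equiv.Perm GolayPt)
    (tD : List ℕ) (k : ℕ) (rels : List (List (Fin 3) × ℕ))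
    (hA : trP 1 ∈ H) (hC : mu23 ∈ H) (hD : d ∈ H) (hT : IsTable tD d)
    (h23 : ¬ 23 ^ 2 ∣ Nat.card H)
    (hcent : ∀ g ∈ H, g * mu23 = mu23 * g → g ∈ Q23)
    (hgen : Subgroup.closure ({trP 1, mu23, d} : Set (Equiv.Perm GolayPt)) = H)
    (hconj : compT tD tM = compT (tpow tM k) tD)
    (hnorm : ∀ i < 11, ∃ m < 11,
      compT (compT (tpow tM m) (compT tD (tpow tM i))) (tpow tM (11 - m)) = tD)
    (hrel1 : relsHold tA tM tD rels = true)
    (hrel : ∀ j < 23, relsHold (tpow tA j) tM tD rels = true → j = 1) :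
    Cfsg.Inn ↥H = ⊤ := by
  have : Fact (Nat.Prime 23) := ⟨by norm_num⟩
  have hPH : ∀ b : ZMod 23, trP b ∈ H := fun b => by
    rw [trP_eq_pow]
    exact H.pow_mem hA _
  apply inn_eq_top_of_chain 23 (⟨trP 1, hA⟩ : ↥H) ⟨mu23, hC⟩ ⟨d, hD⟩ 2 k
  · rw [Subgroup.orderOf_mk, orderOf_trP_one]
  · exact h23
  · -- centraliser of the translation
    intro g hg
    have h1 : g.1 * trP 1 = trP 1 * g.1 := congrArg Subtype.val hg
    obtain ⟨b, hb⟩ := eq_trP_of_commute h1
    have : g = (⟨trP 1, hA⟩ : ↥H) ^ b.val := by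
      apply Subtype.ext
      rw [Subgroup.coe_pow, hb, trP_eq_pow]
    rw [this]
    exact Subgroup.pow_mem _ (Subgroup.mem_zpowers _) _
  · apply Subtype.ext
    rw [Subgroup.coe_mul, Subgroup.coe_mul, Subgroup.coe_inv, Subgroup.coe_pow]
    exact mu23_conj_trP
  · -- normalising the image of the multiplication
    intro z hz
    have h1 : z * (⟨trP 1, hA⟩ : ↥H) = ⟨trP 1, hA⟩ * z :=
      commute_of_mem_zpowers hz (Subgroup.mem_zpowers _)
    have h2 : z.1 * trP 1 = trP 1 * z.1 := congrArg Subtype.val h1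
    obtain ⟨b, hb⟩ := eq_trP_of_commute h2
    refine ⟨⟨trP (2 * b), hPH _⟩, ?_, ?_⟩
    · have : (⟨trP (2 * b), hPH _⟩ : ↥H) = (⟨trP 1, hA⟩ : ↥H) ^ (2 * b).val := by
        apply Subtype.ext
        rw [Subgroup.coe_pow]
        exact trP_eq_pow _
      rw [this]
      exact Subgroup.pow_mem _ (Subgroup.mem_zpowers _) _
    · apply Subtype.ext
      rw [Subgroup.coe_mul, Subgroup.coe_mul, Subgroup.coe_mul, Subgroup.coe_inv, hb]
      exact trP_conj_mu23 b
  · -- centraliser of the multiplication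
    intro g hg
    have h1 : g.1 * mu23 = mu23 * g.1 := congrArg Subtype.val hg
    have h2 := hcent g.1 g.2 h1
    obtain ⟨n, hn⟩ := Subgroup.mem_zpowers_iff.mp h2
    have : g = (⟨mu23, hC⟩ : ↥H) ^ n := by
      apply Subtype.ext
      rw [Subgroup.coe_zpow, hn]
    rw [this]
    exact Subgroup.zpow_mem _ (Subgroup.mem_zpowers _) _
  · -- the action of `d`
    apply Subtype.ext
    rw [Subgroup.coe_mul, Subgroup.coe_mul, Subgroup.coe_inv, Subgroup.coe_pow]
    show d * mu23 * d⁻¹ = mu23 ^ k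
    rw [mul_inv_eq_iff_eq_mul]
    have t1 := hT.mul isTable_mu23
    have t2 := (isTable_tpow isTable_mu23 k).mul hT
    rw [hconj] at t1
    exact t1.inj t2
  · -- normalising the image of `d`
    intro z hz
    have hC11 : (⟨mu23, hC⟩ : ↥H) ^ 11 = 1 := by
      apply Subtype.ext
      rw [Subgroup.coe_pow]
      exact mu23_pow_eleven
    obtain ⟨i, hi, rfl⟩ := exists_lt_pow_of_mem_zpowers (by norm_num) hC11 hz
    obtain ⟨m, hm, hmi⟩ := hnorm i hi
    refine ⟨(⟨mu23, hC⟩ : ↥H) ^ m, Subgroup.pow_mem _ (Subgroup.mem_zpowers _) _, ?_⟩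
    apply Subtype.ext
    rw [Subgroup.coe_mul, Subgroup.coe_mul, Subgroup.coe_mul, Subgroup.coe_inv,
      Subgroup.coe_pow, Subgroup.coe_pow]
    show mu23 ^ m * (d * mu23 ^ i) * (mu23 ^ m)⁻¹ = d
    have hinv : (mu23 ^ m)⁻¹ = mu23 ^ (11 - m) := by
      apply inv_eq_of_mul_eq_one_right
      rw [← pow_add, show m + (11 - m) = 11 by omega, mu23_pow_eleven]
    rw [hinv]
    have t1 := ((isTable_tpow isTable_mu23 m).mul (hT.mul (isTable_tpow isTable_mu23 i))).mul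
      (isTable_tpow isTable_mu23 (11 - m))
    rw [hmi] at t1
    exact t1.inj hT
  · exact closure_subtype_eq_top H _ _ _ hA hC hD hgen
  · -- the relations
    intro ψ h1 h2 h3
    have hA23 : (⟨trP 1, hA⟩ : ↥H) ^ 23 = 1 := by
      apply Subtype.ext
      rw [Subgroup.coe_pow]
      exact trP_one_pow
    obtain ⟨j, hj, hψ⟩ := exists_lt_pow_of_mem_zpowers (by norm_num) hA23 h1
    have hr1 := (relsHold_iff isTable_trP_one isTable_mu23 hT rels).mp hrel1
    have hr2 : ∀ r ∈ rels, evalW3 (trP 1 ^ j) mu23 d r.1 ^ r.2 = 1 := by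
      intro r hr
      have e1 : evalW3 (⟨trP 1, hA⟩ : ↥H) ⟨mu23, hC⟩ ⟨d, hD⟩ r.1 ^ r.2 = 1 := by
        apply Subtype.ext
        rw [Subgroup.coe_pow, ← Subgroup.coe_subtype, map_evalW3 H.subtype]
        exact hr1 r hr
      have e2 := congrArg ψ e1
      rw [map_pow, map_one] at e2
      have e3 := map_evalW3 (ψ : ↥H ≃* ↥H).toMonoidHom (⟨trP 1, hA⟩ : ↥H) ⟨mu23, hC⟩ ⟨d, hD⟩ r.1
      have e4 : ψ (evalW3 (⟨trP 1, hA⟩ : ↥H) ⟨mu23, hC⟩ ⟨d, hD⟩ r.1) =
          evalW3 ((⟨trP 1, hA⟩ : ↥H) ^ j) ⟨mu23, hC⟩ ⟨d, hD⟩ r.1 := by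
        have e3' : ψ (evalW3 (⟨trP 1, hA⟩ : ↥H) ⟨mu23, hC⟩ ⟨d, hD⟩ r.1) =
          evalW3 (ψ ⟨trP 1, hA⟩) (ψ ⟨mu23, hC⟩) (ψ ⟨d, hD⟩) r.1 := e3
        rw [e3', hψ, h2, h3]
      rw [e4] at e2
      have e5 := congrArg Subtype.val e2
      rw [Subgroup.coe_pow, ← Subgroup.coe_subtype, map_evalW3 H.subtype] at e5
      exact e5
    have hr3 := (relsHold_iff (isTable_tpow isTable_trP_one j) isTable_mu23 hT rels).mpr hr2
    have hj1 := hrel j hj hr3
    rw [hψ, hj1, pow_one]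

end Cfsg.Agent.Helper27
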