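import Cfsg.Prelude.Def_SporadicCombinatorics
import Cfsg.Agent.Helper5.ProjLine

/-!
The group of fractional linear maps of the projective line over the field with 23 elements,
as a group of permutations of the 24 points: the image of `SL(2, 23)`.
-/

set_option autoImplicit false

namespace Cfsg.Agent.Helper27

open Cfsg Matrix

instance fact_prime_23 : Fact (Nat.Prime 23) := ⟨by norm_num⟩

/-- `SL(2, 23)` -/
abbrev SL23 : Type := SpecialLinearGroup (Fin 2) (ZMod 23)

/-- the action of `SL(2, 23)` on the 24 points by fractional linear maps -/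
noncomputable def mobHom : SL23 →* Equiv.Perm GolayPt :=
  (MulAction.toPermHom (GL (Fin 2) (ZMod 23)) (OnePoint (ZMod 23))).comp SpecialLinearGroup.toGL

theorem mobHom_none (A : SL23) :
    mobHom A none = if A 1 0 = 0 then none else some (A 0 0 / A 1 0) := by
  have h := OnePoint.smul_infty_eq_ite (K := ZMod 23) (SpecialLinearGroup.toGL A)
  exact h

theorem mobHom_some (A : SL23) (k : ZMod 23) :
    mobHom A (some k) = if A 1 0 * k + A 1 1 = 0 then none
      else some ((A 0 0 * k + A 0 1) / (A 1 0 * k + A 1 1)) := by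
  have h := OnePoint.smul_some_eq_ite (K := ZMod 23) (g := SpecialLinearGroup.toGL A) (k := k)
  exact h


/-- the translation `t ↦ t + x` -/
def trP (x : ZMod 23) : Equiv.Perm GolayPt := Equiv.optionCongr (Equiv.addRight x)

/-- the multiplication `t ↦ u t` -/
def muP (u : (ZMod 23)ˣ) : Equiv.Perm GolayPt := Equiv.optionCongr (Units.mulLeft u)

@[simp] theorem trP_none (x : ZMod 23) : trP x none = none := rfl
@[simp] theorem trP_some (x k : ZMod 23) : trP x (some k) = some (k + x) := rfl
@[simp] theorem muP_none (u : (ZMod 23)ˣ) : muP u none = none := rfl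
@[simp] theorem muP_some (u : (ZMod 23)ˣ) (k : ZMod 23) : muP u (some k) = some (u * k) := rfl

theorem projInv_none : projInv none = some 0 := rfl

theorem projInv_some (k : ZMod 23) : projInv (some k) = if k = 0 then none else some (-1 / k) := by
  show projInvFun (some k) = _
  unfold projInvFun
  by_cases hk : k = 0
  · simp [hk]
  · have h22 : k ^ 22 = 1 := ZMod.pow_card_sub_one_eq_one hk
    have : -(k ^ 21) = -1 / k := by
      rw [eq_div_iff hk]
      linear_combination -h22
    simp only [hk, if_false, this]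

/-- the generators of `PSL(2, 23)` -/
def genL : Set (Equiv.Perm GolayPt) :=
  {Equiv.optionCongr (Equiv.addRight (1 : ZMod 23)), projInv} ∪
    {g : Equiv.Perm GolayPt | ∃ u : (ZMod 23)ˣ, IsSquare u ∧ g = Equiv.optionCongr (Units.mulLeft u)}

/-- the generators of the point stabiliser `23:11` -/
def genF : Set (Equiv.Perm GolayPt) :=
  {Equiv.optionCongr (Equiv.addRight (1 : ZMod 23))} ∪
    {g : Equiv.Perm GolayPt | ∃ u : (ZMod 23)ˣ, IsSquare u ∧ g = Equiv.optionCongr (Units.mulLeft u)}

/-- `PSL(2, 23)` as a group of permutations -/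
def L23 : Subgroup (Equiv.Perm GolayPt) := Subgroup.closure genL

/-- `23:11` as a group of permutations -/
def F23 : Subgroup (Equiv.Perm GolayPt) := Subgroup.closure genF

theorem F23_le_L23 : F23 ≤ L23 := by
  apply Subgroup.closure_mono
  rintro g (hg | hg)
  · left; left; exact hg
  · right; exact hg

theorem trP_one_mem : trP 1 ∈ F23 := Subgroup.subset_closure (Or.inl rfl)

theorem trP_add (x y : ZMod 23) : trP (x + y) = trP x * trP y := by
  ext1 p
  cases p with
  | none => rfl
  | some k =>
    rw [Equiv.Perm.mul_apply, trP_some, trP_some, trP_some]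
    congr 1
    ring

theorem trP_zero : trP 0 = 1 := by
  ext1 p
  cases p with
  | none => rfl
  | some k =>
    rw [trP_some, add_zero]
    rfl

theorem trP_natCast (n : ℕ) : trP (n : ZMod 23) = trP 1 ^ n := by
  induction n with
  | zero => rw [Nat.cast_zero, trP_zero, pow_zero]
  | succ n ih => rw [Nat.cast_succ, trP_add, ih, pow_succ]

theorem trP_mem (x : ZMod 23) : trP x ∈ F23 := by
  have : x = ((ZMod.val x : ℕ) : ZMod 23) := (ZMod.natCast_zmod_val x).symm
  rw [this, trP_natCast]
  exact F23.pow_mem trP_one_mem _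

theorem muP_sq_mem (u : (ZMod 23)ˣ) : muP (u * u) ∈ F23 :=
  Subgroup.subset_closure (Or.inr ⟨u * u, ⟨u, rfl⟩, rfl⟩)

theorem projInv_mem_L23 : projInv ∈ L23 := Subgroup.subset_closure (Or.inl (Or.inr rfl))

theorem det_eq (A : SL23) : A 0 0 * A 1 1 - A 0 1 * A 1 0 = 1 := by
  have := A.2
  rwa [det_fin_two] at this

/-- upper triangular matrices act by affine maps -/
theorem mobHom_upper (A : SL23) (hc : A 1 0 = 0) (u : (ZMod 23)ˣ) (hu : (u : ZMod 23) = A 0 0) :
    mobHom A = trP (A 0 0 * A 0 1) * muP (u * u) := by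
  have hdet := det_eq A
  rw [hc, mul_zero, sub_zero] at hdet
  have hd : A 1 1 ≠ 0 := by
    intro h
    rw [h, mul_zero] at hdet
    exact zero_ne_one hdet
  ext1 p
  cases p with
  | none =>
    rw [mobHom_none, if_pos hc]
    rfl
  | some k =>
    rw [mobHom_some, hc, zero_mul, zero_add, if_neg hd, Equiv.Perm.mul_apply, muP_some, trP_some]
    congr 1
    rw [Units.val_mul, hu, div_eq_iff hd]
    linear_combination (-(A 0 0 * k) - A 0 1) * hdet

/-- the Bruhat decomposition of the action of a matrix with nonzero lower left entry -/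
theorem mobHom_lower (A : SL23) (hc : A 1 0 ≠ 0) (u : (ZMod 23)ˣ) (hu : (u : ZMod 23) = A 1 0) :
    mobHom A = trP (A 0 0 / A 1 0) * projInv * (trP (A 1 0 * A 1 1) * muP (u * u)) := by
  have hdet := det_eq A
  ext1 p
  cases p with
  | none =>
    rw [mobHom_none, if_neg hc]
    simp only [Equiv.Perm.mul_apply, muP_none, trP_none, projInv_none, trP_some, zero_add]
  | some k =>
    rw [mobHom_some]
    simp only [Equiv.Perm.mul_apply, muP_some, trP_some, projInv_some, Units.val_mul, hu]
    by_cases h : A 1 0 * k + A 1 1 = 0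
    · have h2 : A 1 0 * A 1 0 * k + A 1 0 * A 1 1 = 0 := by
        linear_combination A 1 0 * h
      rw [if_pos h, if_pos h2]
      rfl
    · have h2 : A 1 0 * A 1 0 * k + A 1 0 * A 1 1 ≠ 0 := by
        intro h3
        apply h
        have : A 1 0 * (A 1 0 * k + A 1 1) = 0 := by linear_combination h3
        rcases mul_eq_zero.mp this with h4 | h4
        · exact absurd h4 hc
        · exact h4
      rw [if_neg h, if_neg h2, trP_some]
      congr 1
      have h3 : A 1 0 * A 1 0 * k + A 1 0 * A 1 1 = A 1 0 * (A 1 0 * k + A 1 1) := by ring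
      rw [h3, eq_comm, div_add_div _ _ (mul_ne_zero hc h) hc,
        div_eq_div_iff (mul_ne_zero (mul_ne_zero hc h) hc) h]
      linear_combination (A 1 0 * (A 1 0 * k + A 1 1)) * hdet

theorem exists_unit (a : ZMod 23) (ha : a ≠ 0) : ∃ u : (ZMod 23)ˣ, (u : ZMod 23) = a :=
  ⟨Units.mk0 a ha, rfl⟩

theorem mobHom_mem_F23 (A : SL23) (hc : A 1 0 = 0) : mobHom A ∈ F23 := by
  have hdet := det_eq A
  rw [hc, mul_zero, sub_zero] at hdet
  have ha : A 0 0 ≠ 0 := by
    intro h
    rw [h, zero_mul] at hdet
    exact zero_ne_one hdet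
  obtain ⟨u, hu⟩ := exists_unit _ ha
  rw [mobHom_upper A hc u hu]
  exact F23.mul_mem (trP_mem _) (muP_sq_mem u)

theorem mobHom_mem_L23 (A : SL23) : mobHom A ∈ L23 := by
  by_cases hc : A 1 0 = 0
  · exact F23_le_L23 (mobHom_mem_F23 A hc)
  · obtain ⟨u, hu⟩ := exists_unit _ hc
    rw [mobHom_lower A hc u hu]
    exact L23.mul_mem (L23.mul_mem (F23_le_L23 (trP_mem _)) projInv_mem_L23)
      (F23_le_L23 (F23.mul_mem (trP_mem _) (muP_sq_mem u)))

/-! ### generators as matrices, the kernel and the order -/

/-- `t ↦ t + x` -/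
def matT (x : ZMod 23) : SL23 := ⟨!![1, x; 0, 1], by simp [det_fin_two]⟩

/-- `t ↦ -1/t` -/
def matW : SL23 := ⟨!![0, -1; 1, 0], by simp [det_fin_two]⟩

/-- `t ↦ s² t` -/
def matD (s : (ZMod 23)ˣ) : SL23 :=
  ⟨!![(s : ZMod 23), 0; 0, ((s⁻¹ : (ZMod 23)ˣ) : ZMod 23)], by
    rw [Matrix.det_fin_two_of, mul_zero, sub_zero, ← Units.val_mul, mul_inv_cancel, Units.val_one]⟩

/-- minus the identity -/
def matN : SL23 := ⟨!![-1, 0; 0, -1], by simp [det_fin_two]⟩

theorem muP_one : muP 1 = 1 := by
  ext1 p
  cases p with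
  | none => rfl
  | some k =>
    rw [muP_some, Units.val_one, one_mul]
    rfl

theorem mobHom_matT (x : ZMod 23) : mobHom (matT x) = trP x := by
  have h := mobHom_upper (matT x) rfl 1 rfl
  rw [h, mul_one, muP_one, mul_one]
  show trP (1 * x) = trP x
  rw [one_mul]

theorem mobHom_matD (s : (ZMod 23)ˣ) : mobHom (matD s) = muP (s * s) := by
  have h := mobHom_upper (matD s) rfl s rfl
  rw [h]
  show trP ((s : ZMod 23) * 0) * muP (s * s) = muP (s * s)
  rw [mul_zero, trP_zero, one_mul]

theorem mobHom_matW : mobHom matW = projInv := by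
  have h := mobHom_lower matW (by show (1 : ZMod 23) ≠ 0; exact one_ne_zero) 1 rfl
  rw [h, mul_one, muP_one, mul_one]
  show trP (0 / 1) * projInv * trP (1 * 0) = projInv
  rw [zero_div, mul_zero, trP_zero, one_mul, mul_one]

theorem range_mobHom : mobHom.range = L23 := by
  apply le_antisymm
  · rintro _ ⟨A, rfl⟩
    exact mobHom_mem_L23 A
  · rw [L23, Subgroup.closure_le]
    rintro g ((rfl | hg) | ⟨u, ⟨r, rfl⟩, rfl⟩)
    · exact ⟨matT 1, mobHom_matT 1⟩
    · rw [Set.mem_singleton_iff] at hg
      subst hg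
      exact ⟨matW, mobHom_matW⟩
    · exact ⟨matD r, mobHom_matD r⟩

theorem mobHom_matN : mobHom matN = 1 := by
  have h := mobHom_upper matN rfl (-1) rfl
  rw [h]
  show trP ((-1 : ZMod 23) * 0) * muP (-1 * -1) = 1
  rw [mul_zero, trP_zero, one_mul, neg_mul_neg, one_mul, muP_one]

theorem mobHom_eq_one_iff (A : SL23) : mobHom A = 1 ↔ A = 1 ∨ A = matN := by
  constructor
  · intro h
    have hdet := det_eq A
    have hc : A 1 0 = 0 := by
      by_contra hc
      have := mobHom_none A
      rw [if_neg hc, h] at this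
      exact absurd this (by simp)
    rw [hc, mul_zero, sub_zero] at hdet
    have hd : A 1 1 ≠ 0 := by
      intro h0
      rw [h0, mul_zero] at hdet
      exact zero_ne_one hdet
    have h0 := mobHom_some A 0
    rw [h, hc, zero_mul, zero_add, if_neg hd, mul_zero, zero_add] at h0
    have hb : A 0 1 = 0 := by
      have : (0 : ZMod 23) = A 0 1 / A 1 1 := Option.some.inj h0
      rcases div_eq_zero_iff.mp this.symm with h1 | h1
      · exact h1
      · exact absurd h1 hd
    have h1 := mobHom_some A 1
    rw [h, hc, zero_mul, zero_add, if_neg hd, mul_one, hb, add_zero] at h1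
    have had : A 0 0 = A 1 1 := by
      have : (1 : ZMod 23) = A 0 0 / A 1 1 := Option.some.inj h1
      rw [eq_div_iff hd, one_mul] at this
      exact this.symm
    rw [← had] at hdet
    have hsq : (A 0 0 - 1) * (A 0 0 + 1) = 0 := by linear_combination hdet
    rcases mul_eq_zero.mp hsq with h2 | h2
    · left
      have ha : A 0 0 = 1 := by linear_combination h2
      ext i j
      fin_cases i <;> fin_cases j
      · exact ha
      · exact hb
      · exact hc
      · show A 1 1 = 1
        rw [← had, ha]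
    · right
      have ha : A 0 0 = -1 := by linear_combination h2
      ext i j
      fin_cases i <;> fin_cases j
      · exact ha
      · exact hb
      · exact hc
      · show A 1 1 = -1
        rw [← had, ha]
  · rintro (rfl | rfl)
    · exact map_one _
    · exact mobHom_matN

theorem card_ker_mobHom : Nat.card mobHom.ker = 2 := by
  have hset : (mobHom.ker : Set SL23) = {1, matN} := by
    ext A
    rw [SetLike.mem_coe, MonoidHom.mem_ker, mobHom_eq_one_iff]
    simp
  have hne : (1 : SL23) ≠ matN := by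
    intro h
    have := congrArg (fun A : SL23 => A 0 0) h
    have h2 : (1 : ZMod 23) = -1 := this
    exact absurd h2 (by decide)
  have : Nat.card mobHom.ker = (mobHom.ker : Set SL23).ncard := (Nat.card_coe_set_eq _)
  rw [this, hset, Set.ncard_pair hne]

theorem card_SL23 : Nat.card SL23 = 12144 := by
  rw [SL23, Cfsg.Agent.Helper5.card_SL2, ZMod.card]
  norm_num

theorem card_L23 : Nat.card L23 = 6072 := by
  rw [← range_mobHom, ← Subgroup.index_ker]
  have h := Subgroup.card_mul_index mobHom.ker
  rw [card_ker_mobHom, card_SL23] at h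
  omega

/-! ### the point stabiliser -/

theorem stab_subgroup_eq {G α : Type*} [Group G] [MulAction G α]
    (K : Subgroup G) (x : α) :
    MulAction.stabilizer K x = (MulAction.stabilizer G x).subgroupOf K := by
  ext k
  simp [Subgroup.mem_subgroupOf, MulAction.mem_stabilizer_iff, Subgroup.smul_def]

/-- `H.subgroupOf K` has as many elements as `K ⊓ H` -/
def subgroupOfEquivInf' {G : Type*} [Group G] (H K : Subgroup G) :
    ↥(H.subgroupOf K) ≃ ↥(K ⊓ H) where
  toFun x := ⟨x.1.1, Subgroup.mem_inf.2 ⟨x.1.2, Subgroup.mem_subgroupOf.1 x.2⟩⟩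
  invFun y := ⟨⟨y.1, (Subgroup.mem_inf.1 y.2).1⟩, Subgroup.mem_subgroupOf.2 (Subgroup.mem_inf.1 y.2).2⟩
  left_inv _ := rfl
  right_inv _ := rfl

theorem F23_fix_none {g : Equiv.Perm GolayPt} (hg : g ∈ F23) : g none = none := by
  have : F23 ≤ MulAction.stabilizer (Equiv.Perm GolayPt) (none : GolayPt) := by
    rw [F23, Subgroup.closure_le]
    rintro g (rfl | ⟨u, _, rfl⟩)
    · rfl
    · rfl
  exact this hg

theorem L23_inf_stab :
    L23 ⊓ MulAction.stabilizer (Equiv.Perm GolayPt) (none : GolayPt) = F23 := by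
  apply le_antisymm
  · rintro g ⟨hg, hfix⟩
    rw [SetLike.mem_coe, ← range_mobHom] at hg
    obtain ⟨A, rfl⟩ := hg
    apply mobHom_mem_F23
    by_contra hc
    have h1 := mobHom_none A
    rw [if_neg hc] at h1
    have h2 : mobHom A none = none := hfix
    rw [h2] at h1
    exact absurd h1 (by simp)
  · intro g hg
    exact ⟨F23_le_L23 hg, F23_fix_none hg⟩

theorem L23_transitive (p : GolayPt) : ∃ g ∈ L23, g none = p := by
  cases p with
  | none => exact ⟨1, L23.one_mem, rfl⟩
  | some x =>
    refine ⟨trP x * projInv, L23.mul_mem (F23_le_L23 (trP_mem x)) projInv_mem_L23, ?_⟩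
    rw [Equiv.Perm.mul_apply, projInv_none, trP_some, zero_add]

theorem card_F23 : Nat.card F23 = 253 := by
  have h1 := Subgroup.card_mul_index (MulAction.stabilizer L23 (none : GolayPt))
  have horb : MulAction.orbit L23 (none : GolayPt) = Set.univ := by
    ext p
    simp only [Set.mem_univ, iff_true]
    obtain ⟨g, hg, rfl⟩ := L23_transitive p
    exact ⟨⟨g, hg⟩, rfl⟩
  rw [MulAction.index_stabilizer, horb, Set.ncard_univ, card_L23, stab_subgroup_eq,
    Nat.card_congr (subgroupOfEquivInf' _ _), L23_inf_stab] at h1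
  have h24 : Nat.card GolayPt = 24 := by
    rw [Nat.card_eq_fintype_card]
    rfl
  rw [h24] at h1
  omega

end Cfsg.Agent.Helper27
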