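import Mathlib

/-!
The Ree–Scott inequality for permutations (elementary proof of Feit–Lyndon–Scott): if `x * y * z = 1` in
`Perm α`, then `c x + c y + c z ≤ |α| + 2 s`, where `c` counts cycles (fixed points included) and `s` is the
number of orbits of `⟨x, y⟩`.
-/

set_option autoImplicit false

namespace Cfsg.Agent.Helper27.ReeScott

open Equiv Equiv.Perm

variable {α : Type*} [Fintype α] [DecidableEq α]

/-- number of orbits of a subgroup of `Perm α` -/
noncomputable def orbCount (H : Subgroup (Perm α)) : ℕ := Nat.card (MulAction.orbitRel.Quotient H α)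

/-- number of cycles of a permutation, fixed points included -/
noncomputable def cyc (σ : Perm α) : ℕ := orbCount (Subgroup.zpowers σ)

/-- the class of a point -/
def cls (H : Subgroup (Perm α)) (x : α) : MulAction.orbitRel.Quotient H α := Quotient.mk'' x

theorem cls_eq_iff (H : Subgroup (Perm α)) (x y : α) : cls H x = cls H y ↔ ∃ h ∈ H, h y = x := by
  unfold cls
  rw [Quotient.eq'']
  show x ∈ MulAction.orbit H y ↔ _
  rw [MulAction.mem_orbit_iff]
  constructor
  · rintro ⟨h, hh⟩
    exact ⟨h.1, h.2, hh⟩
  · rintro ⟨h, hh, hxy⟩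
    exact ⟨⟨h, hh⟩, hxy⟩

theorem cls_smul (H : Subgroup (Perm α)) {h : Perm α} (hh : h ∈ H) (x : α) : cls H (h x) = cls H x :=
  (cls_eq_iff H _ _).mpr ⟨h, hh, rfl⟩

theorem cls_surjective (H : Subgroup (Perm α)) : Function.Surjective (cls H) := by
  intro q
  induction q using Quotient.inductionOn' with
  | h x => exact ⟨x, rfl⟩

/-- a map between orbit spaces induced by a function on points -/
theorem exists_map {H K : Subgroup (Perm α)} (f : α → MulAction.orbitRel.Quotient K α)
    (hf : ∀ h ∈ H, ∀ x, f (h x) = f x) :
    ∃ F : MulAction.orbitRel.Quotient H α → MulAction.orbitRel.Quotient K α, ∀ x, F (cls H x) = f x := by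
  refine ⟨Quotient.lift f ?_, fun x => rfl⟩
  intro x y hxy
  obtain ⟨h, hh⟩ := hxy
  rw [← hh]
  exact hf h.1 h.2 y

theorem orbCount_mono {H K : Subgroup (Perm α)} (hHK : H ≤ K) : orbCount K ≤ orbCount H := by
  obtain ⟨F, hF⟩ := exists_map (H := H) (K := K) (cls K) (fun h hh x => cls_smul K (hHK hh) x)
  apply Nat.card_le_card_of_surjective F
  intro q
  obtain ⟨x, rfl⟩ := cls_surjective K q
  exact ⟨cls H x, hF x⟩

theorem orbCount_bot : orbCount (⊥ : Subgroup (Perm α)) = Fintype.card α := by
  unfold orbCount
  rw [← Nat.card_eq_fintype_card]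
  apply Nat.card_congr
  refine (Equiv.ofBijective (cls ⊥) ⟨?_, cls_surjective ⊥⟩).symm
  intro x y hxy
  obtain ⟨h, hh, hyx⟩ := (cls_eq_iff ⊥ x y).mp hxy
  rw [Subgroup.mem_bot] at hh
  rw [hh] at hyx
  exact hyx.symm

theorem cyc_one : cyc (1 : Perm α) = Fintype.card α := by
  unfold cyc
  rw [Subgroup.zpowers_one_eq_bot, orbCount_bot]

theorem cyc_inv (σ : Perm α) : cyc σ⁻¹ = cyc σ := by
  unfold cyc
  rw [Subgroup.zpowers_inv]

/-- the collapsing map used to compare the orbits of `H` and of `H ⊔ ⟨swap a b⟩` -/
noncomputable def collapse (H : Subgroup (Perm α)) (a b : α) (x : α) : MulAction.orbitRel.Quotient H α :=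
  @ite _ (cls H x = cls H b) (Classical.propDecidable _) (cls H a) (cls H x)

theorem collapse_invariant (H : Subgroup (Perm α)) (a b : α) :
    ∀ g ∈ H ⊔ Subgroup.zpowers (swap a b), ∀ x, collapse H a b (g x) = collapse H a b x := by
  intro g hg
  rw [Subgroup.zpowers_eq_closure, ← Subgroup.closure_eq H, ← Subgroup.closure_union] at hg
  induction hg using Subgroup.closure_induction with
  | mem g hg =>
    intro x
    rcases hg with hg | hg
    · unfold collapse
      rw [cls_smul H hg x]
    · rw [Set.mem_singleton_iff] at hg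
      subst hg
      by_cases hxa : x = a
      · subst hxa
        rw [swap_apply_left]
        unfold collapse
        by_cases h : cls H x = cls H b
        · simp [h]
        · simp [h]
      · by_cases hxb : x = b
        · subst hxb
          rw [swap_apply_right]
          unfold collapse
          by_cases h : cls H a = cls H x
          · simp [h]
          · simp [h]
        · rw [swap_apply_of_ne_of_ne hxa hxb]
  | one => intro x; rfl
  | mul g g' _ _ ih ih' =>
    intro x
    rw [Perm.mul_apply, ih, ih']
  | inv g _ ih =>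
    intro x
    have := ih (g⁻¹ x)
    have e : g (g⁻¹ x) = x := Equiv.apply_symm_apply g x
    rw [e] at this
    exact this.symm

/-- adding a transposition lowers the number of orbits by at most one -/
theorem orbCount_sup_swap (H : Subgroup (Perm α)) (a b : α) :
    orbCount H ≤ orbCount (H ⊔ Subgroup.zpowers (swap a b)) + 1 := by
  classical
  set K := H ⊔ Subgroup.zpowers (swap a b) with hK
  obtain ⟨F, hF⟩ := exists_map (H := K) (K := H) (collapse H a b) (collapse_invariant H a b)
  -- `cls K` is injective on the classes different from that of `b`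
  let S := {q : MulAction.orbitRel.Quotient H α // q ≠ cls H b}
  obtain ⟨G, hG⟩ := exists_map (H := H) (K := K) (cls K)
    (fun h hh x => cls_smul K (le_sup_left (a := H) hh) x)
  have hinj : Function.Injective (fun q : S => G q.1) := by
    rintro ⟨q, hq⟩ ⟨q', hq'⟩ h
    obtain ⟨x, rfl⟩ := cls_surjective H q
    obtain ⟨y, rfl⟩ := cls_surjective H q'
    have h1 : G (cls H x) = G (cls H y) := h
    rw [hG, hG] at h1
    have h2 := congrArg F h1
    rw [hF, hF] at h2
    unfold collapse at h2
    rw [if_neg hq, if_neg hq'] at h2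
    exact Subtype.ext h2
  have h1 := Nat.card_le_card_of_injective _ hinj
  have h2 : Nat.card S + 1 = Nat.card (MulAction.orbitRel.Quotient H α) := by
    haveI : Fintype (MulAction.orbitRel.Quotient H α) := Fintype.ofFinite _
    rw [Nat.card_eq_fintype_card, Nat.card_eq_fintype_card, Fintype.card_subtype_compl,
      Fintype.card_subtype_eq]
    have : 0 < Fintype.card (MulAction.orbitRel.Quotient H α) := Fintype.card_pos_iff.mpr ⟨cls H b⟩
    omega
  unfold orbCount
  omega

/-- adding a transposition of two points in the same orbit does not change the orbits -/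
theorem orbCount_sup_swap_same (H : Subgroup (Perm α)) (a b : α) (hab : cls H a = cls H b) :
    orbCount H ≤ orbCount (H ⊔ Subgroup.zpowers (swap a b)) := by
  classical
  set K := H ⊔ Subgroup.zpowers (swap a b) with hK
  obtain ⟨F, hF⟩ := exists_map (H := K) (K := H) (collapse H a b) (collapse_invariant H a b)
  obtain ⟨G, hG⟩ := exists_map (H := H) (K := K) (cls K)
    (fun h hh x => cls_smul K (le_sup_left (a := H) hh) x)
  have hinj : Function.Injective G := by
    intro q q' h
    obtain ⟨x, rfl⟩ := cls_surjective H q
    obtain ⟨y, rfl⟩ := cls_surjective H q'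
    rw [hG, hG] at h
    have h2 := congrArg F h
    rw [hF, hF] at h2
    have e : ∀ t, collapse H a b t = cls H t := by
      intro t
      unfold collapse
      by_cases ht : cls H t = cls H b
      · rw [if_pos ht, hab, ht]
      · rw [if_neg ht]
    rw [e, e] at h2
    exact h2
  exact Nat.card_le_card_of_injective _ hinj

theorem cls_zpowers_iff (σ : Perm α) (x y : α) :
    cls (Subgroup.zpowers σ) x = cls (Subgroup.zpowers σ) y ↔ SameCycle σ y x := by
  rw [cls_eq_iff]
  constructor
  · rintro ⟨h, ⟨i, rfl⟩, hh⟩
    exact ⟨i, hh⟩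
  · rintro ⟨i, hi⟩
    exact ⟨σ ^ i, ⟨i, rfl⟩, hi⟩

/-- multiplying by a transposition of two points in different cycles merges the two cycles -/
theorem sameCycle_mul_swap {π : Perm α} {a b : α} (hab : ¬ SameCycle π a b) :
    SameCycle (π * swap a b) a b := by
  have hne : a ≠ b := fun h => hab (h ▸ SameCycle.refl π a)
  set ρ := π * swap a b with hρ
  have key : ∀ j : ℕ, 1 ≤ j → ((ρ ^ j) a = (π ^ j) b ∨ ∃ i : ℕ, (ρ ^ i) a = b) := by
    intro j hj
    induction j, hj using Nat.le_induction with
    | base =>
      left
      rw [pow_one, pow_one, hρ, Perm.mul_apply, swap_apply_left]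
    | succ j _ ih =>
      rcases ih with ih | ih
      · by_cases hb : (π ^ j) b = b
        · right
          exact ⟨j, by rw [ih, hb]⟩
        · left
          have ha : (π ^ j) b ≠ a := by
            intro h
            apply hab
            exact (SameCycle.symm ⟨(j : ℤ), by rw [zpow_natCast]; exact h⟩)
          rw [pow_succ', Perm.mul_apply, ih, pow_succ', Perm.mul_apply]
          show π (swap a b ((π ^ j) b)) = _
          rw [swap_apply_of_ne_of_ne ha hb]
          rfl
      · right
        exact ih
  obtain h | ⟨i, hi⟩ := key (orderOf π) (orderOf_pos π)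
  · rw [pow_orderOf_eq_one, Perm.one_apply] at h
    exact ⟨(orderOf π : ℤ), by rw [zpow_natCast]; exact h⟩
  · exact ⟨(i : ℤ), by rw [zpow_natCast]; exact hi⟩

theorem sameCycle_mul_swap_of_sameCycle {π : Perm α} {a b : α} (hab : ¬ SameCycle π a b) {x y : α}
    (hxy : SameCycle π x y) : SameCycle (π * swap a b) x y := by
  set ρ := π * swap a b with hρ
  have h1 : SameCycle ρ a b := sameCycle_mul_swap hab
  have step : ∀ x, SameCycle ρ x (π x) := by
    intro x
    by_cases hxa : x = a
    · subst hxa
      have : π x = ρ b := by rw [hρ, Perm.mul_apply, swap_apply_right]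
      rw [this]
      exact h1.trans ⟨1, by rw [zpow_one]⟩
    · by_cases hxb : x = b
      · subst hxb
        have : π x = ρ a := by rw [hρ, Perm.mul_apply, swap_apply_left]
        rw [this]
        exact h1.symm.trans ⟨1, by rw [zpow_one]⟩
      · have : π x = ρ x := by rw [hρ, Perm.mul_apply, swap_apply_of_ne_of_ne hxa hxb]
        rw [this]
        exact ⟨1, by rw [zpow_one]⟩
  -- the set of `g` with `x ~ g x` for all `x` is a subgroup
  let T : Subgroup (Perm α) :=
    { carrier := {g | ∀ x, SameCycle ρ x (g x)}
      mul_mem' := by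
        intro g g' hg hg' x
        rw [Perm.mul_apply]
        exact (hg' x).trans (hg (g' x))
      one_mem' := fun x => SameCycle.refl ρ x
      inv_mem' := by
        intro g hg x
        have := hg (g⁻¹ x)
        have e : g (g⁻¹ x) = x := Equiv.apply_symm_apply g x
        rw [e] at this
        exact this.symm }
  have hT : Subgroup.zpowers π ≤ T := by
    rw [Subgroup.zpowers_le]
    exact step
  obtain ⟨i, hi⟩ := hxy
  have := hT (Subgroup.zpow_mem_zpowers π i) x
  rw [hi] at this
  exact this

/-- the merge lemma -/
theorem cyc_mul_swap_lt {π : Perm α} {a b : α} (hab : ¬ SameCycle π a b) :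
    cyc (π * swap a b) + 1 ≤ cyc π := by
  classical
  set ρ := π * swap a b with hρ
  obtain ⟨F, hF⟩ := exists_map (H := Subgroup.zpowers π) (K := Subgroup.zpowers ρ)
    (cls (Subgroup.zpowers ρ)) (by
      intro h hh x
      rw [cls_zpowers_iff]
      apply sameCycle_mul_swap_of_sameCycle hab
      obtain ⟨i, rfl⟩ := hh
      exact ⟨i, rfl⟩)
  have hsurj : Function.Surjective F := by
    intro q
    obtain ⟨x, rfl⟩ := cls_surjective _ q
    exact ⟨cls _ x, hF x⟩
  have hninj : ¬ Function.Injective F := by
    intro hinj
    have h1 : F (cls _ a) = F (cls _ b) := by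
      rw [hF, hF, cls_zpowers_iff]
      exact (sameCycle_mul_swap hab).symm
    have h2 := hinj h1
    rw [cls_zpowers_iff] at h2
    exact hab h2.symm
  letI : Fintype (MulAction.orbitRel.Quotient (Subgroup.zpowers π) α) := Fintype.ofFinite _
  letI : Fintype (MulAction.orbitRel.Quotient (Subgroup.zpowers ρ) α) := Fintype.ofFinite _
  have := Fintype.card_lt_of_surjective_not_injective F hsurj hninj
  unfold cyc orbCount
  rw [Nat.card_eq_fintype_card, Nat.card_eq_fintype_card]
  omega

/-- multiplying by a transposition raises the number of cycles by at most one -/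
theorem cyc_mul_swap_le (π : Perm α) (a b : α) : cyc (π * swap a b) ≤ cyc π + 1 := by
  have h1 : Subgroup.zpowers π ≤ Subgroup.zpowers (π * swap a b) ⊔ Subgroup.zpowers (swap a b) := by
    rw [Subgroup.zpowers_le]
    have e : (π * swap a b) * swap a b = π := by
      rw [mul_assoc, swap_mul_self, mul_one]
    have hm : (π * swap a b) * swap a b ∈
        Subgroup.zpowers (π * swap a b) ⊔ Subgroup.zpowers (swap a b) :=
      Subgroup.mul_mem _ (Subgroup.mem_sup_left (Subgroup.mem_zpowers _))
        (Subgroup.mem_sup_right (Subgroup.mem_zpowers _))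
    rw [e] at hm
    exact hm
  have h2 := orbCount_mono h1
  have h3 := orbCount_sup_swap (Subgroup.zpowers (π * swap a b)) a b
  unfold cyc
  omega

/-- product of the transpositions of a list of pairs -/
def prodSwaps (L : List (α × α)) : Perm α := (L.map (fun p => swap p.1 p.2)).prod

/-- the subgroup generated by the transpositions of a list of pairs -/
def genSwaps (L : List (α × α)) : Subgroup (Perm α) :=
  Subgroup.closure {g | ∃ p ∈ L, g = swap p.1 p.2}

theorem prodSwaps_append (L L' : List (α × α)) : prodSwaps (L ++ L') = prodSwaps L * prodSwaps L' := by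
  unfold prodSwaps
  rw [List.map_append, List.prod_append]

theorem prodSwaps_mem (L : List (α × α)) : prodSwaps L ∈ genSwaps L := by
  unfold prodSwaps
  apply Subgroup.list_prod_mem
  intro g hg
  rw [List.mem_map] at hg
  obtain ⟨p, hp, rfl⟩ := hg
  exact Subgroup.subset_closure ⟨p, hp, rfl⟩

theorem genSwaps_append_singleton (L : List (α × α)) (p : α × α) :
    genSwaps (L ++ [p]) = genSwaps L ⊔ Subgroup.zpowers (swap p.1 p.2) := by
  unfold genSwaps
  rw [Subgroup.zpowers_eq_closure, ← Subgroup.closure_union]
  congr 1
  ext g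
  simp only [List.mem_append, List.mem_singleton, Set.mem_ofPred_eq, Set.mem_union,
    Set.mem_singleton_iff]
  constructor
  · rintro ⟨q, hq | hq, rfl⟩
    · exact Or.inl ⟨q, hq, rfl⟩
    · right
      rw [hq]
  · rintro (⟨q, hq, rfl⟩ | rfl)
    · exact ⟨q, Or.inl hq, rfl⟩
    · exact ⟨p, Or.inr rfl, rfl⟩

theorem genSwaps_mono {L L' : List (α × α)} (h : ∀ p ∈ L, p ∈ L') : genSwaps L ≤ genSwaps L' := by
  apply Subgroup.closure_mono
  rintro g ⟨p, hp, rfl⟩
  exact ⟨p, h p hp, rfl⟩

/-- the invariant of Feit–Lyndon–Scott -/
theorem invariant (L : List (α × α)) :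
    Fintype.card α + cyc (prodSwaps L) ≤ L.length + 2 * orbCount (genSwaps L) := by
  induction L using List.reverseRecOn with
  | nil =>
    have h1 : prodSwaps ([] : List (α × α)) = 1 := rfl
    have h2 : genSwaps ([] : List (α × α)) = ⊥ := by
      unfold genSwaps
      rw [Subgroup.closure_eq_bot_iff]
      rintro g ⟨p, hp, _⟩
      simp at hp
    rw [h1, h2, cyc_one, orbCount_bot]
    simp
    omega
  | append_singleton L p ih =>
    rw [prodSwaps_append, genSwaps_append_singleton, List.length_append, List.length_singleton]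
    have hp : prodSwaps [p] = swap p.1 p.2 := by
      unfold prodSwaps
      simp
    rw [hp]
    by_cases hsame : cls (genSwaps L) p.1 = cls (genSwaps L) p.2
    · have h1 := orbCount_sup_swap_same (genSwaps L) p.1 p.2 hsame
      have h2 := cyc_mul_swap_le (prodSwaps L) p.1 p.2
      omega
    · have h1 := orbCount_sup_swap (genSwaps L) p.1 p.2
      have hab : ¬ SameCycle (prodSwaps L) p.1 p.2 := by
        intro h
        apply hsame
        rw [cls_eq_iff]
        obtain ⟨i, hi⟩ := h.symm
        exact ⟨prodSwaps L ^ i, (genSwaps L).zpow_mem (prodSwaps_mem L) i, hi⟩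
      have h2 := cyc_mul_swap_lt hab
      omega

/-- a permutation is a product of at most `|α| - cyc σ` transpositions -/
theorem exists_factorization (σ : Perm α) :
    ∃ L : List (α × α), prodSwaps L = σ ∧ L.length + cyc σ ≤ Fintype.card α := by
  induction' h : σ.support.card using Nat.strong_induction_on with n ih generalizing σ
  by_cases h1 : σ = 1
  · subst h1
    refine ⟨[], rfl, ?_⟩
    rw [cyc_one]
    simp
  · obtain ⟨a, ha⟩ : ∃ a, σ a ≠ a := by
      by_contra hcon
      push Not at hcon
      exact h1 (Perm.ext hcon)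
    set σ' := swap a (σ a) * σ with hσ'
    have hlt : σ'.support.card < n := by
      rw [← h]
      exact card_support_swap_mul ha
    obtain ⟨L', hL', hlen⟩ := ih _ hlt σ' rfl
    refine ⟨(a, σ a) :: L', ?_, ?_⟩
    · unfold prodSwaps at hL' ⊢
      rw [List.map_cons, List.prod_cons, hL', hσ', ← mul_assoc, swap_mul_self, one_mul]
    · -- `a` is fixed by `σ'`
      have hfix : σ' a = a := by
        rw [hσ', Perm.mul_apply, swap_apply_right]
      have hnot : ¬ SameCycle σ'⁻¹ a (σ a) := by
        rw [sameCycle_inv]
        intro hs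
        obtain ⟨i, hi⟩ := hs
        have : (σ' ^ i) a = a := by
          exact (Perm.zpow_apply_eq_self_of_apply_eq_self hfix i)
        rw [this] at hi
        exact ha hi.symm
      have h2 := cyc_mul_swap_lt hnot
      have h3 : σ'⁻¹ * swap a (σ a) = σ⁻¹ := by
        rw [hσ', mul_inv_rev, swap_inv, mul_assoc, swap_mul_self, mul_one]
      rw [h3, cyc_inv, cyc_inv] at h2
      rw [List.length_cons]
      omega

/-- the Ree–Scott inequality -/
theorem ree_scott (x y z : Perm α) (h : x * y * z = 1) :
    cyc x + cyc y + cyc z ≤ Fintype.card α + 2 * orbCount (Subgroup.closure {x, y}) := by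
  obtain ⟨Lx, hLx, hx⟩ := exists_factorization x
  obtain ⟨Ly, hLy, hy⟩ := exists_factorization y
  obtain ⟨Lz, hLz, hz⟩ := exists_factorization z
  have hinv := invariant (Lx ++ Ly ++ Lz)
  rw [prodSwaps_append, prodSwaps_append, hLx, hLy, hLz, h, cyc_one] at hinv
  have hle : Subgroup.closure {x, y} ≤ genSwaps (Lx ++ Ly ++ Lz) := by
    rw [Subgroup.closure_le]
    intro g hg
    rcases hg with rfl | hg
    · rw [← hLx]
      exact genSwaps_mono (fun p hp => by simp [hp]) (prodSwaps_mem Lx)
    · rw [Set.mem_singleton_iff] at hg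
      rw [hg, ← hLy]
      exact genSwaps_mono (fun p hp => by simp [hp]) (prodSwaps_mem Ly)
  have hmono := orbCount_mono hle
  rw [List.length_append, List.length_append] at hinv
  omega

end Cfsg.Agent.Helper27.ReeScott
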