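import Mathlib
import Cfsg.Prelude.Def_Spor_Ru

/-!
Real coordinates for the rank-28 Hermitian lattice of the Rudvalis group: seven components of eight
integers, the transport of the monomial maps, lists and integer combinations.
-/

set_option autoImplicit false

namespace Cfsg.Agent.Helper27

open Cfsg Cfsg.Spor

/-- real coordinates: seven components of eight integers -/
abbrev RuF : Type := Fin 7 → Fin 8 → ℤ

/-- the real coordinates of a vector -/
def ruCf (v : RuVec) : RuF := fun n =>
  ![(v (n, 0)).re, (v (n, 0)).im, (v (n, 1)).re, (v (n, 1)).im,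
    (v (n, 2)).re, (v (n, 2)).im, (v (n, 3)).re, (v (n, 3)).im]

theorem ruCf_add (v w : RuVec) : ruCf (v + w) = ruCf v + ruCf w := by
  funext n k
  fin_cases k <;> simp [ruCf]

theorem ruCf_zero : ruCf 0 = 0 := by
  funext n k
  fin_cases k <;> simp [ruCf]

/-- the coordinates as an additive homomorphism -/
def ruCfHom : RuVec →+ RuF where
  toFun := ruCf
  map_zero' := ruCf_zero
  map_add' := ruCf_add

theorem ruNorm_eq (v : RuVec) : ruNorm v = ∑ n : Fin 7, ∑ k : Fin 8, (ruCf v n k) ^ 2 := by
  unfold ruNorm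
  rw [Fintype.sum_prod_type]
  refine Finset.sum_congr rfl fun n _ => ?_
  simp only [Fin.sum_univ_four, Fin.sum_univ_eight, ruCf, Zsqrtd.norm_def]
  simp
  ring

/-! ### the monomial maps in coordinates -/

/-- multiplication by `i` on a component -/
def ruAI (u : Fin 8 → ℤ) : Fin 8 → ℤ := ![-u 1, u 0, -u 3, u 2, -u 5, u 4, -u 7, u 6]

/-- right multiplication by `j` on a component -/
def ruAJ (u : Fin 8 → ℤ) : Fin 8 → ℤ := ![-u 3, u 2, -u 1, u 0, u 6, u 7, -u 4, -u 5]

/-- right multiplication by `k` on a component -/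
def ruAK (u : Fin 8 → ℤ) : Fin 8 → ℤ := ![-u 5, u 4, -u 6, -u 7, -u 1, u 0, u 2, u 3]

theorem ruCf_smul (v : RuVec) : ruCf (gI • v) = fun n => ruAI (ruCf v n) := by
  funext n k
  fin_cases k <;> simp [ruCf, ruAI, gI, Zsqrtd.re_mul, Zsqrtd.im_mul]

theorem ruCf_rj (v : RuVec) : ruCf (ruRj v) = fun n => ruAJ (ruCf v n) := by
  funext n k
  fin_cases k <;> simp [ruCf, ruAJ, ruRj, gI, Zsqrtd.re_mul, Zsqrtd.im_mul]

theorem ruCf_rk (v : RuVec) : ruCf (ruRk v) = fun n => ruAK (ruCf v n) := by
  funext n k
  fin_cases k <;> simp [ruCf, ruAK, ruRk, gI, Zsqrtd.re_mul, Zsqrtd.im_mul]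

theorem ruCf_sign (v : RuVec) :
    ruCf (ruSign v) = fun n => if n = 0 ∨ n = 3 ∨ n = 5 ∨ n = 6 then -ruCf v n else ruCf v n := by
  funext n k
  by_cases h : n = 0 ∨ n = 3 ∨ n = 5 ∨ n = 6
  · rw [if_pos h]
    fin_cases k <;> simp [ruCf, ruSign, h]
  · rw [if_neg h]
    fin_cases k <;> simp [ruCf, ruSign, h]

theorem ruCf_shift (v : RuVec) : ruCf (ruShift v) = fun n => ruCf v (n + 1) := by
  funext n k
  fin_cases k <;> simp [ruCf, ruShift]

/-! ### lists -/

/-- the vector of a list of 56 integers -/
def ruOfL (l : List ℤ) : RuF := fun n k => l.getD (8 * n.val + k.val) 0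

/-- the list of a vector -/
def ruFlat (f : RuF) : List ℤ :=
  List.ofFn fun j : Fin 56 => f ⟨j.val / 8, by omega⟩ ⟨j.val % 8, by omega⟩

theorem ruFlat_length (f : RuF) : (ruFlat f).length = 56 := by simp [ruFlat]

theorem ruOfL_flat (f : RuF) : ruOfL (ruFlat f) = f := by
  funext n k
  unfold ruOfL
  have h : 8 * n.val + k.val < (ruFlat f).length := by rw [ruFlat_length]; omega
  rw [List.getD_eq_getElem _ _ h]
  simp only [ruFlat, List.getElem_ofFn]
  congr 1
  · ext
    simp <;> omega
  · ext
    simp <;> omega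

theorem ruFlat_ofL (l : List ℤ) (hl : l.length = 56) : ruFlat (ruOfL l) = l := by
  apply List.ext_getElem
  · rw [ruFlat_length, hl]
  · intro j h1 h2
    simp only [ruFlat, List.getElem_ofFn, ruOfL]
    have : 8 * (j / 8) + j % 8 = j := by omega
    rw [this, List.getD_eq_getElem _ _ h2]

theorem ruFlat_sum (g : RuF) : (ruFlat g).sum = ∑ n : Fin 7, ∑ k : Fin 8, g n k := by
  unfold ruFlat
  rw [List.sum_ofFn, ← Fintype.sum_prod_type']
  symm
  apply Fintype.sum_equiv (finProdFinEquiv (m := 7) (n := 8))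
  intro p
  obtain ⟨n, k⟩ := p
  simp only [finProdFinEquiv_apply_val]
  congr 1
  · ext
    simp <;> omega
  · ext
    simp <;> omega

/-- the dot product of two lists -/
def ruLdot (l l' : List ℤ) : ℤ := (List.zipWith (· * ·) l l').sum

/-- the dot product -/
def ruDot (f f' : RuF) : ℤ := ∑ n : Fin 7, ∑ k : Fin 8, f n k * f' n k

theorem ruLdot_flat (f f' : RuF) : ruLdot (ruFlat f) (ruFlat f') = ruDot f f' := by
  have h : List.zipWith (· * ·) (ruFlat f) (ruFlat f') = ruFlat (fun n k => f n k * f' n k) := by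
    apply List.ext_getElem
    · simp [ruFlat]
    · intro j h1 h2
      simp [ruFlat]
  unfold ruLdot
  rw [h, ruFlat_sum]
  rfl

theorem ruDot_ofL (l l' : List ℤ) (hl : l.length = 56) (hl' : l'.length = 56) :
    ruDot (ruOfL l) (ruOfL l') = ruLdot l l' := by
  rw [← ruLdot_flat, ruFlat_ofL l hl, ruFlat_ofL l' hl']

theorem ruDot_add_left (f g h : RuF) : ruDot (f + g) h = ruDot f h + ruDot g h := by
  simp [ruDot, add_mul, Finset.sum_add_distrib]

theorem ruDot_neg_left (f h : RuF) : ruDot (-f) h = -ruDot f h := by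
  simp [ruDot, Finset.sum_neg_distrib]

theorem ruDot_zero_left (h : RuF) : ruDot 0 h = 0 := by
  simp [ruDot]

theorem ruDot_comm (f h : RuF) : ruDot f h = ruDot h f := by
  simp [ruDot, mul_comm]

theorem ruNorm_eq_dot (v : RuVec) : ruNorm v = ruDot (ruCf v) (ruCf v) := by
  rw [ruNorm_eq]
  simp [ruDot, sq]

/-! ### integer combinations of lists -/

/-- `c * g + acc` on lists -/
def ruAxpy (c : ℤ) (g acc : List ℤ) : List ℤ := List.zipWith (fun a b => c * a + b) g acc

/-- the combination of the lists `gs` with coefficients `cs` -/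
def ruComb : List ℤ → List (List ℤ) → List ℤ
  | c :: cs, g :: gs => if c = 0 then ruComb cs gs else ruAxpy c g (ruComb cs gs)
  | _, _ => List.replicate 56 0

theorem ruOfL_axpy (c : ℤ) (g acc : List ℤ) (hg : g.length = 56) (ha : acc.length = 56) :
    ruOfL (ruAxpy c g acc) = c • ruOfL g + ruOfL acc := by
  funext n k
  unfold ruOfL ruAxpy
  have h1 : 8 * n.val + k.val < g.length := by omega
  have h2 : 8 * n.val + k.val < acc.length := by omega
  have h3 : 8 * n.val + k.val < (List.zipWith (fun a b => c * a + b) g acc).length := by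
    simp; omega
  simp only [Pi.add_apply, Pi.smul_apply, smul_eq_mul]
  rw [List.getD_eq_getElem _ _ h3, List.getD_eq_getElem _ _ h1, List.getD_eq_getElem _ _ h2,
    List.getElem_zipWith]

theorem ruOfL_replicate : ruOfL (List.replicate 56 0) = 0 := by
  funext n k
  unfold ruOfL
  have h : 8 * n.val + k.val < (List.replicate 56 (0 : ℤ)).length := by simp; omega
  rw [List.getD_eq_getElem _ _ h, List.getElem_replicate]
  rfl

theorem ruComb_length (cs : List ℤ) (gs : List (List ℤ)) (h : ∀ g ∈ gs, g.length = 56) :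
    (ruComb cs gs).length = 56 := by
  induction gs generalizing cs with
  | nil => cases cs <;> simp [ruComb]
  | cons g gs ih =>
    cases cs with
    | nil => simp [ruComb]
    | cons c cs =>
      have hg := h g List.mem_cons_self
      have ih' := ih cs (fun g' hg' => h g' (List.mem_cons_of_mem _ hg'))
      unfold ruComb
      split
      · exact ih'
      · unfold ruAxpy
        simp [hg, ih']

theorem ruOfL_comb_mem (S : AddSubgroup RuF) (gs : List (List ℤ)) (hlen : ∀ g ∈ gs, g.length = 56)
    (hmem : ∀ g ∈ gs, ruOfL g ∈ S) (cs : List ℤ) : ruOfL (ruComb cs gs) ∈ S := by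
  induction gs generalizing cs with
  | nil =>
    have : ruComb cs [] = List.replicate 56 0 := by cases cs <;> rfl
    rw [this, ruOfL_replicate]
    exact S.zero_mem
  | cons g gs ih =>
    cases cs with
    | nil =>
      have : ruComb [] (g :: gs) = List.replicate 56 0 := rfl
      rw [this, ruOfL_replicate]
      exact S.zero_mem
    | cons c cs =>
      have hg := hlen g List.mem_cons_self
      have hlen' : ∀ g' ∈ gs, g'.length = 56 := fun g' hg' => hlen g' (List.mem_cons_of_mem _ hg')
      have ih' := ih hlen' (fun g' hg' => hmem g' (List.mem_cons_of_mem _ hg')) cs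
      unfold ruComb
      split
      · exact ih'
      · rw [ruOfL_axpy c g _ hg (ruComb_length cs gs hlen')]
        exact S.add_mem (S.zsmul_mem (hmem g List.mem_cons_self) c) ih'

end Cfsg.Agent.Helper27
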