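import Cfsg.Agent.Helper27.RuLat

/-!
The rank-28 Hermitian lattice lies in the coordinate lattice `ruMF`, whose Gram matrix is divisible by
four with diagonal divisible by eight: the lattice is even.
-/

set_option autoImplicit false
set_option maxRecDepth 100000

namespace Cfsg.Agent.Helper27

open Cfsg Cfsg.Spor

/-- every vector of the lattice has its coordinates in the coordinate lattice -/
theorem ruCf_mem_of_mem {x : RuVec} (hx : x ∈ ruLattice) : ruCf x ∈ ruMF := by
  have hM : ruMF.comap ruCfHom ∈ ruClosed := by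
    refine ⟨fun v hv => ?_, fun v hv => ⟨?_, ?_, ?_, ?_, ?_⟩⟩
    · obtain ⟨i, hi, rfl⟩ := List.getElem_of_mem hv
      have hlen : ruTable.length = 20 := rfl
      have h1 := List.all_eq_true.mp ruChkTab i (List.mem_range.mpr (by omega))
      rw [beq_iff_eq, List.getD_eq_getElem _ _ hi] at h1
      exact ruMF_of_flat _ _ h1
    · show ruCf (gI • v) ∈ ruMF
      rw [ruCf_smul]
      exact ruMF_map_le ruGI ruCertI ruChkI _ hv
    · show ruCf (ruRj v) ∈ ruMF
      rw [ruCf_rj]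
      exact ruMF_map_le ruGJ ruCertJ ruChkJ _ hv
    · show ruCf (ruRk v) ∈ ruMF
      rw [ruCf_rk]
      exact ruMF_map_le ruGK ruCertK ruChkK _ hv
    · show ruCf (ruSign v) ∈ ruMF
      rw [ruCf_sign]
      exact ruMF_map_le ruGS ruCertS ruChkS _ hv
    · show ruCf (ruShift v) ∈ ruMF
      rw [ruCf_shift]
      exact ruMF_map_le ruGT ruCertT ruChkT _ hv
  exact (sInf_le hM : ruLattice ≤ _) hx

theorem ruGram4 : ∀ l ∈ ruGens, ∀ l' ∈ ruGens, ruLdot l l' % 4 = 0 := by decide +kernel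

theorem ruGram8 : ∀ l ∈ ruGens, ruLdot l l % 8 = 0 := by decide +kernel

theorem ruDot_gen_dvd {f : RuF} (hf : f ∈ ruMF) : ∀ l ∈ ruGens, 4 ∣ ruDot f (ruOfL l) := by
  unfold ruMF at hf
  induction hf using AddSubgroup.closure_induction with
  | mem x hx =>
    obtain ⟨l₁, h₁, rfl⟩ := hx
    intro l hl
    rw [ruDot_ofL l₁ l (ruGens_length l₁ h₁) (ruGens_length l hl)]
    exact Int.dvd_of_emod_eq_zero (ruGram4 l₁ h₁ l hl)
  | zero =>
    intro l _
    rw [ruDot_zero_left]
    exact dvd_zero _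
  | add x y _ _ ihx ihy =>
    intro l hl
    rw [ruDot_add_left]
    exact dvd_add (ihx l hl) (ihy l hl)
  | neg x _ ih =>
    intro l hl
    rw [ruDot_neg_left]
    exact (dvd_neg).mpr (ih l hl)

theorem ruDot_dvd {f g : RuF} (hf : f ∈ ruMF) (hg : g ∈ ruMF) : 4 ∣ ruDot f g := by
  unfold ruMF at hf
  induction hf using AddSubgroup.closure_induction with
  | mem x hx =>
    obtain ⟨l₁, h₁, rfl⟩ := hx
    rw [ruDot_comm]
    exact ruDot_gen_dvd hg l₁ h₁
  | zero =>
    rw [ruDot_zero_left]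
    exact dvd_zero _
  | add x y _ _ ihx ihy =>
    rw [ruDot_add_left]
    exact dvd_add ihx ihy
  | neg x _ ih =>
    rw [ruDot_neg_left]
    exact (dvd_neg).mpr ih

theorem ruDot_self_dvd {f : RuF} (hf : f ∈ ruMF) : 8 ∣ ruDot f f := by
  have hf' := hf
  unfold ruMF at hf'
  induction hf' using AddSubgroup.closure_induction with
  | mem x hx =>
    obtain ⟨l₁, h₁, rfl⟩ := hx
    rw [ruDot_ofL l₁ l₁ (ruGens_length l₁ h₁) (ruGens_length l₁ h₁)]
    exact Int.dvd_of_emod_eq_zero (ruGram8 l₁ h₁)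
  | zero =>
    rw [ruDot_zero_left]
    exact dvd_zero _
  | add x y hx hy ihx ihy =>
    have hx' : x ∈ ruMF := hx
    have hy' : y ∈ ruMF := hy
    have h4 : 4 ∣ ruDot x y := ruDot_dvd hx' hy'
    have e : ruDot (x + y) (x + y) = ruDot x x + ruDot y y + 2 * ruDot x y := by
      rw [ruDot_add_left, ruDot_comm x (x + y), ruDot_comm y (x + y), ruDot_add_left,
        ruDot_add_left, ruDot_comm y x]
      ring
    rw [e]
    obtain ⟨c, hc⟩ := h4
    obtain ⟨a, ha⟩ := ihx hx'
    obtain ⟨b, hb⟩ := ihy hy'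
    exact ⟨a + b + c, by rw [ha, hb, hc]; ring⟩
  | neg x hx ih =>
    have hx' : x ∈ ruMF := hx
    rw [ruDot_neg_left, ruDot_comm, ruDot_neg_left, neg_neg]
    exact ih hx'

/-- the lattice is even -/
theorem ruNorm_dvd {x : RuVec} (hx : x ∈ ruLattice) : (8 : ℤ) ∣ ruNorm x := by
  rw [ruNorm_eq_dot]
  exact ruDot_self_dvd (ruCf_mem_of_mem hx)

end Cfsg.Agent.Helper27
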