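import Cfsg.Agent.Helper27.RuPar

/-!
The rank-28 Hermitian lattice has no vectors of (stored) norm 8.
-/

set_option autoImplicit false
set_option maxRecDepth 100000

namespace Cfsg.Agent.Helper27

open Cfsg Cfsg.Spor Cfsg.Agent.Helper7

/-- the weight bound of a byte: the minimum of its weight and of the weight of its complement -/
def ruMu (d : ℕ) : ℕ := min (wtB 8 d) (8 - wtB 8 d)

theorem ruMu_le_card : ∀ d < 256, ∀ e : Bool,
    ruMu d ≤ (Finset.univ.filter fun k : Fin 8 => (d.testBit k.val ^^ e) = true).card := by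
  decide +kernel

theorem ruMuChk : allLt 4096 (fun a => a == 0 || decide (9 ≤ ruMu (encAux (ruDn 0) a) +
    ruMu (encAux (ruDn 1) a) + ruMu (encAux (ruDn 2) a) + ruMu (encAux (ruDn 3) a) +
    ruMu (encAux (ruDn 4) a) + ruMu (encAux (ruDn 5) a) + ruMu (encAux (ruDn 6) a))) = true := by
  decide +kernel

theorem sq_ge_of_ruOdd (z : ℤ) : (if ruOdd z = true then 1 else 0 : ℤ) ≤ z ^ 2 := by
  split
  · rename_i h
    unfold ruOdd at h
    rw [decide_eq_true_eq] at h
    have : z ≤ -1 ∨ 1 ≤ z := by omega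
    rcases this with h' | h' <;> nlinarith
  · positivity

theorem ruComp_ge (u : Fin 8 → ℤ) :
    ((Finset.univ.filter fun k => ruOdd (u k) = true).card : ℤ) ≤ ∑ k, (u k) ^ 2 := by
  rw [Finset.card_filter]
  push_cast
  exact Finset.sum_le_sum fun k _ => sq_ge_of_ruOdd (u k)

theorem ruPar_a_zero {f : RuF} (a ε : ℕ) (ha : a < 4096)
    (h : ∀ n : Fin 7, ∀ k : Fin 8,
      ruOdd (f n k) = ((encAux (ruDn n.val) a).testBit k.val ^^ ε.testBit n.val))
    (hN : ∑ n : Fin 7, ∑ k : Fin 8, (f n k) ^ 2 = 8) : a = 0 := by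
  by_contra ha0
  have hchk := allLt_spec ruMuChk a ha
  rw [Bool.or_eq_true, beq_iff_eq, decide_eq_true_eq] at hchk
  have hchk' := hchk.resolve_left ha0
  have key : ∀ n : Fin 7, (ruMu (encAux (ruDn n.val) a) : ℤ) ≤ ∑ k, (f n k) ^ 2 := by
    intro n
    have hlt : encAux (ruDn n.val) a < 256 := encAux_lt_two_pow 8 _ (ruDn_lt n.val n.isLt) a
    have h1 := ruMu_le_card _ hlt (ε.testBit n.val)
    have h2 : (Finset.univ.filter fun k : Fin 8 =>
        ((encAux (ruDn n.val) a).testBit k.val ^^ ε.testBit n.val) = true) =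
        Finset.univ.filter fun k : Fin 8 => ruOdd (f n k) = true := by
      apply Finset.filter_congr
      intro k _
      rw [h n k]
    rw [h2] at h1
    calc (ruMu (encAux (ruDn n.val) a) : ℤ)
        ≤ ((Finset.univ.filter fun k : Fin 8 => ruOdd (f n k) = true).card : ℤ) := by
          exact_mod_cast h1
      _ ≤ ∑ k, (f n k) ^ 2 := ruComp_ge (f n)
  rw [Fin.sum_univ_seven] at hN
  have k0 := key 0
  have k1 := key 1
  have k2 := key 2
  have k3 := key 3
  have k4 := key 4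
  have k5 := key 5
  have k6 := key 6
  have e0 : ((0 : Fin 7) : ℕ) = 0 := rfl
  have e1 : ((1 : Fin 7) : ℕ) = 1 := rfl
  have e2 : ((2 : Fin 7) : ℕ) = 2 := rfl
  have e3 : ((3 : Fin 7) : ℕ) = 3 := rfl
  have e4 : ((4 : Fin 7) : ℕ) = 4 := rfl
  have e5 : ((5 : Fin 7) : ℕ) = 5 := rfl
  have e6 : ((6 : Fin 7) : ℕ) = 6 := rfl
  rw [e0] at k0
  rw [e1] at k1
  rw [e2] at k2
  rw [e3] at k3
  rw [e4] at k4
  rw [e5] at k5
  rw [e6] at k6
  have : ((9 : ℕ) : ℤ) ≤ ((ruMu (encAux (ruDn 0) a) + ruMu (encAux (ruDn 1) a) +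
      ruMu (encAux (ruDn 2) a) + ruMu (encAux (ruDn 3) a) + ruMu (encAux (ruDn 4) a) +
      ruMu (encAux (ruDn 5) a) + ruMu (encAux (ruDn 6) a) : ℕ) : ℤ) := by exact_mod_cast hchk'
  push_cast at this
  linarith

/-- the sign of a Boolean -/
def ruSg (b : Bool) : ℤ := if b then 1 else -1

theorem ruCandChk : ∀ n < 7, ∀ b0 b1 b2 b3 b4 b5 b6 b7 : Bool,
    (ruGens.any fun l => decide ((ruSg b0 * l.getD (8 * n) 0 + ruSg b1 * l.getD (8 * n + 1) 0 +
      ruSg b2 * l.getD (8 * n + 2) 0 + ruSg b3 * l.getD (8 * n + 3) 0 +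
      ruSg b4 * l.getD (8 * n + 4) 0 + ruSg b5 * l.getD (8 * n + 5) 0 +
      ruSg b6 * l.getD (8 * n + 6) 0 + ruSg b7 * l.getD (8 * n + 7) 0) % 4 ≠ 0)) = true := by
  decide +kernel

theorem ruPairChk : ∀ i < 56, ∀ j < 56, i ≠ j →
    (ruGens.any fun l => decide ((l.getD i 0 + l.getD j 0) % 2 ≠ 0)) = true := by
  decide +kernel

/-- a function with sum of squares two has exactly two entries `±1` -/
theorem two_support {ι : Type*} [Fintype ι] [DecidableEq ι] (h : ι → ℤ)
    (hs : ∑ r, (h r) ^ 2 = 2) :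
    ∃ p q, p ≠ q ∧ (h p = 1 ∨ h p = -1) ∧ (h q = 1 ∨ h q = -1) ∧
      ∀ r, r ≠ p → r ≠ q → h r = 0 := by
  have hle : ∀ r, (h r) ^ 2 ≤ 2 := by
    intro r
    rw [← hs]
    exact Finset.single_le_sum (f := fun r => (h r) ^ 2) (fun r _ => sq_nonneg _)
      (Finset.mem_univ r)
  have hval : ∀ r, h r = 0 ∨ h r = 1 ∨ h r = -1 := by
    intro r
    have := hle r
    have h1 : -1 ≤ h r := by nlinarith
    have h2 : h r ≤ 1 := by nlinarith
    omega
  have hsq : ∀ r, (h r) ^ 2 = if h r ≠ 0 then 1 else 0 := by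
    intro r
    rcases hval r with h0 | h0 | h0 <;> simp [h0]
  have hcard : (Finset.univ.filter fun r => h r ≠ 0).card = 2 := by
    have : (∑ r, (h r) ^ 2) = ((Finset.univ.filter fun r => h r ≠ 0).card : ℤ) := by
      rw [Finset.card_filter]
      push_cast
      exact Finset.sum_congr rfl fun r _ => hsq r
    rw [hs] at this
    exact_mod_cast this.symm
  obtain ⟨p, q, hpq, hT⟩ := Finset.card_eq_two.mp hcard
  have hp : h p ≠ 0 := by
    have : p ∈ Finset.univ.filter fun r => h r ≠ 0 := by rw [hT]; simp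
    exact (Finset.mem_filter.mp this).2
  have hq : h q ≠ 0 := by
    have : q ∈ Finset.univ.filter fun r => h r ≠ 0 := by rw [hT]; simp
    exact (Finset.mem_filter.mp this).2
  refine ⟨p, q, hpq, (hval p).resolve_left hp, (hval q).resolve_left hq, fun r hrp hrq => ?_⟩
  by_contra hr
  have : r ∈ Finset.univ.filter fun r => h r ≠ 0 := Finset.mem_filter.mpr ⟨Finset.mem_univ r, hr⟩
  rw [hT] at this
  simp at this
  rcases this with rfl | rfl
  · exact hrp rfl
  · exact hrq rfl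

theorem ruDot_self_ne_eight {f : RuF} (hf : f ∈ ruMF) : ruDot f f ≠ 8 := by
  intro hN
  obtain ⟨a, ε, ha, _, h⟩ := ruPar_of_mem hf
  have hN' : ∑ n : Fin 7, ∑ k : Fin 8, (f n k) ^ 2 = 8 := by
    rw [← hN]
    simp [ruDot, sq]
  have ha0 : a = 0 := ruPar_a_zero a ε ha h hN'
  subst ha0
  have hodd : ∀ n : Fin 7, ∀ k : Fin 8, ruOdd (f n k) = ε.testBit n.val := by
    intro n k
    rw [h n k, encAux_zero_right]
    simp
  by_cases hE : ∃ n : Fin 7, ε.testBit n.val = true
  · -- one component is odd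
    obtain ⟨n₀, hn₀⟩ := hE
    have h1 : ∀ k, 1 ≤ (f n₀ k) ^ 2 := by
      intro k
      have := sq_ge_of_ruOdd (f n₀ k)
      rw [hodd, hn₀] at this
      simpa using this
    have h8 : (8 : ℤ) ≤ ∑ k, (f n₀ k) ^ 2 := by
      calc (8 : ℤ) = ∑ _k : Fin 8, (1 : ℤ) := by simp
        _ ≤ _ := Finset.sum_le_sum fun k _ => h1 k
    have hsplit : ∑ n : Fin 7, ∑ k : Fin 8, (f n k) ^ 2 =
        ∑ k, (f n₀ k) ^ 2 + ∑ n ∈ Finset.univ.erase n₀, ∑ k : Fin 8, (f n k) ^ 2 :=
      (Finset.add_sum_erase _ _ (Finset.mem_univ n₀)).symm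
    have hnn : ∀ n ∈ Finset.univ.erase n₀, 0 ≤ ∑ k : Fin 8, (f n k) ^ 2 :=
      fun n _ => Finset.sum_nonneg fun k _ => sq_nonneg _
    have hrest_nonneg := Finset.sum_nonneg hnn
    have hS8 : ∑ k, (f n₀ k) ^ 2 = 8 := by linarith
    have hrest0 : ∑ n ∈ Finset.univ.erase n₀, ∑ k : Fin 8, (f n k) ^ 2 = 0 := by linarith
    have hz : ∀ n, n ≠ n₀ → ∀ k, f n k = 0 := by
      intro n hn k
      have h2 := (Finset.sum_eq_zero_iff_of_nonneg hnn).mp hrest0 n
        (Finset.mem_erase.mpr ⟨hn, Finset.mem_univ n⟩)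
      have h3 := (Finset.sum_eq_zero_iff_of_nonneg fun k _ => sq_nonneg (f n k)).mp h2 k
        (Finset.mem_univ k)
      exact pow_eq_zero_iff (two_ne_zero) |>.mp h3
    have hpm : ∀ k, (f n₀ k) ^ 2 = 1 := by
      have hsum : ∑ k, ((f n₀ k) ^ 2 - 1) = 0 := by
        rw [Finset.sum_sub_distrib, hS8]
        simp
      intro k
      have := (Finset.sum_eq_zero_iff_of_nonneg fun k _ => by linarith [h1 k]).mp hsum k
        (Finset.mem_univ k)
      linarith
    have hsg : ∀ k, f n₀ k = ruSg (decide (f n₀ k = 1)) := by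
      intro k
      have h2 : (f n₀ k - 1) * (f n₀ k + 1) = 0 := by
        have := hpm k
        ring_nf
        ring_nf at this
        linarith
      rcases mul_eq_zero.mp h2 with h3 | h3
      · have : f n₀ k = 1 := by linarith
        simp [ruSg, this]
      · have : f n₀ k = -1 := by linarith
        simp [ruSg, this]
    obtain ⟨l, hl, hne⟩ := List.any_eq_true.mp (ruCandChk n₀.val n₀.isLt (decide (f n₀ 0 = 1))
      (decide (f n₀ 1 = 1)) (decide (f n₀ 2 = 1)) (decide (f n₀ 3 = 1)) (decide (f n₀ 4 = 1))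
      (decide (f n₀ 5 = 1)) (decide (f n₀ 6 = 1)) (decide (f n₀ 7 = 1)))
    rw [decide_eq_true_eq] at hne
    apply hne
    have hdvd := ruDot_gen_dvd hf l hl
    have hdot : ruDot f (ruOfL l) = ∑ k : Fin 8, f n₀ k * ruOfL l n₀ k := by
      unfold ruDot
      apply Finset.sum_eq_single n₀
      · intro n _ hn
        apply Finset.sum_eq_zero
        intro k _
        rw [hz n hn k, zero_mul]
      · intro hn
        exact absurd (Finset.mem_univ n₀) hn
    rw [hdot, Fin.sum_univ_eight] at hdvd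
    rw [← hsg 0, ← hsg 1, ← hsg 2, ← hsg 3, ← hsg 4, ← hsg 5, ← hsg 6, ← hsg 7]
    exact Int.emod_eq_zero_of_dvd hdvd
  · -- all coordinates are even
    simp only [not_exists] at hE
    have hev : ∀ n : Fin 7, ∀ k : Fin 8, f n k % 2 = 0 := by
      intro n k
      have h2 := hodd n k
      rw [Bool.eq_false_iff.mpr (hE n)] at h2
      unfold ruOdd at h2
      rw [decide_eq_false_iff_not] at h2
      omega
    let g : Fin 7 × Fin 8 → ℤ := fun r => f r.1 r.2 / 2
    have hg : ∀ r : Fin 7 × Fin 8, f r.1 r.2 = 2 * g r := by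
      intro r
      have := hev r.1 r.2
      show f r.1 r.2 = 2 * (f r.1 r.2 / 2)
      omega
    have hgs : ∑ r, (g r) ^ 2 = 2 := by
      have : ∑ r : Fin 7 × Fin 8, (f r.1 r.2) ^ 2 = 8 := by
        rw [Fintype.sum_prod_type]
        exact hN'
      have h4 : ∑ r : Fin 7 × Fin 8, (f r.1 r.2) ^ 2 = 4 * ∑ r, (g r) ^ 2 := by
        rw [Finset.mul_sum]
        apply Finset.sum_congr rfl
        intro r _
        rw [hg r]
        ring
      linarith
    obtain ⟨p, q, hpq, hp, hq, hrest⟩ := two_support g hgs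
    have hij : 8 * p.1.val + p.2.val ≠ 8 * q.1.val + q.2.val := by
      intro heq
      apply hpq
      have h1 := p.2.isLt
      have h2 := q.2.isLt
      exact Prod.ext (Fin.ext (by omega)) (Fin.ext (by omega))
    obtain ⟨l, hl, hne⟩ := List.any_eq_true.mp (ruPairChk (8 * p.1.val + p.2.val)
      (by have := p.1.isLt; have := p.2.isLt; omega) (8 * q.1.val + q.2.val)
      (by have := q.1.isLt; have := q.2.isLt; omega) hij)
    rw [decide_eq_true_eq] at hne
    apply hne
    have hdvd := ruDot_gen_dvd hf l hl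
    have hdot : ruDot f (ruOfL l) = f p.1 p.2 * ruOfL l p.1 p.2 + f q.1 q.2 * ruOfL l q.1 q.2 := by
      unfold ruDot
      rw [← Fintype.sum_prod_type (f := fun r : Fin 7 × Fin 8 => f r.1 r.2 * ruOfL l r.1 r.2)]
      apply Finset.sum_eq_add p q hpq
      · intro r _ hr
        rw [hg r, hrest r hr.1 hr.2]
        ring
      · intro hn
        exact absurd (Finset.mem_univ p) hn
      · intro hn
        exact absurd (Finset.mem_univ q) hn
    rw [hdot, hg p, hg q] at hdvd
    have e1 : ruOfL l p.1 p.2 = l.getD (8 * p.1.val + p.2.val) 0 := rfl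
    have e2 : ruOfL l q.1 q.2 = l.getD (8 * q.1.val + q.2.val) 0 := rfl
    rw [e1, e2] at hdvd
    rcases hp with hp | hp <;> rcases hq with hq | hq <;> rw [hp, hq] at hdvd <;> omega

end Cfsg.Agent.Helper27
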