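import Cfsg.Agent.Helper27.RuEven
import Cfsg.Agent.Helper7.Code

/-!
The parities of the coordinates of the vectors of the rank-28 Hermitian lattice: they form a binary
code of dimension 19, described by twelve rows and the seven component masks.
-/

set_option autoImplicit false
set_option maxRecDepth 100000

namespace Cfsg.Agent.Helper27

open Cfsg Cfsg.Spor Cfsg.Agent.Helper7

/-- parity of an integer -/
def ruOdd (z : ℤ) : Bool := decide (z % 2 = 1)

theorem ruOdd_add (p q : ℤ) : ruOdd (p + q) = (ruOdd p ^^ ruOdd q) := by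
  unfold ruOdd
  rcases Int.emod_two_eq_zero_or_one p with hp | hp <;>
    rcases Int.emod_two_eq_zero_or_one q with hq | hq <;>
    simp [Int.add_emod, hp, hq]

theorem ruOdd_neg (p : ℤ) : ruOdd (-p) = ruOdd p := by
  unfold ruOdd
  congr 1
  apply propext
  omega

theorem ruOdd_zero : ruOdd 0 = false := rfl

theorem encAux_zero_right (rs : List ℕ) : encAux rs 0 = 0 := by
  induction rs with
  | nil => rfl
  | cons r rs ih => simp [encAux, ih]

theorem encAux_lt_two_pow (N : ℕ) (rs : List ℕ) (hrs : ∀ r ∈ rs, r < 2 ^ N) (s : ℕ) :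
    encAux rs s < 2 ^ N := by
  induction rs generalizing s with
  | nil => simp [encAux]
  | cons r rs ih =>
    simp only [encAux]
    apply Nat.xor_lt_two_pow
    · rcases Nat.mod_two_eq_zero_or_one s with h | h
      · rw [h, Nat.zero_mul]; exact Nat.two_pow_pos N
      · rw [h, Nat.one_mul]
        exact hrs r List.mem_cons_self
    · exact ih (fun r' hr' => hrs r' (List.mem_cons_of_mem _ hr')) _

/-- the byte columns of the twelve rows -/
def ruDnL : List (List ℕ) := [[130, 129, 132, 160, 192, 0, 0, 144, 0, 0, 0, 0], [96, 136, 40, 72, 232, 240, 106, 160, 169, 0, 0, 0], [160, 192, 136, 40, 96, 0, 0, 72, 0, 169, 106, 204], [238, 24, 102, 68, 80, 106, 204, 66, 60, 0, 0, 0], [20, 198, 130, 150, 210, 86, 60, 68, 154, 60, 204, 154], [18, 58, 144, 24, 126, 204, 154, 90, 240, 154, 60, 240], [170, 210, 80, 10, 180, 0, 0, 36, 0, 240, 154, 166]]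

/-- the byte column of a component -/
def ruDn (n : ℕ) : List ℕ := ruDnL.getD n []

theorem ruDn_lt : ∀ n < 7, ∀ r ∈ ruDn n, r < 2 ^ 8 := by decide

/-- the parity pattern of a vector lies in the parity code -/
def RuPar (f : RuF) : Prop :=
  ∃ a ε : ℕ, a < 4096 ∧ ε < 128 ∧ ∀ n : Fin 7, ∀ k : Fin 8,
    ruOdd (f n k) = ((encAux (ruDn n.val) a).testBit k.val ^^ ε.testBit n.val)

/-- witnesses for the basis vectors -/
def ruWit : List (ℕ × ℕ) := [(1, 0), (2, 0), (4, 0), (8, 0), (16, 0), (32, 0), (64, 0), (128, 0), (159, 1), (256, 0), (512, 0), (1024, 0), (352, 2), (2048, 0), (3584, 4), (0, 32), (0, 16), (0, 64), (0, 8), (0, 0), (0, 0), (0, 0), (0, 0), (0, 0), (0, 0), (0, 0), (0, 0), (0, 0), (0, 0), (0, 0), (0, 0), (0, 0), (0, 0), (0, 0), (0, 0), (0, 0), (0, 0), (0, 0), (0, 0), (0, 0), (0, 0), (0, 0), (0, 0), (0, 0), (0, 0), (0, 0), (0, 0), (0, 0), (0, 0), (0, 0), (0, 0), (0, 0), (0, 0), (0, 0), (0, 0), (0, 0)]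

/-- the test of the witnesses -/
def ruParChk : Bool := (List.range 56).all fun i =>
  decide ((ruWit.getD i (0, 0)).1 < 4096) && decide ((ruWit.getD i (0, 0)).2 < 128) &&
  (List.range 7).all fun n => (List.range 8).all fun k =>
    ruOdd ((ruGens.getD i []).getD (8 * n + k) 0) ==
      ((encAux (ruDn n) (ruWit.getD i (0, 0)).1).testBit k ^^ (ruWit.getD i (0, 0)).2.testBit n)

theorem ruParChk_true : ruParChk = true := by decide +kernel

theorem bool_xor_swap (x x' e e' : Bool) : ((x ^^ e) ^^ (x' ^^ e')) = ((x ^^ x') ^^ (e ^^ e')) := by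
  cases x <;> cases x' <;> cases e <;> cases e' <;> rfl

theorem ruPar_of_mem {f : RuF} (hf : f ∈ ruMF) : RuPar f := by
  unfold ruMF at hf
  induction hf using AddSubgroup.closure_induction with
  | mem x hx =>
    obtain ⟨l, hl, rfl⟩ := hx
    obtain ⟨i, hi, rfl⟩ := List.getElem_of_mem hl
    have hlen : ruGens.length = 56 := rfl
    have h := List.all_eq_true.mp ruParChk_true i (List.mem_range.mpr (by omega))
    simp only [Bool.and_eq_true, decide_eq_true_eq] at h
    obtain ⟨⟨ha, he⟩, hb⟩ := h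
    refine ⟨_, _, ha, he, fun n k => ?_⟩
    have h1 := List.all_eq_true.mp hb n.val (List.mem_range.mpr n.isLt)
    have h2 := List.all_eq_true.mp h1 k.val (List.mem_range.mpr k.isLt)
    rw [beq_iff_eq, List.getD_eq_getElem _ _ hi] at h2
    exact h2
  | zero =>
    refine ⟨0, 0, by norm_num, by norm_num, fun n k => ?_⟩
    rw [encAux_zero_right]
    simp [ruOdd_zero]
  | add x y _ _ ihx ihy =>
    obtain ⟨a, e, ha, he, h⟩ := ihx
    obtain ⟨a', e', ha', he', h'⟩ := ihy
    refine ⟨a ^^^ a', e ^^^ e', Nat.xor_lt_two_pow (n := 12) ha ha',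
      Nat.xor_lt_two_pow (n := 7) he he', fun n k => ?_⟩
    rw [Pi.add_apply, Pi.add_apply, ruOdd_add, h n k, h' n k, encAux_xor, Nat.testBit_xor,
      Nat.testBit_xor, bool_xor_swap]
  | neg x _ ih =>
    obtain ⟨a, e, ha, he, h⟩ := ih
    refine ⟨a, e, ha, he, fun n k => ?_⟩
    rw [Pi.neg_apply, Pi.neg_apply, ruOdd_neg, h n k]

end Cfsg.Agent.Helper27
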