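import Cfsg.Agent.Helper27.TernMono
import Cfsg.Agent.Helper27.Mask

/-!
The permutation parts of the monomial automorphisms of the ternary code of length 12 are the
automorphisms of its hexad system; they form a sharply 5-transitive group.
-/

set_option autoImplicit false

namespace Cfsg.Agent.Helper27

open Cfsg
open scoped Pointwise

/-- the indexing of the array positions -/
def aI : PtIndex ArrayPt 12 := ⟨aIdx, aPt, aIdx_lt, aPt_aIdx, aIdx_aPt⟩

theorem aPt_inj {i j : ℕ} (hi : i < 12) (hj : j < 12) (h : aPt i = aPt j) : i = j := by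
  rw [← aIdx_aPt i hi, ← aIdx_aPt j hj, h]

/-! ### supports and monomial maps -/

theorem ternarySupport_monomialMap (σ : Equiv.Perm ArrayPt) (c : ArrayPt → (ZMod 3)ˣ)
    (x : ArrayPt → ZMod 3) : ternarySupport (monomialMap σ c x) = σ • ternarySupport x := by
  ext p
  rw [← Finset.inv_smul_mem_iff]
  simp only [ternarySupport, Finset.mem_filter, Finset.mem_univ, true_and, monomialMap,
    Equiv.Perm.smul_def, Equiv.Perm.inv_def]
  have hc : ((c p : (ZMod 3)ˣ) : ZMod 3) ≠ 0 := Units.ne_zero _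
  simp

theorem smul_mem_tgHexads_of_monoPres {σ : Equiv.Perm ArrayPt} {c : ArrayPt → (ZMod 3)ˣ}
    (h : MonoPres ternaryGolayCode σ c) {b : Finset ArrayPt} (hb : b ∈ tgHexads) :
    σ • b ∈ tgHexads := by
  obtain ⟨x, hx, rfl, h6⟩ := hb
  refine ⟨monomialMap σ c x, h x hx, ternarySupport_monomialMap σ c x, ?_⟩
  rw [Finset.card_smul_finset]
  exact h6

theorem monoPerm_le_aut : monoPerm ternaryGolayCode ≤ setSystemAut tgHexads := by
  intro σ hσ
  rw [MulAction.mem_stabilizer_iff]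
  apply Set.Subset.antisymm
  · rintro _ ⟨b, hb, rfl⟩
    obtain ⟨c, hc⟩ := hσ
    exact smul_mem_tgHexads_of_monoPres hc hb
  · intro b hb
    obtain ⟨c, hc⟩ := (monoPerm ternaryGolayCode).inv_mem hσ
    refine ⟨σ⁻¹ • b, smul_mem_tgHexads_of_monoPres hc hb, ?_⟩
    simp

/-! ### the transversal chain -/

theorem level_trans : ∀ k < 5, ∀ z < 12, k ≤ z → ∃ τ ∈ monoPerm ternaryGolayCode,
    (∀ i < k, τ (aPt i) = aPt i) ∧ τ (aPt k) = aPt z := by
  intro k hk z hz hkz
  obtain ⟨e, he, rfl, rfl⟩ := ternLevels_complete k hk z hz hkz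
  have h := ternLevels_ok
  rw [List.all_eq_true] at h
  have h1 := h e he
  simp only [Bool.and_eq_true, List.all_eq_true, List.mem_range, beq_iff_eq] at h1
  obtain ⟨⟨h1, h2⟩, h3⟩ := h1
  obtain ⟨hinv, hmono⟩ := monoOK_sound h1
  refine ⟨tabPerm12 e.2.2.1 e.2.2.2.1, ⟨_, hmono⟩, ?_, ?_⟩
  · intro i hi
    rw [tabPerm12_aPt hinv i (by omega), h2 i hi]
  · rw [tabPerm12_aPt hinv _ (by omega), h3]

/-- every injective 5-tuple of positions is the image of the base tuple under a permutation part -/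
theorem exists_perm_of_emb (e : ℕ → ArrayPt) (he : ∀ i < 5, ∀ j < 5, e i = e j → i = j) :
    ∀ k ≤ 5, ∃ σ ∈ monoPerm ternaryGolayCode, ∀ i < k, σ (aPt i) = e i := by
  intro k
  induction k with
  | zero =>
    intro _
    exact ⟨1, (monoPerm ternaryGolayCode).one_mem, fun i hi => absurd hi (Nat.not_lt_zero i)⟩
  | succ k ih =>
    intro hk
    obtain ⟨σ, hσ, hfix⟩ := ih (by omega)
    obtain ⟨z, hzdef⟩ : ∃ z, z = aIdx (σ⁻¹ (e k)) := ⟨_, rfl⟩
    have hz : z < 12 := hzdef ▸ aIdx_lt _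
    have hpt : σ (aPt z) = e k := by
      rw [hzdef, aPt_aIdx]
      simp
    have hkz : k ≤ z := by
      by_contra hlt
      rw [not_le] at hlt
      have h1 := hfix _ hlt
      rw [hpt] at h1
      have := he k (by omega) _ (by omega) h1
      omega
    obtain ⟨τ, hτ, hτfix, hτk⟩ := level_trans k (by omega) z hz hkz
    refine ⟨σ * τ, (monoPerm ternaryGolayCode).mul_mem hσ hτ, ?_⟩
    intro i hi
    rw [Equiv.Perm.mul_apply]
    rcases Nat.lt_succ_iff_lt_or_eq.mp hi with h | rfl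
    · rw [hτfix i h, hfix i h]
    · rw [hτk, hpt]

/-! ### sharpness -/

theorem hexad_eq_of_five {h h' : Finset ArrayPt} (hh : h ∈ tgHexads) (hh' : h' ∈ tgHexads)
    (h5 : 5 ≤ (h ∩ h').card) : h = h' := by
  obtain ⟨x, hx, rfl, hx6⟩ := hh
  obtain ⟨y, hy, rfl, hy6⟩ := hh'
  rcases eq_or_eq_neg_of_inter hx hy hx6 hy6 h5 with e | e
  · rw [e]
  · rw [e, ternarySupport_neg]

theorem smul_mem_tgHexads {g : Equiv.Perm ArrayPt} (hg : g ∈ setSystemAut tgHexads)
    {h : Finset ArrayPt} (hh : h ∈ tgHexads) : g • h ∈ tgHexads := by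
  have := MulAction.mem_stabilizer_iff.mp hg
  rw [← this]
  exact Set.smul_mem_smul_set hh

theorem aut_step {g : Equiv.Perm ArrayPt} (hg : g ∈ setSystemAut tgHexads) {h₁ h₂ : Finset ArrayPt}
    (h1 : h₁ ∈ tgHexads) (h2 : h₂ ∈ tgHexads) (T : Finset ArrayPt) (hT : 5 ≤ T.card) (hT1 : T ⊆ h₁)
    (hT2 : ∀ p ∈ T, g p ∈ h₂) : ∀ p ∈ h₁, g p ∈ h₂ := by
  have he : g • h₁ = h₂ := by
    apply hexad_eq_of_five (smul_mem_tgHexads hg h1) h2
    calc 5 ≤ T.card := hT
      _ = (g • T).card := (Finset.card_smul_finset g T).symm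
      _ ≤ _ := Finset.card_le_card ?_
    intro q hq
    obtain ⟨p, hp, rfl⟩ := Finset.mem_smul_finset.mp hq
    rw [Finset.mem_inter]
    exact ⟨Finset.smul_mem_smul_finset (hT1 hp), hT2 p hp⟩
  intro p hp
  rw [← he, ← Equiv.Perm.smul_def]
  exact Finset.smul_mem_smul_finset hp

/-- the basic deduction step: an automorphism fixing four points of two hexads and mapping a fifth
point of the first to a fifth point of the second maps the sixth point to the sixth point -/
theorem pair_step_abs {g : Equiv.Perm ArrayPt} (hg : g ∈ setSystemAut tgHexads) (F : Finset ArrayPt)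
    (hF : ∀ p ∈ F, g p = p) (hF4 : F.card = 4) (y z u v : ArrayPt) (hy : y ∉ F) (hu : u ∉ F)
    (huy : u ≠ y) (h1 : insert y (insert u F) ∈ tgHexads) (h2 : insert z (insert v F) ∈ tgHexads)
    (hyz : g y = z) : g u = v := by
  have hT : (insert y F).card = 5 := by rw [Finset.card_insert_of_notMem hy, hF4]
  have key := aut_step hg h1 h2 (insert y F) (by omega) ?_ ?_ u (by simp)
  · rw [Finset.mem_insert, Finset.mem_insert] at key
    rcases key with e | e | e
    · exfalso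
      apply huy
      apply g.injective
      rw [e, hyz]
    · exact e
    · exfalso
      apply hu
      have h3 := hF _ e
      have h4 := g.injective h3
      rwa [h4] at e
  · intro p hp
    rw [Finset.mem_insert] at hp ⊢
    rcases hp with rfl | hp
    · left; rfl
    · right; exact Finset.mem_insert_of_mem hp
  · intro p hp
    rw [Finset.mem_insert] at hp
    rcases hp with rfl | hp
    · rw [hyz]
      exact Finset.mem_insert_self _ _
    · rw [hF p hp]
      exact Finset.mem_insert_of_mem (Finset.mem_insert_of_mem hp)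

theorem insert_aPt_setOf (i m : ℕ) (hi : i < 12) :
    insert (aPt i) (aI.setOf m) = aI.setOf (m ||| 2 ^ i) := by
  ext p
  rw [Finset.mem_insert, aI.mem_setOf, aI.mem_setOf, Nat.testBit_or, Nat.testBit_two_pow,
    Bool.or_eq_true, decide_eq_true_eq]
  have : p = aPt i ↔ i = aI.idx p := by
    constructor
    · rintro rfl
      exact (aIdx_aPt i hi).symm
    · intro h
      rw [h]
      exact (aPt_aIdx p).symm
  rw [this]
  tauto

/-- the mask of the support of a vector -/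
def suppMask (x : ArrayPt → ZMod 3) : ℕ := Nat.ofBits fun i : Fin 12 => decide (x (aPt i) ≠ 0)

theorem setOf_suppMask (x : ArrayPt → ZMod 3) : aI.setOf (suppMask x) = ternarySupport x := by
  ext p
  have h : aI.idx p < 12 := aIdx_lt p
  rw [aI.mem_setOf, suppMask, Nat.testBit_ofBits_lt _ _ h]
  have : aPt (aI.idx p) = p := aPt_aIdx p
  simp [ternarySupport, this]

/-- some hexads (as masks) with the words they support -/
def hexWit : List (ℕ × T6) :=
  [(63, (1, 1, 1, 2, 2, 0)),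
  (237, (1, 0, 2, 1, 0, 1)),
  (243, (1, 2, 0, 0, 1, 2)),
  (373, (1, 0, 2, 0, 2, 2)),
  (427, (1, 2, 0, 2, 0, 0)),
  (591, (1, 2, 2, 2, 0, 2)),
  (633, (1, 0, 0, 2, 1, 1)),
  (791, (1, 2, 1, 0, 1, 0)),
  (813, (1, 0, 1, 1, 0, 0)),
  (1175, (1, 2, 2, 0, 2, 0)),
  (1209, (1, 0, 0, 1, 2, 0)),
  (1295, (1, 1, 2, 1, 0, 0)),
  (1331, (1, 1, 0, 0, 1, 0)),
  (1579, (1, 2, 0, 1, 0, 0)),
  (1589, (1, 0, 2, 0, 1, 0)),
  (2135, (1, 1, 2, 0, 1, 1)),
  (2155, (1, 1, 0, 1, 0, 2)),
  (2191, (1, 2, 1, 1, 0, 0)),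
  (2229, (1, 0, 1, 0, 1, 0)),
  (2361, (1, 0, 0, 1, 1, 0)),
  (2611, (1, 2, 0, 0, 2, 0)),
  (3117, (1, 0, 2, 2, 0, 0))]

/-- membership test for the table of hexads -/
def hexB (m : ℕ) : Bool := hexWit.any fun e => e.1 == m

theorem hexWit_ok : hexWit.all (fun e => (suppMask (tgEnc e.2) == e.1) && (popcnt 12 e.1 == 6)) = true := by
  decide +kernel

theorem hexB_sound {m : ℕ} (h : hexB m = true) : aI.setOf m ∈ tgHexads := by
  unfold hexB at h
  rw [List.any_eq_true] at h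
  obtain ⟨e, he, hem⟩ := h
  rw [beq_iff_eq] at hem
  have h1 := hexWit_ok
  rw [List.all_eq_true] at h1
  have h2 := h1 e he
  rw [Bool.and_eq_true, beq_iff_eq, beq_iff_eq, hem] at h2
  refine ⟨tgEnc e.2, tgEnc_mem _, ?_, ?_⟩
  · rw [← setOf_suppMask, h2.1]
  · rw [aI.card_setOf, h2.2]

theorem lt_of_testBit {S k i : ℕ} (hS : S < 2 ^ k) (h : S.testBit i = true) : i < k := by
  by_contra hlt
  rw [not_lt] at hlt
  have : S < 2 ^ i := lt_of_lt_of_le hS (Nat.pow_le_pow_right (by norm_num) hlt)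
  rw [Nat.testBit_lt_two_pow this] at h
  exact Bool.false_ne_true h

/-- kernel-checkable side conditions of the deduction step, on masks -/
def pairOK (S y z u v : ℕ) : Bool :=
  decide (popcnt 12 S = 4) && decide (y < 12) && decide (z < 12) && decide (u < 12) && decide (v < 12)
    && !S.testBit y && !S.testBit u && decide (u ≠ y) && hexB (S ||| 2 ^ u ||| 2 ^ y)
    && hexB (S ||| 2 ^ v ||| 2 ^ z)

theorem pair_step {g : Equiv.Perm ArrayPt} (hg : g ∈ setSystemAut tgHexads) {S y z u v : ℕ}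
    (hfix : ∀ i < 12, S.testBit i = true → g (aPt i) = aPt i)
    (hok : pairOK S y z u v = true) (hyz : g (aPt y) = aPt z) : g (aPt u) = aPt v := by
  unfold pairOK at hok
  simp only [Bool.and_eq_true, decide_eq_true_eq, Bool.not_eq_true'] at hok
  obtain ⟨⟨⟨⟨⟨⟨⟨⟨⟨hS4, hy⟩, hz⟩, hu⟩, hv⟩, hyS⟩, huS⟩, huy⟩, h1⟩, h2⟩ := hok
  apply pair_step_abs hg (aI.setOf S) ?_ ?_ (aPt y) (aPt z) (aPt u) (aPt v) ?_ ?_ ?_ ?_ ?_ hyz
  · intro p hp
    rw [aI.mem_setOf] at hp
    have := hfix (aIdx p) (aIdx_lt p) hp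
    rwa [aPt_aIdx] at this
  · rw [aI.card_setOf]
    exact hS4
  · rw [aI.mem_setOf]
    show ¬ S.testBit (aIdx (aPt y)) = true
    rw [aIdx_aPt y hy, hyS]
    exact Bool.false_ne_true
  · rw [aI.mem_setOf]
    show ¬ S.testBit (aIdx (aPt u)) = true
    rw [aIdx_aPt u hu, huS]
    exact Bool.false_ne_true
  · intro e
    exact huy (aPt_inj hu hy e)
  · rw [insert_aPt_setOf _ _ hu, insert_aPt_setOf _ _ hy]
    exact hexB_sound h1
  · rw [insert_aPt_setOf _ _ hv, insert_aPt_setOf _ _ hz]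
    exact hexB_sound h2

/-- entries `(y, z, u, S₁, v₁, S₂, v₂)`: if an automorphism fixing the positions `0, …, 5` mapped
`y` to `z`, it would map `u` both to `v₁` and to `v₂` -/
def sharpCert : List (ℕ × ℕ × ℕ × ℕ × ℕ × ℕ × ℕ) :=
  [(6, 7, 9, 15, 11, 57, 10),
  (6, 8, 9, 15, 10, 57, 11),
  (6, 9, 11, 23, 8, 43, 10),
  (6, 10, 9, 15, 8, 57, 7),
  (6, 11, 9, 15, 7, 57, 8),
  (7, 6, 11, 15, 9, 53, 8),
  (7, 8, 11, 15, 10, 53, 6),
  (7, 9, 11, 15, 6, 53, 10),
  (7, 10, 11, 15, 8, 53, 9),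
  (7, 11, 10, 23, 6, 57, 8),
  (8, 6, 10, 15, 9, 51, 7),
  (8, 7, 10, 15, 11, 51, 6),
  (8, 9, 10, 15, 6, 51, 11),
  (8, 10, 9, 23, 7, 45, 11),
  (8, 11, 10, 15, 7, 51, 9),
  (9, 6, 8, 23, 11, 45, 7),
  (9, 7, 6, 15, 11, 57, 10),
  (9, 8, 6, 15, 10, 57, 11),
  (9, 10, 6, 15, 8, 57, 7),
  (9, 11, 6, 15, 7, 57, 8),
  (10, 6, 8, 15, 9, 51, 7),
  (10, 7, 8, 15, 11, 51, 6),
  (10, 8, 7, 23, 9, 57, 11),
  (10, 9, 8, 15, 6, 51, 11),
  (10, 11, 8, 15, 7, 51, 9),
  (11, 6, 7, 15, 9, 53, 8),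
  (11, 7, 6, 23, 10, 43, 8),
  (11, 8, 7, 15, 10, 53, 6),
  (11, 9, 7, 15, 6, 53, 10),
  (11, 10, 7, 15, 8, 53, 9)]
theorem sharpCert_ok : sharpCert.all (fun e =>
    pairOK e.2.2.2.1 e.1 e.2.1 e.2.2.1 e.2.2.2.2.1 && pairOK e.2.2.2.2.2.1 e.1 e.2.1 e.2.2.1 e.2.2.2.2.2.2
      && decide (e.2.2.2.1 < 64) && decide (e.2.2.2.2.2.1 < 64)
      && decide (e.2.2.2.2.1 ≠ e.2.2.2.2.2.2)) = true := by
  decide +kernel

theorem sharpCert_complete_aux : ∀ y z : Fin 12, 6 ≤ y.val → 6 ≤ z.val → y ≠ z →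
    sharpCert.any (fun e => e.1 == y.val && e.2.1 == z.val) = true := by decide +kernel

theorem sharpCert_complete : ∀ y < 12, ∀ z < 12, 6 ≤ y → 6 ≤ z → y ≠ z →
    ∃ e ∈ sharpCert, e.1 = y ∧ e.2.1 = z := by
  intro y hy z hz hy6 hz6 hne
  have h := sharpCert_complete_aux ⟨y, hy⟩ ⟨z, hz⟩ hy6 hz6 (by
    intro e
    exact hne (congrArg Fin.val e))
  rw [List.any_eq_true] at h
  obtain ⟨e, he, h2⟩ := h
  simp only [Bool.and_eq_true, beq_iff_eq] at h2
  exact ⟨e, he, h2.1, h2.2⟩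

theorem pairOK_base : pairOK 15 4 4 5 5 = true := by decide +kernel

/-- an automorphism of the hexad system fixing five base positions is trivial -/
theorem aut_sharp {g : Equiv.Perm ArrayPt} (hg : g ∈ setSystemAut tgHexads)
    (hfix : ∀ i < 5, g (aPt i) = aPt i) : g = 1 := by
  have h5 : g (aPt 5) = aPt 5 := by
    apply pair_step hg ?_ pairOK_base (hfix 4 (by norm_num))
    intro i _ hi
    have : i < 4 := lt_of_testBit (S := 15) (k := 4) (by norm_num) hi
    exact hfix i (by omega)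
  have hfix6 : ∀ i < 6, g (aPt i) = aPt i := by
    intro i hi
    rcases Nat.lt_succ_iff_lt_or_eq.mp hi with h | rfl
    · exact hfix i h
    · exact h5
  have hall : ∀ y < 12, g (aPt y) = aPt y := by
    intro y hy
    by_cases hy6 : y < 6
    · exact hfix6 y hy6
    rw [not_lt] at hy6
    obtain ⟨z, hzdef⟩ : ∃ z, z = aIdx (g (aPt y)) := ⟨_, rfl⟩
    have hz : z < 12 := hzdef ▸ aIdx_lt _
    have hyz : g (aPt y) = aPt z := by rw [hzdef, aPt_aIdx]
    have hz6 : 6 ≤ z := by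
      by_contra hlt
      rw [not_le] at hlt
      have h1 : g (aPt z) = g (aPt y) := by rw [hfix6 z hlt, hyz]
      have := aPt_inj hz hy (g.injective h1)
      omega
    by_cases hne : y = z
    · rw [hyz, ← hne]
    exfalso
    obtain ⟨e, he, rfl, rfl⟩ := sharpCert_complete y hy z hz hy6 hz6 hne
    have hc := sharpCert_ok
    rw [List.all_eq_true] at hc
    have hce := hc e he
    simp only [Bool.and_eq_true, decide_eq_true_eq] at hce
    obtain ⟨⟨⟨⟨hp1, hp2⟩, hS1⟩, hS2⟩, hv⟩ := hce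
    have e1 := pair_step hg (fun i _ hi => hfix6 i (lt_of_testBit (k := 6) hS1 hi)) hp1 hyz
    have e2 := pair_step hg (fun i _ hi => hfix6 i (lt_of_testBit (k := 6) hS2 hi)) hp2 hyz
    unfold pairOK at hp1 hp2
    simp only [Bool.and_eq_true, decide_eq_true_eq] at hp1 hp2
    rw [e1] at e2
    exact hv (aPt_inj (by tauto) (by tauto) e2)
  ext1 p
  rw [← aPt_aIdx p, hall _ (aIdx_lt p)]
  rfl

/-! ### the two groups coincide and have order 95040 -/

theorem aut_le_monoPerm : setSystemAut tgHexads ≤ monoPerm ternaryGolayCode := by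
  intro g hg
  obtain ⟨σ, hσ, hσg⟩ := exists_perm_of_emb (fun i => g (aPt i))
    (fun i hi j hj h => aPt_inj (by omega) (by omega) (g.injective h)) 5 le_rfl
  have h1 : σ⁻¹ * g = 1 := by
    apply aut_sharp ((setSystemAut tgHexads).mul_mem
      ((setSystemAut tgHexads).inv_mem (monoPerm_le_aut hσ)) hg)
    intro i hi
    rw [Equiv.Perm.mul_apply, ← hσg i hi]
    simp
  have : g = σ := by
    rw [inv_mul_eq_one] at h1
    exact h1.symm
  rw [this]
  exact hσ

theorem monoPerm_eq_aut : monoPerm ternaryGolayCode = setSystemAut tgHexads :=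
  le_antisymm monoPerm_le_aut aut_le_monoPerm

theorem card_monoPerm_tern : Nat.card (monoPerm ternaryGolayCode) = 95040 := by
  classical
  let Φ : monoPerm ternaryGolayCode → (Fin 5 ↪ ArrayPt) := fun σ =>
    ⟨fun i => σ.1 (aPt i.val), fun i j h =>
      Fin.ext (aPt_inj (by omega) (by omega) (σ.1.injective h))⟩
  have hinj : Function.Injective Φ := by
    intro σ σ' h
    apply Subtype.ext
    have h1 : σ'.1⁻¹ * σ.1 = 1 := by
      apply aut_sharp ((setSystemAut tgHexads).mul_mem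
        ((setSystemAut tgHexads).inv_mem (monoPerm_le_aut σ'.2)) (monoPerm_le_aut σ.2))
      intro i hi
      have h2 : σ.1 (aPt i) = σ'.1 (aPt i) := congrFun (congrArg DFunLike.coe h) ⟨i, hi⟩
      rw [Equiv.Perm.mul_apply, h2]
      simp
    rw [inv_mul_eq_one] at h1
    exact h1.symm
  have hsurj : Function.Surjective Φ := by
    intro e
    obtain ⟨σ, hσ, hσe⟩ := exists_perm_of_emb (fun i => if h : i < 5 then e ⟨i, h⟩ else aPt 0)
      (by
        intro i hi j hj h
        rw [dif_pos hi, dif_pos hj] at h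
        exact congrArg Fin.val (e.injective h)) 5 le_rfl
    refine ⟨⟨σ, hσ⟩, ?_⟩
    refine DFunLike.ext _ _ fun i => ?_
    have := hσe i.val i.isLt
    rw [dif_pos i.isLt] at this
    exact this
  rw [Nat.card_congr (Equiv.ofBijective Φ ⟨hinj, hsurj⟩), Nat.card_eq_fintype_card,
    Fintype.card_embedding_eq]
  have : Fintype.card ArrayPt = 12 := by
    simp [ArrayPt, ZMod.card]
  rw [this, Fintype.card_fin]
  decide

theorem card_ternMono : Nat.card {f : Equiv.Perm ArrayPt × (ArrayPt → (ZMod 3)ˣ) //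
    MonoPres ternaryGolayCode f.1 f.2} = 190080 := by
  rw [card_monoPres tern_diag, card_monoPerm_tern]
  have : Nat.card (ZMod 3)ˣ = 2 := by
    rw [Nat.card_eq_fintype_card]
    decide
  rw [this]

end Cfsg.Agent.Helper27
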