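import Cfsg.Agent.Helper27.Ternary
import Cfsg.Agent.Helper27.Steiner

/-!
Weights in `Cfsg.ternaryGolayCode` and the Steiner system S(5, 6, 12) of the supports of its
weight-6 words.
-/

set_option autoImplicit false

namespace Cfsg.Agent.Helper27

open Cfsg

/-- the weights of the words -/
theorem tg_weights : ∀ t : T6, tgEnc t ≠ 0 → (ternarySupport (tgEnc t)).card = 6 ∨
    (ternarySupport (tgEnc t)).card = 9 ∨ (ternarySupport (tgEnc t)).card = 12 := by
  decide +kernel

theorem tg_count6 : (Finset.univ.filter fun t : T6 => (ternarySupport (tgEnc t)).card = 6).card = 264 := by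
  decide +kernel

theorem six_le_weight {x : ArrayPt → ZMod 3} (hx : x ∈ ternaryGolayCode) (h0 : x ≠ 0) :
    6 ≤ (ternarySupport x).card := by
  have := forall_ternary (fun x => x ≠ 0 → (ternarySupport x).card = 6 ∨
    (ternarySupport x).card = 9 ∨ (ternarySupport x).card = 12) tg_weights x hx h0
  omega

theorem ternarySupport_card (x : ArrayPt → ZMod 3) :
    (ternarySupport x).card = ∑ p, if x p ≠ 0 then 1 else 0 := by
  rw [ternarySupport, Finset.card_filter]

theorem ternarySupport_eq_empty {x : ArrayPt → ZMod 3} (h : (ternarySupport x).card = 0) : x = 0 := by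
  rw [Finset.card_eq_zero] at h
  funext p
  rw [Pi.zero_apply]
  by_contra hp
  have : p ∈ ternarySupport x := by
    rw [ternarySupport, Finset.mem_filter]
    exact ⟨Finset.mem_univ _, hp⟩
  rw [h] at this
  exact absurd this (Finset.notMem_empty _)

theorem weight_pointwise (a b : ZMod 3) :
    ((if a - b ≠ 0 then 1 else 0) + (if a + b ≠ 0 then 1 else 0) + 3 * (if (a ≠ 0 ∧ b ≠ 0) then 1 else 0) : ℕ) ≤
      2 * ((if a ≠ 0 then 1 else 0) + (if b ≠ 0 then 1 else 0)) := by
  revert a b; decide

/-- the basic weight inequality -/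
theorem weight_sub_add_le (x y : ArrayPt → ZMod 3) :
    (ternarySupport (x - y)).card + (ternarySupport (x + y)).card +
      3 * (ternarySupport x ∩ ternarySupport y).card ≤
      2 * ((ternarySupport x).card + (ternarySupport y).card) := by
  have hinter : (ternarySupport x ∩ ternarySupport y).card = ∑ p, if (x p ≠ 0 ∧ y p ≠ 0) then 1 else 0 := by
    rw [← Finset.card_filter]
    congr 1
    ext p
    simp [ternarySupport]
  rw [ternarySupport_card, ternarySupport_card, ternarySupport_card, ternarySupport_card, hinter,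
    Finset.mul_sum, ← Finset.sum_add_distrib, ← Finset.sum_add_distrib, ← Finset.sum_add_distrib,
    Finset.mul_sum]
  apply Finset.sum_le_sum
  intro p _
  simp only [Pi.sub_apply, Pi.add_apply]
  convert weight_pointwise (x p) (y p) using 2

/-- two words of weight 6 of the code with supports meeting in at least 5 points are equal or opposite -/
theorem eq_or_eq_neg_of_inter {x y : ArrayPt → ZMod 3} (hx : x ∈ ternaryGolayCode) (hy : y ∈ ternaryGolayCode)
    (hx6 : (ternarySupport x).card = 6) (hy6 : (ternarySupport y).card = 6)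
    (h5 : 5 ≤ (ternarySupport x ∩ ternarySupport y).card) : y = x ∨ y = -x := by
  have h := weight_sub_add_le x y
  by_cases h1 : x - y = 0
  · left; exact (sub_eq_zero.mp h1).symm
  by_cases h2 : x + y = 0
  · right; exact eq_neg_of_add_eq_zero_right h2
  have := six_le_weight (ternaryGolayCode.sub_mem hx hy) h1
  have := six_le_weight (ternaryGolayCode.add_mem hx hy) h2
  omega

theorem ternarySupport_neg (x : ArrayPt → ZMod 3) : ternarySupport (-x) = ternarySupport x := by
  ext p
  simp [ternarySupport]

/-- the hexads: supports of the weight-6 words -/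
def tgHexads : Set (Finset ArrayPt) :=
  {h : Finset ArrayPt | ∃ x ∈ ternaryGolayCode, ternarySupport x = h ∧ h.card = 6}

/-- the weight-6 words -/
noncomputable def tgW6 : Finset (ArrayPt → ZMod 3) :=
  (Finset.univ.filter fun t : T6 => (ternarySupport (tgEnc t)).card = 6).image tgEnc

theorem mem_tgW6 (x : ArrayPt → ZMod 3) : x ∈ tgW6 ↔ x ∈ ternaryGolayCode ∧ (ternarySupport x).card = 6 := by
  simp only [tgW6, Finset.mem_image, Finset.mem_filter, Finset.mem_univ, true_and]
  constructor
  · rintro ⟨t, ht, rfl⟩
    exact ⟨tgEnc_mem t, ht⟩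
  · rintro ⟨hx, h6⟩
    exact ⟨tgInfo x, by rwa [tgEnc_tgInfo hx], tgEnc_tgInfo hx⟩

theorem card_tgW6 : tgW6.card = 264 := by
  rw [tgW6, Finset.card_image_of_injective _ tgEnc_injective, tg_count6]

/-- the finite set of hexads -/
noncomputable def tgHexFinset : Finset (Finset ArrayPt) := tgW6.image ternarySupport

theorem coe_tgHexFinset : (tgHexFinset : Set (Finset ArrayPt)) = tgHexads := by
  ext h
  simp only [tgHexFinset, Finset.coe_image, Set.mem_image, Finset.mem_coe, mem_tgW6, tgHexads,
    Set.mem_ofPred_eq]
  constructor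
  · rintro ⟨x, ⟨hx, h6⟩, rfl⟩
    exact ⟨x, hx, rfl, h6⟩
  · rintro ⟨x, hx, rfl, h6⟩
    exact ⟨x, ⟨hx, h6⟩, rfl⟩

theorem card_tgHexFinset : tgHexFinset.card = 132 := by
  classical
  have h1 : tgW6.card = ∑ h ∈ tgHexFinset, (tgW6.filter fun x => ternarySupport x = h).card :=
    Finset.card_eq_sum_card_image ternarySupport tgW6
  have h2 : ∀ h ∈ tgHexFinset, (tgW6.filter fun x => ternarySupport x = h).card = 2 := by
    intro h hh
    rw [tgHexFinset, Finset.mem_image] at hh
    obtain ⟨x, hx, rfl⟩ := hh
    have hx' := (mem_tgW6 x).mp hx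
    have hne : x ≠ -x := by
      intro he
      have hx0 : x = 0 := by
        funext p
        have := congrFun he p
        simp only [Pi.neg_apply] at this
        rw [Pi.zero_apply]
        have key : ∀ a : ZMod 3, a = -a → a = 0 := by decide
        exact key _ this
      rw [hx0] at hx'
      simp [ternarySupport] at hx'
    have : (tgW6.filter fun y => ternarySupport y = ternarySupport x) = {x, -x} := by
      ext y
      simp only [Finset.mem_filter, Finset.mem_insert, Finset.mem_singleton, mem_tgW6]
      constructor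
      · rintro ⟨⟨hy, hy6⟩, hs⟩
        apply eq_or_eq_neg_of_inter hx'.1 hy hx'.2 hy6
        rw [hs, Finset.inter_self, hx'.2]
        norm_num
      · rintro (rfl | rfl)
        · exact ⟨hx', rfl⟩
        · exact ⟨⟨ternaryGolayCode.neg_mem hx'.1, by rw [ternarySupport_neg]; exact hx'.2⟩,
            ternarySupport_neg x⟩
    rw [this, Finset.card_pair hne]
  rw [Finset.sum_congr rfl h2, Finset.sum_const, smul_eq_mul, card_tgW6] at h1
  omega

theorem tgHexads_ncard : tgHexads.ncard = 132 := by
  rw [← coe_tgHexFinset, Set.ncard_coe_finset, card_tgHexFinset]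

theorem tgHexads_steiner : IsSteinerSystem 5 6 tgHexads := by
  rw [← coe_tgHexFinset]
  apply steiner_of_card
  · intro b hb
    have : b ∈ (tgHexFinset : Set (Finset ArrayPt)) := hb
    rw [coe_tgHexFinset] at this
    obtain ⟨x, _, _, h6⟩ := this
    exact h6
  · intro b hb b' hb' hne
    have h1 : b ∈ (tgHexFinset : Set (Finset ArrayPt)) := hb
    have h2 : b' ∈ (tgHexFinset : Set (Finset ArrayPt)) := hb'
    rw [coe_tgHexFinset] at h1 h2
    obtain ⟨x, hx, rfl, hx6⟩ := h1
    obtain ⟨y, hy, rfl, hy6⟩ := h2
    by_contra hlt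
    rw [not_lt] at hlt
    rcases eq_or_eq_neg_of_inter hx hy hx6 hy6 hlt with h | h
    · exact hne (by rw [h])
    · exact hne (by rw [h, ternarySupport_neg])
  · rw [card_tgHexFinset]
    have : Fintype.card ArrayPt = 12 := by
      simp [ArrayPt, ZMod.card]
    rw [this]
    decide

end Cfsg.Agent.Helper27
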