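import Cfsg.Agent.Helper27.Mono
import Cfsg.Agent.Helper27.TernaryHexads
import Cfsg.Agent.Helper27.Golay

/-!
Monomial automorphisms of the ternary code of length 12: kernel computations (diagonal
automorphisms are `±1`; a transversal chain showing 5-transitivity of the permutation parts).
-/

set_option autoImplicit false

namespace Cfsg.Agent.Helper27

open Cfsg

/-- index of a position of the `4 × 3` array -/
def aIdx (p : ArrayPt) : ℕ := 3 * p.1.val + p.2.val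

/-- the position with a given index -/
def aPt (i : ℕ) : ArrayPt := (⟨i / 3 % 4, Nat.mod_lt _ (by norm_num)⟩, ((i % 3 : ℕ) : ZMod 3))

theorem aPt_aIdx : ∀ p : ArrayPt, aPt (aIdx p) = p := by decide

theorem aIdx_aPt : ∀ i < 12, aIdx (aPt i) = i := by decide

theorem aIdx_lt : ∀ p : ArrayPt, aIdx p < 12 := by decide

theorem aIdx_injective : Function.Injective aIdx := by
  intro p q h
  rw [← aPt_aIdx p, ← aPt_aIdx q, h]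

/-- `t` and `s` are mutually inverse tables on `[0, 12)` -/
def isInv12 (t s : List ℕ) : Bool :=
  (List.range 12).all fun i =>
    decide (t.getD i 0 < 12) && decide (s.getD i 0 < 12) &&
      (s.getD (t.getD i 0) 0 == i) && (t.getD (s.getD i 0) 0 == i)

theorem isInv12_spec {t s : List ℕ} (h : isInv12 t s = true) (i : ℕ) (hi : i < 12) :
    t.getD i 0 < 12 ∧ s.getD i 0 < 12 ∧ s.getD (t.getD i 0) 0 = i ∧ t.getD (s.getD i 0) 0 = i := by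
  unfold isInv12 at h
  rw [List.all_eq_true] at h
  have := h i (List.mem_range.2 hi)
  simp only [Bool.and_eq_true, decide_eq_true_eq, beq_iff_eq] at this
  tauto

/-- the function on positions given by a table -/
def tabFun12 (t : List ℕ) (p : ArrayPt) : ArrayPt := aPt (t.getD (aIdx p) 0)

/-- the permutation of the positions with table `t` and inverse table `s` -/
def tabPerm12 (t s : List ℕ) : Equiv.Perm ArrayPt :=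
  if h : isInv12 t s = true then
    ⟨tabFun12 t, tabFun12 s, by
      intro p
      obtain ⟨h1, -, h3, -⟩ := isInv12_spec h (aIdx p) (aIdx_lt p)
      unfold tabFun12
      rw [aIdx_aPt _ h1, h3, aPt_aIdx], by
      intro p
      obtain ⟨-, h2, -, h4⟩ := isInv12_spec h (aIdx p) (aIdx_lt p)
      unfold tabFun12
      rw [aIdx_aPt _ h2, h4, aPt_aIdx]⟩
  else 1

theorem tabPerm12_apply {t s : List ℕ} (h : isInv12 t s = true) (p : ArrayPt) :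
    tabPerm12 t s p = tabFun12 t p := by
  unfold tabPerm12
  rw [dif_pos h]
  rfl

theorem tabPerm12_symm_apply {t s : List ℕ} (h : isInv12 t s = true) (p : ArrayPt) :
    (tabPerm12 t s).symm p = tabFun12 s p := by
  unfold tabPerm12
  rw [dif_pos h]
  rfl

theorem tabPerm12_aPt {t s : List ℕ} (h : isInv12 t s = true) (i : ℕ) (hi : i < 12) :
    tabPerm12 t s (aPt i) = aPt (t.getD i 0) := by
  rw [tabPerm12_apply h, tabFun12, aIdx_aPt i hi]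

/-- the six generators of the code -/
def tgGen : Fin 6 → ArrayPt → ZMod 3 := ![tg0, tg1, tg2, tg3, tg4, tg5]

theorem tgEnc_eq (t : T6) : tgEnc t = t.1 • tgGen 0 + t.2.1 • tgGen 1 + t.2.2.1 • tgGen 2 +
    t.2.2.2.1 • tgGen 3 + t.2.2.2.2.1 • tgGen 4 + t.2.2.2.2.2 • tgGen 5 := rfl

theorem tgGen_mem (k : Fin 6) : tgGen k ∈ ternaryGolayCode := by
  fin_cases k
  · exact tg0_mem
  · exact tg1_mem
  · exact tg2_mem
  · exact tg3_mem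
  · exact tg4_mem
  · exact tg5_mem

theorem ternPres_iff_gens (σ : Equiv.Perm ArrayPt) (c : ArrayPt → (ZMod 3)ˣ) :
    MonoPres ternaryGolayCode σ c ↔ ∀ k : Fin 6, monomialMap σ c (tgGen k) ∈ ternaryGolayCode := by
  constructor
  · intro h k
    exact h _ (tgGen_mem k)
  · intro h x hx
    obtain ⟨t, rfl⟩ := (mem_ternaryGolayCode_iff_exists x).1 hx
    rw [tgEnc_eq]
    simp only [monomialMap_add, monomialMap_smul]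
    exact add_mem (add_mem (add_mem (add_mem (add_mem
      (Submodule.smul_mem _ _ (h 0)) (Submodule.smul_mem _ _ (h 1)))
      (Submodule.smul_mem _ _ (h 2))) (Submodule.smul_mem _ _ (h 3)))
      (Submodule.smul_mem _ _ (h 4))) (Submodule.smul_mem _ _ (h 5))

/-- the sign vector with mask `m` -/
def sgnU (m : ℕ) (p : ArrayPt) : (ZMod 3)ˣ := if m.testBit (aIdx p) then -1 else 1

/-- the value of the sign vector, in `ZMod 3` -/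
def sgnV (m : ℕ) (p : ArrayPt) : ZMod 3 := if m.testBit (aIdx p) then 2 else 1

theorem sgnU_val (m : ℕ) (p : ArrayPt) : ((sgnU m p : (ZMod 3)ˣ) : ZMod 3) = sgnV m p := by
  unfold sgnU sgnV
  split <;> rfl

/-- every sign vector comes from a mask -/
theorem exists_mask (c : ArrayPt → (ZMod 3)ˣ) : ∃ m < 4096, c = sgnU m := by
  refine ⟨Nat.ofBits fun i : Fin 12 => decide (c (aPt i) = -1), Nat.ofBits_lt_two_pow _, ?_⟩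
  funext p
  unfold sgnU
  rw [Nat.testBit_ofBits_lt _ _ (aIdx_lt p)]
  simp only [aPt_aIdx, decide_eq_true_eq]
  have hu : ∀ u : (ZMod 3)ˣ, u = 1 ∨ u = -1 := by decide
  rcases hu (c p) with h | h
  · rw [h]
    have : ¬ ((1 : (ZMod 3)ˣ) = -1) := by decide
    rw [if_neg this]
  · rw [h, if_pos rfl]

/-- kernel check that the table pair `(t, s)` with sign mask `m` is a monomial automorphism -/
def monoOK (t s : List ℕ) (m : ℕ) : Bool :=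
  isInv12 t s && decide (∀ k : Fin 6, IsTGW fun p => sgnV m p * tgGen k (tabFun12 s p))

theorem monoOK_sound {t s : List ℕ} {m : ℕ} (h : monoOK t s m = true) :
    isInv12 t s = true ∧ MonoPres ternaryGolayCode (tabPerm12 t s) (sgnU m) := by
  unfold monoOK at h
  rw [Bool.and_eq_true, decide_eq_true_eq] at h
  refine ⟨h.1, ?_⟩
  rw [ternPres_iff_gens]
  intro k
  rw [mem_ternaryGolayCode_iff]
  have : monomialMap (tabPerm12 t s) (sgnU m) (tgGen k) =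
      fun p => sgnV m p * tgGen k (tabFun12 s p) := by
    funext p
    simp only [monomialMap, sgnU_val, tabPerm12_symm_apply h.1]
  rw [this]
  exact h.2 k

/-! ### diagonal automorphisms -/

theorem diag_check : allRange (fun m => decide ((∀ k : Fin 6, IsTGW fun p => sgnV m p * tgGen k p) →
    m = 0 ∨ m = 4095)) 12 0 = true := by decide +kernel

theorem sgnU_const : ∀ m < 4096, (m = 0 ∨ m = 4095) → ∀ p q : ArrayPt, sgnU m p = sgnU m q := by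
  intro m _ hm p q
  rcases hm with rfl | rfl
  · unfold sgnU
    simp
  · unfold sgnU
    have : ∀ p : ArrayPt, (4095 : ℕ).testBit (aIdx p) = true := by decide
    rw [this p, this q]

theorem tern_diag (c : ArrayPt → (ZMod 3)ˣ) (h : MonoPres ternaryGolayCode 1 c) :
    ∀ i j, c i = c j := by
  obtain ⟨m, hm, rfl⟩ := exists_mask c
  rw [ternPres_iff_gens] at h
  have h1 := forall_lt_of_allRange _ 12 diag_check m hm
  rw [decide_eq_true_eq] at h1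
  apply sgnU_const m hm (h1 ?_)
  intro k
  have := h k
  rw [mem_ternaryGolayCode_iff] at this
  have e : monomialMap (1 : Equiv.Perm ArrayPt) (sgnU m) (tgGen k) =
      fun p => sgnV m p * tgGen k p := by
    funext p
    simp only [monomialMap, sgnU_val]
    rfl
  rw [e] at this
  exact this

/-! ### the transversal chain -/

/-- entries `(k, z, t, s, m)`: the monomial automorphism with tables `t`, `s` and sign mask `m` fixes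
the positions `0, …, k-1` and maps position `k` to `z` -/
def ternLevels : List (ℕ × ℕ × List ℕ × List ℕ × ℕ) :=
  [(0, 0, [0, 1, 2, 3, 4, 5, 6, 7, 8, 9, 10, 11], [0, 1, 2, 3, 4, 5, 6, 7, 8, 9, 10, 11], 0),
  (0, 1, [1, 0, 2, 3, 4, 5, 11, 9, 10, 7, 8, 6], [1, 0, 2, 3, 4, 5, 11, 9, 10, 7, 8, 6], 0),
  (0, 2, [2, 0, 1, 3, 4, 5, 8, 6, 7, 10, 11, 9], [1, 2, 0, 3, 4, 5, 7, 8, 6, 11, 9, 10], 0),
  (0, 3, [3, 0, 1, 2, 4, 5, 10, 7, 6, 8, 9, 11], [1, 2, 3, 0, 4, 5, 8, 7, 9, 10, 6, 11], 2764),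
  (0, 4, [4, 0, 1, 2, 3, 5, 6, 9, 10, 11, 7, 8], [1, 2, 3, 4, 0, 5, 6, 10, 11, 7, 8, 9], 1940),
  (0, 5, [5, 0, 1, 2, 3, 4, 9, 6, 8, 7, 11, 10], [1, 2, 3, 4, 5, 0, 7, 9, 8, 6, 11, 10], 3428),
  (0, 6, [6, 0, 1, 2, 3, 9, 5, 4, 7, 10, 8, 11], [1, 2, 3, 4, 7, 6, 0, 8, 10, 5, 9, 11], 2514),
  (0, 7, [7, 0, 1, 2, 3, 11, 10, 8, 9, 4, 5, 6], [1, 2, 3, 4, 9, 10, 11, 0, 7, 8, 6, 5], 3102),
  (0, 8, [8, 0, 1, 2, 3, 10, 7, 11, 4, 6, 9, 5], [1, 2, 3, 4, 8, 11, 9, 6, 0, 10, 5, 7], 1224),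
  (0, 9, [9, 0, 1, 2, 3, 6, 4, 5, 11, 8, 10, 7], [1, 2, 3, 4, 6, 7, 5, 11, 9, 0, 10, 8], 3746),
  (0, 10, [10, 0, 1, 2, 3, 8, 11, 7, 5, 9, 6, 4], [1, 2, 3, 4, 11, 8, 10, 7, 5, 9, 0, 6], 2824),
  (0, 11, [11, 0, 1, 2, 3, 7, 8, 10, 6, 5, 4, 9], [1, 2, 3, 4, 10, 9, 8, 5, 6, 11, 7, 0], 430),
  (1, 1, [0, 1, 2, 3, 4, 5, 6, 7, 8, 9, 10, 11], [0, 1, 2, 3, 4, 5, 6, 7, 8, 9, 10, 11], 0),
  (1, 2, [0, 2, 1, 3, 4, 5, 9, 10, 11, 6, 7, 8], [0, 2, 1, 3, 4, 5, 9, 10, 11, 6, 7, 8], 0),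
  (1, 3, [0, 3, 1, 2, 4, 5, 11, 8, 9, 7, 6, 10], [0, 2, 3, 1, 4, 5, 10, 9, 7, 8, 11, 6], 2764),
  (1, 4, [0, 4, 1, 2, 3, 5, 8, 11, 7, 9, 10, 6], [0, 2, 3, 4, 1, 5, 11, 8, 6, 9, 10, 7], 1940),
  (1, 5, [0, 5, 1, 2, 3, 4, 10, 7, 11, 6, 8, 9], [0, 2, 3, 4, 5, 1, 9, 7, 10, 11, 6, 8], 3428),
  (1, 6, [0, 6, 1, 2, 3, 9, 11, 10, 8, 4, 7, 5], [0, 2, 3, 4, 9, 11, 1, 10, 8, 5, 7, 6], 2514),
  (1, 7, [0, 7, 1, 2, 3, 11, 6, 4, 5, 8, 9, 10], [0, 2, 3, 4, 7, 8, 6, 1, 9, 10, 11, 5], 3102),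
  (1, 8, [0, 8, 1, 2, 3, 10, 5, 6, 9, 11, 4, 7], [0, 2, 3, 4, 10, 6, 7, 11, 1, 8, 5, 9], 1224),
  (1, 9, [0, 9, 1, 2, 3, 6, 7, 8, 10, 5, 11, 4], [0, 2, 3, 4, 11, 9, 5, 6, 7, 1, 8, 10], 3746),
  (1, 10, [0, 10, 1, 2, 3, 8, 4, 9, 6, 7, 5, 11], [0, 2, 3, 4, 6, 10, 8, 9, 5, 7, 1, 11], 2824),
  (1, 11, [0, 11, 1, 2, 3, 7, 9, 5, 4, 10, 6, 8], [0, 2, 3, 4, 8, 7, 10, 5, 11, 6, 9, 1], 430),
  (2, 2, [0, 1, 2, 3, 4, 5, 6, 7, 8, 9, 10, 11], [0, 1, 2, 3, 4, 5, 6, 7, 8, 9, 10, 11], 0),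
  (2, 3, [0, 1, 3, 2, 4, 5, 7, 6, 10, 11, 8, 9], [0, 1, 3, 2, 4, 5, 7, 6, 10, 11, 8, 9], 2764),
  (2, 4, [0, 1, 4, 2, 3, 5, 9, 10, 6, 8, 11, 7], [0, 1, 3, 4, 2, 5, 8, 11, 9, 6, 7, 10], 1940),
  (2, 5, [0, 1, 5, 2, 3, 4, 6, 8, 9, 10, 7, 11], [0, 1, 3, 4, 5, 2, 6, 10, 7, 8, 9, 11], 3428),
  (2, 6, [0, 1, 6, 2, 3, 9, 4, 7, 5, 11, 10, 8], [0, 1, 3, 4, 6, 8, 2, 7, 11, 5, 10, 9], 2514),
  (2, 7, [0, 1, 7, 2, 3, 11, 8, 9, 10, 6, 4, 5], [0, 1, 3, 4, 10, 11, 9, 2, 6, 7, 8, 5], 3102),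
  (2, 8, [0, 1, 8, 2, 3, 10, 11, 4, 7, 5, 6, 9], [0, 1, 3, 4, 7, 9, 10, 8, 2, 11, 5, 6], 1224),
  (2, 9, [0, 1, 9, 2, 3, 6, 5, 11, 4, 7, 8, 10], [0, 1, 3, 4, 8, 6, 5, 9, 10, 2, 11, 7], 3746),
  (2, 10, [0, 1, 10, 2, 3, 8, 7, 5, 11, 4, 9, 6], [0, 1, 3, 4, 9, 7, 11, 6, 5, 10, 2, 8], 2824),
  (2, 11, [0, 1, 11, 2, 3, 7, 10, 6, 8, 9, 5, 4], [0, 1, 3, 4, 11, 10, 7, 5, 8, 9, 6, 2], 430),
  (3, 3, [0, 1, 2, 3, 4, 5, 6, 7, 8, 9, 10, 11], [0, 1, 2, 3, 4, 5, 6, 7, 8, 9, 10, 11], 0),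
  (3, 4, [0, 1, 2, 4, 3, 5, 10, 9, 11, 7, 6, 8], [0, 1, 2, 4, 3, 5, 10, 9, 11, 7, 6, 8], 0),
  (3, 5, [0, 1, 2, 5, 3, 4, 8, 6, 7, 11, 9, 10], [0, 1, 2, 4, 5, 3, 7, 8, 6, 10, 11, 9], 0),
  (3, 6, [0, 1, 2, 6, 3, 9, 7, 4, 10, 8, 5, 11], [0, 1, 2, 4, 7, 10, 3, 6, 9, 5, 8, 11], 6),
  (3, 7, [0, 1, 2, 7, 3, 11, 9, 8, 4, 5, 10, 6], [0, 1, 2, 4, 8, 9, 11, 3, 7, 6, 10, 5], 4090),
  (3, 8, [0, 1, 2, 8, 3, 10, 4, 11, 6, 9, 7, 5], [0, 1, 2, 4, 6, 11, 8, 10, 3, 9, 5, 7], 4092),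
  (3, 9, [0, 1, 2, 9, 3, 6, 11, 5, 8, 10, 4, 7], [0, 1, 2, 4, 10, 7, 5, 11, 8, 3, 9, 6], 6),
  (3, 10, [0, 1, 2, 10, 3, 8, 5, 7, 9, 6, 11, 4], [0, 1, 2, 4, 11, 6, 9, 7, 5, 8, 3, 10], 4092),
  (3, 11, [0, 1, 2, 11, 3, 7, 6, 10, 5, 4, 8, 9], [0, 1, 2, 4, 9, 8, 6, 5, 10, 11, 7, 3], 4090),
  (4, 4, [0, 1, 2, 3, 4, 5, 6, 7, 8, 9, 10, 11], [0, 1, 2, 3, 4, 5, 6, 7, 8, 9, 10, 11], 0),
  (4, 5, [0, 1, 2, 3, 5, 4, 9, 11, 10, 6, 8, 7], [0, 1, 2, 3, 5, 4, 9, 11, 10, 6, 8, 7], 0),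
  (4, 6, [0, 1, 2, 3, 6, 9, 5, 8, 11, 4, 7, 10], [0, 1, 2, 3, 9, 6, 4, 10, 7, 5, 11, 8], 6),
  (4, 7, [0, 1, 2, 3, 7, 11, 10, 5, 6, 8, 9, 4], [0, 1, 2, 3, 11, 7, 8, 4, 9, 10, 6, 5], 4090),
  (4, 8, [0, 1, 2, 3, 8, 10, 7, 9, 5, 11, 4, 6], [0, 1, 2, 3, 10, 8, 11, 6, 4, 7, 5, 9], 4092),
  (4, 9, [0, 1, 2, 3, 9, 6, 4, 10, 7, 5, 11, 8], [0, 1, 2, 3, 6, 9, 5, 8, 11, 4, 7, 10], 6),
  (4, 10, [0, 1, 2, 3, 10, 8, 11, 6, 4, 7, 5, 9], [0, 1, 2, 3, 8, 10, 7, 9, 5, 11, 4, 6], 4092),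
  (4, 11, [0, 1, 2, 3, 11, 7, 8, 4, 9, 10, 6, 5], [0, 1, 2, 3, 7, 11, 10, 5, 6, 8, 9, 4], 4090)]

theorem ternLevels_ok : ternLevels.all (fun e =>
    monoOK e.2.2.1 e.2.2.2.1 e.2.2.2.2 &&
      (List.range e.1).all (fun i => e.2.2.1.getD i 0 == i) && (e.2.2.1.getD e.1 0 == e.2.1)) = true := by
  decide +kernel

theorem ternLevels_complete : ∀ k < 5, ∀ z < 12, k ≤ z →
    ∃ e ∈ ternLevels, e.1 = k ∧ e.2.1 = z := by decide +kernel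

end Cfsg.Agent.Helper27
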