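import Mathlib
import Cfsg.Prelude.Def_SporadicCombinatorics

/-!
Explicit model of `Cfsg.ternaryGolayCode`: a systematic basis and the parametrisation of the 729 words.
-/

set_option autoImplicit false

namespace Cfsg.Agent.Helper27

open Cfsg

theorem sum_zmod3 {M : Type*} [AddCommMonoid M] (f : ZMod 3 → M) : ∑ r : ZMod 3, f r = f 0 + f 1 + f 2 :=
  Fin.sum_univ_three f

theorem mem_tetracode_iff (t : Fin 4 → ZMod 3) :
    t ∈ tetracode ↔ ∃ a b : ZMod 3, t = ![b, a, a + b, a + 2 * b] := by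
  unfold tetracode
  rw [Submodule.mem_span_pair]
  constructor
  · rintro ⟨a, b, rfl⟩
    refine ⟨a, b, ?_⟩
    ext i
    fin_cases i <;> simp [mul_comm]
  · rintro ⟨a, b, rfl⟩
    refine ⟨a, b, ?_⟩
    ext i
    fin_cases i <;> simp [mul_comm]

/-- decidable form of `IsTernaryGolayWord` -/
def IsTGW (x : ArrayPt → ZMod 3) : Prop :=
  ∃ s : ZMod 3, (∀ i : Fin 4, x (i, 0) + x (i, 1) + x (i, 2) = -s) ∧
    ∀ a b : ZMod 3, x (0, b) + x (1, a) + x (2, a + b) + x (3, a + 2 * b) = s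

instance (x : ArrayPt → ZMod 3) : Decidable (IsTGW x) := by
  unfold IsTGW; infer_instance

theorem isTernaryGolayWord_iff (x : ArrayPt → ZMod 3) : IsTernaryGolayWord x ↔ IsTGW x := by
  unfold IsTernaryGolayWord IsTGW
  constructor
  · rintro ⟨s, h1, h2⟩
    refine ⟨s, fun i => ?_, fun a b => ?_⟩
    · rw [← h1 i, sum_zmod3]
    · have := h2 ![b, a, a + b, a + 2 * b] ((mem_tetracode_iff _).mpr ⟨a, b, rfl⟩)
      rw [Fin.sum_univ_four] at this
      simpa using this
  · rintro ⟨s, h1, h2⟩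
    refine ⟨s, fun i => ?_, fun t ht => ?_⟩
    · rw [sum_zmod3, h1 i]
    · obtain ⟨a, b, rfl⟩ := (mem_tetracode_iff t).mp ht
      rw [Fin.sum_univ_four]
      simpa using h2 a b

theorem mem_ternaryGolayCode_iff (x : ArrayPt → ZMod 3) : x ∈ ternaryGolayCode ↔ IsTGW x :=
  isTernaryGolayWord_iff x

/-- a word given by the list of its 12 entries, position `(i, r)` at index `3 i + r` -/
def tgOfList (l : List (ZMod 3)) : ArrayPt → ZMod 3 := fun p => l.getD (3 * p.1.val + p.2.val) 0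

def tg0 : ArrayPt → ZMod 3 := tgOfList [1, 0, 0, 0, 0, 1, 0, 0, 1, 1, 1, 2]
def tg1 : ArrayPt → ZMod 3 := tgOfList [0, 1, 0, 0, 0, 1, 0, 2, 2, 2, 0, 2]
def tg2 : ArrayPt → ZMod 3 := tgOfList [0, 0, 1, 0, 0, 1, 0, 1, 0, 2, 1, 1]
def tg3 : ArrayPt → ZMod 3 := tgOfList [0, 0, 0, 1, 0, 2, 0, 2, 1, 2, 1, 0]
def tg4 : ArrayPt → ZMod 3 := tgOfList [0, 0, 0, 0, 1, 2, 0, 1, 2, 0, 1, 2]
def tg5 : ArrayPt → ZMod 3 := tgOfList [0, 0, 0, 0, 0, 0, 1, 1, 1, 2, 2, 2]

theorem tg0_mem : tg0 ∈ ternaryGolayCode := (mem_ternaryGolayCode_iff _).mpr (by decide +kernel)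
theorem tg1_mem : tg1 ∈ ternaryGolayCode := (mem_ternaryGolayCode_iff _).mpr (by decide +kernel)
theorem tg2_mem : tg2 ∈ ternaryGolayCode := (mem_ternaryGolayCode_iff _).mpr (by decide +kernel)
theorem tg3_mem : tg3 ∈ ternaryGolayCode := (mem_ternaryGolayCode_iff _).mpr (by decide +kernel)
theorem tg4_mem : tg4 ∈ ternaryGolayCode := (mem_ternaryGolayCode_iff _).mpr (by decide +kernel)
theorem tg5_mem : tg5 ∈ ternaryGolayCode := (mem_ternaryGolayCode_iff _).mpr (by decide +kernel)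

/-- the six information symbols -/
abbrev T6 : Type := ZMod 3 × ZMod 3 × ZMod 3 × ZMod 3 × ZMod 3 × ZMod 3

/-- the codeword with given information symbols -/
def tgEnc (t : T6) : ArrayPt → ZMod 3 :=
  t.1 • tg0 + t.2.1 • tg1 + t.2.2.1 • tg2 + t.2.2.2.1 • tg3 + t.2.2.2.2.1 • tg4 + t.2.2.2.2.2 • tg5

/-- the information symbols of a word: its entries at (0,0), (0,1), (0,2), (1,0), (1,1), (2,0) -/
def tgInfo (x : ArrayPt → ZMod 3) : T6 := (x (0, 0), x (0, 1), x (0, 2), x (1, 0), x (1, 1), x (2, 0))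

theorem tgEnc_mem (t : T6) : tgEnc t ∈ ternaryGolayCode := by
  unfold tgEnc
  exact ternaryGolayCode.add_mem (ternaryGolayCode.add_mem (ternaryGolayCode.add_mem
    (ternaryGolayCode.add_mem (ternaryGolayCode.add_mem
    (ternaryGolayCode.smul_mem _ tg0_mem) (ternaryGolayCode.smul_mem _ tg1_mem))
    (ternaryGolayCode.smul_mem _ tg2_mem)) (ternaryGolayCode.smul_mem _ tg3_mem))
    (ternaryGolayCode.smul_mem _ tg4_mem)) (ternaryGolayCode.smul_mem _ tg5_mem)

theorem tgInfo_tgEnc : ∀ t : T6, tgInfo (tgEnc t) = t := by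
  decide +kernel

theorem tgInfo_sub (x y : ArrayPt → ZMod 3) : tgInfo (x - y) = tgInfo x - tgInfo y := rfl

/-- a codeword vanishing at the six information positions is zero -/
theorem eq_zero_of_tgInfo_eq_zero {y : ArrayPt → ZMod 3} (hy : y ∈ ternaryGolayCode) (h0 : tgInfo y = 0) :
    y = 0 := by
  rw [mem_ternaryGolayCode_iff] at hy
  obtain ⟨s, hcol, htet⟩ := hy
  simp only [tgInfo, Prod.mk_eq_zero] at h0
  obtain ⟨h00, h01, h02, h10, h11, h20⟩ := h0
  have hs : s = 0 := by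
    have := hcol 0
    rw [h00, h01, h02] at this
    simpa using this.symm
  subst hs
  have hy0 : ∀ r : ZMod 3, y (0, r) = 0 := by
    intro r
    fin_cases r
    · exact h00
    · exact h01
    · exact h02
  have h12 : y (1, 2) = 0 := by
    have := hcol 1
    rw [h10, h11] at this
    simpa using this
  have hy1 : ∀ r : ZMod 3, y (1, r) = 0 := by
    intro r
    fin_cases r
    · exact h10
    · exact h11
    · exact h12
  -- y(2,u) + y(3,w) = 0 for all u, w
  have hcross : ∀ u w : ZMod 3, y (2, u) + y (3, w) = 0 := by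
    intro u w
    -- a + b = u, a + 2b = w  ⇒  b = w - u, a = 2u - w
    have h := htet (2 * u - w) (w - u)
    have e1 : (2 * u - w) + (w - u) = u := by ring
    have e2 : (2 * u - w) + 2 * (w - u) = w := by ring
    rw [e1, e2] at h
    rw [hy0, hy1] at h
    simpa using h
  have h3 : ∀ w : ZMod 3, y (3, w) = 0 := by
    intro w
    have := hcross 0 w
    rw [h20] at this
    simpa using this
  have h2 : ∀ u : ZMod 3, y (2, u) = 0 := by
    intro u
    have := hcross u 0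
    rw [h3 0] at this
    simpa using this
  funext p
  obtain ⟨i, r⟩ := p
  fin_cases i
  · exact hy0 r
  · exact hy1 r
  · exact h2 r
  · exact h3 r

theorem tgEnc_tgInfo {x : ArrayPt → ZMod 3} (hx : x ∈ ternaryGolayCode) : tgEnc (tgInfo x) = x := by
  have h : x - tgEnc (tgInfo x) = 0 := by
    apply eq_zero_of_tgInfo_eq_zero (ternaryGolayCode.sub_mem hx (tgEnc_mem _))
    rw [tgInfo_sub, tgInfo_tgEnc, sub_self]
  exact (sub_eq_zero.mp h).symm

theorem mem_ternaryGolayCode_iff_exists (x : ArrayPt → ZMod 3) :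
    x ∈ ternaryGolayCode ↔ ∃ t : T6, tgEnc t = x :=
  ⟨fun hx => ⟨tgInfo x, tgEnc_tgInfo hx⟩, fun ⟨t, ht⟩ => ht ▸ tgEnc_mem t⟩

theorem tgEnc_injective : Function.Injective tgEnc := by
  intro s t h
  rw [← tgInfo_tgEnc s, ← tgInfo_tgEnc t, h]

/-- counting codewords with a decidable property -/
theorem ncard_ternary_filter (P : (ArrayPt → ZMod 3) → Prop) [DecidablePred fun t : T6 => P (tgEnc t)] :
    {x | x ∈ ternaryGolayCode ∧ P x}.ncard = (Finset.univ.filter fun t : T6 => P (tgEnc t)).card := by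
  have : {x | x ∈ ternaryGolayCode ∧ P x} = tgEnc '' ((Finset.univ.filter fun t : T6 => P (tgEnc t)) : Finset T6) := by
    ext x
    simp only [Set.mem_ofPred_eq, Set.mem_image, Finset.coe_filter, Finset.mem_univ, true_and]
    constructor
    · rintro ⟨hx, hP⟩
      exact ⟨tgInfo x, by rwa [tgEnc_tgInfo hx], tgEnc_tgInfo hx⟩
    · rintro ⟨t, ht, rfl⟩
      exact ⟨tgEnc_mem t, ht⟩
  rw [this, Set.InjOn.ncard_image tgEnc_injective.injOn, Set.ncard_coe_finset]

theorem forall_ternary (P : (ArrayPt → ZMod 3) → Prop) (h : ∀ t : T6, P (tgEnc t)) :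
    ∀ x ∈ ternaryGolayCode, P x := by
  intro x hx
  rw [← tgEnc_tgInfo hx]
  exact h _

end Cfsg.Agent.Helper27
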